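import Cfsg.Agent.Lib.GraphClasses.Sim
import Cfsg.Agent.Lib.Symplectic.Std

/-!
Alternating matrices: congruence to `J`, determinants of their similitudes, and the orders of
projective similitude groups.
-/

set_option autoImplicit false
set_option linter.unusedSectionVars false

namespace Cfsg.Agent.Lib.GraphClasses

open Matrix

variable {F : Type*} [Field F] {ι κ : Type} [Fintype ι] [DecidableEq ι] [Fintype κ] [DecidableEq κ]

theorem exists_alt_congr [Finite F] {M : Matrix ι ι F} (ha : ∀ x : ι → F, x ⬝ᵥ M *ᵥ x = 0)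
    (hd : M.det ≠ 0) :
    ∃ (m : ℕ) (e : ι ≃ Fin m ⊕ Fin m) (P : GL (Fin m ⊕ Fin m) F),
      (P : Matrix (Fin m ⊕ Fin m) (Fin m ⊕ Fin m) F)ᵀ * Matrix.J (Fin m) F *
        (P : Matrix (Fin m ⊕ Fin m) (Fin m ⊕ Fin m) F) = Matrix.reindex e e M := by
  have hB : Symplectic.IsSympForm (Matrix.toLinearMap₂' F M) := by
    refine ⟨fun x => by rw [Matrix.toLinearMap₂'_apply']; exact ha x, fun x hx => ?_⟩
    have h0 : x ᵥ* M = 0 := funext fun j => by
      have := hx (Pi.single j 1)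
      rw [Matrix.toLinearMap₂'_apply', dotProduct_mulVec] at this
      simpa using this
    by_contra hx0
    exact hd (Matrix.exists_vecMul_eq_zero_iff.1 ⟨x, hx0, h0⟩)
  obtain ⟨m, hm⟩ := Symplectic.even_finrank hB
  rw [Module.finrank_fintype_fun_eq_card] at hm
  let e : ι ≃ Fin m ⊕ Fin m := Fintype.equivOfCardEq (by simp [hm])
  obtain ⟨f, hf⟩ := Symplectic.exists_isometry hB (Symplectic.isSympForm_stdForm m F)
    (by rw [Module.finrank_fintype_fun_eq_card, Symplectic.finrank_std, hm]; omega)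
  let g : (Fin m ⊕ Fin m → F) ≃ₗ[F] (Fin m ⊕ Fin m → F) := (LinearEquiv.funCongrLeft F F e).trans f
  let P : GL (Fin m ⊕ Fin m) F := ⟨LinearMap.toMatrix' g.toLinearMap, LinearMap.toMatrix' g.symm.toLinearMap,
    by rw [← LinearMap.toMatrix'_comp]; simp, by rw [← LinearMap.toMatrix'_comp]; simp⟩
  refine ⟨m, e, P, ext_of_form fun u v => ?_⟩
  have hP : ∀ x, (P : Matrix (Fin m ⊕ Fin m) (Fin m ⊕ Fin m) F) *ᵥ x = f (x ∘ e) := fun x =>
    LinearMap.toMatrix'_mulVec _ _
  rw [← gram_mulVec_mul, hP, hP, ← Symplectic.stdForm_eq_dot, hf, Matrix.toLinearMap₂'_apply',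
    Matrix.reindex_apply, Matrix.submatrix_mulVec_equiv, Equiv.symm_symm,
    ← comp_equiv_symm_dotProduct]
  rfl

/-- Alternating invertible matrices are congruent. -/
theorem exists_alt_congr_alt [Finite F] {M M' : Matrix ι ι F} (ha : ∀ x : ι → F, x ⬝ᵥ M *ᵥ x = 0)
    (hd : M.det ≠ 0) (ha' : ∀ x : ι → F, x ⬝ᵥ M' *ᵥ x = 0) (hd' : M'.det ≠ 0) :
    ∃ P : GL ι F, (P : Matrix ι ι F)ᵀ * M' * (P : Matrix ι ι F) = M := by
  have hB : ∀ {A : Matrix ι ι F}, (∀ x : ι → F, x ⬝ᵥ A *ᵥ x = 0) → A.det ≠ 0 →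
      Symplectic.IsSympForm (Matrix.toLinearMap₂' F A) := by
    intro A ha hd
    refine ⟨fun x => by rw [Matrix.toLinearMap₂'_apply']; exact ha x, fun x hx => ?_⟩
    have h0 : x ᵥ* A = 0 := funext fun j => by
      have := hx (Pi.single j 1)
      rw [Matrix.toLinearMap₂'_apply', dotProduct_mulVec] at this
      simpa using this
    by_contra hx0
    exact hd (Matrix.exists_vecMul_eq_zero_iff.1 ⟨x, hx0, h0⟩)
  obtain ⟨f, hf⟩ := Symplectic.exists_isometry (hB ha hd) (hB ha' hd') rfl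
  refine ⟨⟨LinearMap.toMatrix' f.toLinearMap, LinearMap.toMatrix' f.symm.toLinearMap,
    by rw [← LinearMap.toMatrix'_comp]; simp, by rw [← LinearMap.toMatrix'_comp]; simp⟩,
    ext_of_form fun u v => ?_⟩
  rw [← gram_mulVec_mul, LinearMap.toMatrix'_mulVec, LinearMap.toMatrix'_mulVec,
    ← Matrix.toLinearMap₂'_apply' M u v, ← Matrix.toLinearMap₂'_apply' M']
  exact hf u v

/-- Determinant of a similitude of `J`. -/
theorem det_simB_J {m : ℕ} {g : GL (Fin m ⊕ Fin m) F} {c : Fˣ}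
    (h : (g : Matrix (Fin m ⊕ Fin m) (Fin m ⊕ Fin m) F)ᵀ * Matrix.J (Fin m) F *
      (g : Matrix (Fin m ⊕ Fin m) (Fin m ⊕ Fin m) F) = (c : F) • Matrix.J (Fin m) F) :
    (g : Matrix (Fin m ⊕ Fin m) (Fin m ⊕ Fin m) F).det = (c : F) ^ m := by
  set D : Matrix (Fin m ⊕ Fin m) (Fin m ⊕ Fin m) F := Matrix.fromBlocks (((c⁻¹ : Fˣ) : F) • 1) 0 0 1
  have hD : Dᵀ * ((c : F) • Matrix.J (Fin m) F) * D = Matrix.J (Fin m) F := by
    simp only [D, Matrix.J, fromBlocks_transpose, fromBlocks_smul, fromBlocks_multiply]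
    simp [smul_smul]
  have hmem : (g : Matrix (Fin m ⊕ Fin m) (Fin m ⊕ Fin m) F) * D ∈ symplecticGroup (Fin m) F := by
    refine SymplecticGroup.mem_iff'.2 ?_
    refine Eq.trans ?_ hD
    rw [transpose_mul, ← h]
    simp only [Matrix.mul_assoc]
  have h1 := SymplecticGroup.det_eq_one hmem
  rw [det_mul, det_fromBlocks_zero₂₁, det_smul, det_one, mul_one, mul_one, Fintype.card_fin,
    Units.val_inv_eq_inv_val, inv_pow] at h1
  exact eq_of_div_eq_one (by rw [div_eq_mul_inv]; exact h1)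

theorem exists_simB_J (m : ℕ) (c : Fˣ) : ∃ g : GL (Fin m ⊕ Fin m) F,
    (g : Matrix (Fin m ⊕ Fin m) (Fin m ⊕ Fin m) F)ᵀ * Matrix.J (Fin m) F *
      (g : Matrix (Fin m ⊕ Fin m) (Fin m ⊕ Fin m) F) = (c : F) • Matrix.J (Fin m) F := by
  refine ⟨⟨Matrix.fromBlocks ((c : F) • 1) 0 0 1, Matrix.fromBlocks (((c⁻¹ : Fˣ) : F) • 1) 0 0 1,
    by simp [fromBlocks_multiply, smul_smul, fromBlocks_one],
    by simp [fromBlocks_multiply, smul_smul, fromBlocks_one]⟩, ?_⟩
  simp only [Matrix.J, fromBlocks_transpose, fromBlocks_smul, fromBlocks_multiply]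
  simp

theorem det_coordChange (e : ι ≃ κ) (P : GL κ F) (g : GL ι F) :
    (coordChange e P g : Matrix κ κ F).det = (g : Matrix ι ι F).det := by
  rw [coe_coordChange, det_mul, det_mul, det_reindex_self, mul_comm, ← mul_assoc, ← det_mul,
    Units.inv_mul, det_one, one_mul]

/-! ### Orders -/

/-- The isometries of `uᵀ M v`. -/
def isoB (M : Matrix ι ι F) : Subgroup (GL ι F) where
  carrier := {g | (g : Matrix ι ι F)ᵀ * M * (g : Matrix ι ι F) = M}
  one_mem' := by simp
  mul_mem' {a b} ha hb := by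
    simp only [Set.mem_ofPred_eq, Units.val_mul, transpose_mul] at ha hb ⊢
    calc _ = (b : Matrix ι ι F)ᵀ * ((a : Matrix ι ι F)ᵀ * M * (a : Matrix ι ι F)) * (b : Matrix ι ι F) := by
          simp only [Matrix.mul_assoc]
      _ = M := by rw [ha, hb]
  inv_mem' {a} ha := by
    simp only [Set.mem_ofPred_eq] at ha ⊢
    calc _ = ((a⁻¹ : GL ι F) : Matrix ι ι F)ᵀ * ((a : Matrix ι ι F)ᵀ * M * (a : Matrix ι ι F)) *
          ((a⁻¹ : GL ι F) : Matrix ι ι F) := by rw [ha]
      _ = (((a⁻¹ : GL ι F) : Matrix ι ι F)ᵀ * (a : Matrix ι ι F)ᵀ) * M *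
          ((a : Matrix ι ι F) * ((a⁻¹ : GL ι F) : Matrix ι ι F)) := by simp only [Matrix.mul_assoc]
      _ = M := by rw [← transpose_mul, Units.mul_inv, transpose_one, Matrix.one_mul, Matrix.mul_one]

theorem mem_isoB {M : Matrix ι ι F} {g : GL ι F} :
    g ∈ isoB M ↔ (g : Matrix ι ι F)ᵀ * M * (g : Matrix ι ι F) = M := Iff.rfl

/-- If every scalar is a multiplier, `|PGO| = |O|`. -/
theorem card_projQuot_simB [Fintype F] [Nonempty ι] {M : Matrix ι ι F} (hd : M.det ≠ 0)
    (hsurj : ∀ c : Fˣ, ∃ g : GL ι F, (g : Matrix ι ι F)ᵀ * M * (g : Matrix ι ι F) = (c : F) • M) :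
    Nat.card (Cfsg.projQuot (simB M)) = Nat.card (isoB M) := by
  classical
  have hM : M ≠ 0 := fun h => hd (by rw [h, det_zero])
  have hu : ∀ {a b : Fˣ}, (a : F) • M = (b : F) • M → a = b := fun h =>
    Units.ext (smul_left_injective F hM h)
  choose mu hmu using fun g : simB M => mem_simB.1 g.2
  let φ : simB M →* Fˣ := MonoidHom.mk' mu fun a b => hu (by
    rw [← hmu (a * b), Units.val_mul, ← smul_smul, ← hmu b]
    show (_ * _)ᵀ * M * (_ * _) = _
    rw [transpose_mul, ← Matrix.smul_mul, ← Matrix.mul_smul, ← hmu a]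
    simp only [Matrix.mul_assoc])
  have hker : φ.ker = (isoB M).subgroupOf (simB M) := by
    ext g
    rw [MonoidHom.mem_ker, Subgroup.mem_subgroupOf, mem_isoB, hmu g]
    exact ⟨fun h => by rw [show mu g = 1 from h, Units.val_one, one_smul],
      fun h => hu (h.trans (by rw [Units.val_one, one_smul]))⟩
  have hle : isoB M ≤ simB M := fun g hg =>
    mem_simB.2 ⟨1, by rw [mem_isoB.1 hg, Units.val_one, one_smul]⟩
  have hφ : Function.Surjective φ := fun c => by
    obtain ⟨g, hg⟩ := hsurj c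
    exact ⟨⟨g, mem_simB.2 ⟨c, hg⟩⟩, hu ((hmu _).symm.trans hg)⟩
  have h1 := Subgroup.card_eq_card_quotient_mul_card_subgroup φ.ker
  rw [Nat.card_congr (QuotientGroup.quotientKerEquivOfSurjective φ hφ).toEquiv, hker,
    Nat.card_congr (Subgroup.subgroupOfEquivOfLe hle).toEquiv] at h1
  have h2 := Subgroup.card_eq_card_quotient_mul_card_subgroup
    ((Cfsg.Geo.scalars ι F).subgroupOf (simB M))
  have hsc : Nat.card (Cfsg.Geo.scalars ι F) = Nat.card Fˣ := by
    have hinj : Function.Injective (Units.map (Matrix.scalar ι : F →+* Matrix ι ι F).toMonoidHom) :=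
      Units.map_injective fun a b h => Matrix.scalar_inj.1 h
    exact (Nat.card_congr (MonoidHom.ofInjective hinj).toEquiv).symm
  rw [Nat.card_congr (Subgroup.subgroupOfEquivOfLe (scalars_le_simB M)).toEquiv, hsc, h1, mul_comm] at h2
  exact (mul_right_cancel₀ Nat.card_pos.ne' h2).symm

theorem card_isoB_J [Fintype F] (m : ℕ) :
    Nat.card (isoB (Matrix.J (Fin m) F)) = Nat.card (symplecticGroup (Fin m) F) := by
  refine Nat.card_congr
    { toFun := fun g => ⟨(g.1 : Matrix (Fin m ⊕ Fin m) (Fin m ⊕ Fin m) F), SymplecticGroup.mem_iff'.2 (mem_isoB.1 g.2)⟩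
      invFun := fun A => ⟨((Matrix.isUnit_iff_isUnit_det A.1).2
        (SymplecticGroup.symplectic_det A.2)).unit, SymplecticGroup.mem_iff'.1 A.2⟩
      left_inv := fun g => Subtype.ext (Units.ext rfl)
      right_inv := fun A => rfl }

open QuadraticMap in
theorem card_isoB_gram (h2 : (2 : F) ≠ 0) (Q : QuadraticForm F (ι → F)) {f : (ι → F) → F}
    (hf : ∀ v, f v = Q v) :
    Nat.card (Cfsg.isometryGroup F f) = Nat.card (isoB (Forms.gram Q)) := by
  refine Nat.card_congr (Equiv.subtypeEquivRight fun g => ?_)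
  constructor
  · intro h
    refine mem_isoB.2 (ext_of_form fun u v => ?_)
    have h' : ∀ v, f ((g : Matrix ι ι F) *ᵥ v) = f v := fun v => h v v
    rw [← gram_mulVec_mul, ← Forms.polar_eq_gram, ← Forms.polar_eq_gram, polar, polar,
      ← Matrix.mulVec_add, ← hf, ← hf, ← hf, ← hf, ← hf, ← hf, h', h', h']
  · intro h u _
    show f ((g : Matrix ι ι F) *ᵥ u) = f u
    rw [hf, hf]
    refine mul_left_cancel₀ h2 ?_
    rw [← Forms.polar_self', ← Forms.polar_self', Forms.polar_eq_gram, Forms.polar_eq_gram,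
      gram_mulVec_mul, mem_isoB.1 h]

end Cfsg.Agent.Lib.GraphClasses
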