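import Cfsg.Agent.Lib.GraphClasses.Sim
import Cfsg.Agent.Lib.AutPSL.Classes
import Cfsg.Agent.Lib.AutPSL.Card

/-!
Graph involutions of `PSL_n` as forms: `gphH H` for an invertible `H`, centraliser the similitudes
of `uᵀ H v`, conjugacy under `PGL_n` congruence up to a scalar.
-/

set_option autoImplicit false
set_option linter.unusedSectionVars false
set_option linter.style.haveILetI false

namespace Cfsg.Agent.Lib.GraphClasses

open Matrix AutPSL

variable {n : ℕ} {F : Type*} [Field F]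

local notation "PSLn" => Matrix.ProjectiveSpecialLinearGroup (Fin n) F
local notation "GLn" => GL (Fin n) F
local notation "Mn" => Matrix (Fin n) (Fin n) F
local notation "𝕫" c:max => GeneralLinearGroup.scalar (Fin n) c

/-- The graph automorphism of a form. -/
noncomputable def gphH (H : GLn) : MulAut PSLn := conjAut H⁻¹ * invT

theorem coe_scalar_mul (c : Fˣ) (g : GLn) : ((𝕫 c * g : GLn) : Mn) = (c : F) • (g : Mn) := by
  rw [Units.val_mul, GeneralLinearGroup.coe_scalar, scalar_apply, ← smul_one_eq_diagonal,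
    Matrix.smul_mul, Matrix.one_mul]

theorem zcomm (c : Fˣ) (g : GLn) : Commute (𝕫 c) g := GeneralLinearGroup.scalar_commute c g

theorem exists_gphH {γ : MulAut PSLn} (hγ : Cfsg.IsGraphAutClassPSL γ) : ∃ H : GLn, γ = gphH H := by
  obtain ⟨-, δ, ι, hδ, hι, rfl⟩ := hγ
  obtain ⟨g, rfl⟩ := (isInnerDiagonalAutPSL_iff δ).1 hδ
  rw [(isInverseTransposeAutPSL_iff ι).1 hι]
  exact ⟨g⁻¹, by rw [gphH, inv_inv]⟩

theorem isGraphAutClassPSL_gphH (hn : 3 ≤ n) (H : GLn) : Cfsg.IsGraphAutClassPSL (gphH H) :=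
  ⟨hn, _, _, (isInnerDiagonalAutPSL_iff _).2 ⟨_, rfl⟩, (isInverseTransposeAutPSL_iff _).2 rfl, rfl⟩

theorem gphH_ne_one (hn : 3 ≤ n) (H : GLn) : gphH H ≠ 1 := by
  intro h
  refine conj_field_ne_invT hn H (1 : F ≃+* F) ?_
  rw [map_one, mul_one, ← inv_inv H, map_inv]
  exact (eq_inv_of_mul_eq_one_right h).symm

theorem gphH_eq_iff (hn : 2 ≤ n) (H H' : GLn) :
    gphH H = gphH H' ↔ ∃ c : Fˣ, (H' : Mn) = (c : F) • (H : Mn) := by
  rw [gphH, gphH, mul_left_inj, conjAut_eq_iff hn]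
  constructor
  · rintro ⟨c, hc⟩
    refine ⟨c⁻¹, ?_⟩
    rw [← coe_scalar_mul, ← Units.ext_iff, map_inv, ← inv_inv H', hc, _root_.mul_inv_rev, inv_inv]
    exact (zcomm c H).inv_left.eq.symm
  · rintro ⟨c, hc⟩
    refine ⟨c⁻¹, ?_⟩
    have : H' = 𝕫 c * H := Units.ext (hc.trans (coe_scalar_mul c H).symm)
    rw [this, _root_.mul_inv_rev, map_inv]
    exact ((zcomm c H⁻¹).inv_left).eq.symm

theorem gphH_sq (H : GLn) : gphH H * gphH H = conjAut (H⁻¹ * glInvT H⁻¹) := by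
  rw [gphH, mul_assoc, ← mul_assoc invT, invT_mul_conjAut, mul_assoc (conjAut (glInvT _)),
    invT_mul_self, mul_one, map_mul]

theorem coe_glInvT_inv (H : GLn) : (glInvT H⁻¹ : Mn) = (H : Mn)ᵀ := by
  show (((H⁻¹)⁻¹ : GLn) : Mn)ᵀ = _
  rw [inv_inv]

theorem sq_eq_one_iff (hn : 2 ≤ n) (H : GLn) :
    gphH H * gphH H = 1 ↔ ∃ c : Fˣ, (H : Mn)ᵀ = (c : F) • (H : Mn) := by
  rw [gphH_sq]
  constructor
  · intro h
    obtain ⟨c, hc⟩ := exists_scalar_of_conjAut_eq_one hn h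
    refine ⟨c, ?_⟩
    rw [← coe_glInvT_inv, ← coe_scalar_mul, ← Units.ext_iff, GeneralLinearGroup.scalar_commute, ← hc,
      ← mul_assoc, mul_inv_cancel, one_mul]
  · rintro ⟨c, hc⟩
    have : glInvT H⁻¹ = H * 𝕫 c := by
      rw [← GeneralLinearGroup.scalar_commute]
      exact Units.ext ((coe_glInvT_inv H).trans (hc.trans (coe_scalar_mul c H).symm))
    rw [this, inv_mul_cancel_left, conjAut_scalar]

theorem orderOf_gphH (hn : 3 ≤ n) (H : GLn) :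
    orderOf (gphH H) = 2 ↔ ∃ c : Fˣ, (H : Mn)ᵀ = (c : F) • (H : Mn) := by
  rw [← sq_eq_one_iff (by omega), orderOf_eq_prime_iff, sq]
  exact ⟨fun h => h.1, fun h => ⟨h, gphH_ne_one hn H⟩⟩

theorem transpose_eq {H : GLn} (hn : 1 ≤ n) {c : Fˣ} (h : (H : Mn)ᵀ = (c : F) • (H : Mn)) :
    (H : Mn)ᵀ = (H : Mn) ∨ (H : Mn)ᵀ = -(H : Mn) := by
  have h1 := congrArg Matrix.transpose h
  rw [transpose_transpose, transpose_smul, h, smul_smul] at h1
  have hne : (H : Mn) ≠ 0 := fun h0 => by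
    have := congrArg Matrix.det h0
    haveI hne' : Nonempty (Fin n) := ⟨⟨0, hn⟩⟩
    rw [det_zero] at this
    exact ((Matrix.isUnit_iff_isUnit_det _).1 H.isUnit).ne_zero this
  have hc : (c : F) * c = 1 := by
    by_contra hc
    apply hne
    have : ((c : F) * c - 1) • (H : Mn) = 0 := by rw [sub_smul, one_smul, ← h1, sub_self]
    exact (smul_eq_zero.1 this).resolve_left (sub_ne_zero.2 hc)
  rcases mul_self_eq_one_iff.1 hc with h2 | h2
  · left; rw [h, h2, one_smul]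
  · right; rw [h, h2, neg_smul, one_smul]

theorem orderOf_gphH_of (hn : 3 ≤ n) (H : GLn) (h : (H : Mn)ᵀ = (H : Mn) ∨ (H : Mn)ᵀ = -(H : Mn)) :
    orderOf (gphH H) = 2 := by
  rw [orderOf_gphH hn]
  rcases h with h | h
  · exact ⟨1, by rw [h, Units.val_one, one_smul]⟩
  · exact ⟨-1, by rw [h, Units.val_neg, Units.val_one, neg_smul, one_smul]⟩

theorem exists_form (hn : 3 ≤ n) {γ : MulAut PSLn} (hγ : Cfsg.IsGraphAutClassPSL γ) (hγ2 : orderOf γ = 2) :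
    ∃ H : GLn, γ = gphH H ∧ ((H : Mn)ᵀ = (H : Mn) ∨ (H : Mn)ᵀ = -(H : Mn)) := by
  obtain ⟨H, rfl⟩ := exists_gphH hγ
  obtain ⟨c, hc⟩ := (orderOf_gphH hn H).1 hγ2
  exact ⟨H, rfl, transpose_eq (by omega) hc⟩

theorem conj_gphH (h H : GLn) :
    conjAut h * gphH H * (conjAut h : MulAut PSLn)⁻¹ = gphH (glInvT h * H * h⁻¹) := by
  rw [← map_inv, gphH, gphH, ← mul_assoc, ← map_mul, mul_assoc, invT_mul_conjAut, ← mul_assoc, ← map_mul]
  congr 2
  have hinv : glInvT h⁻¹ = (glInvT h)⁻¹ := by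
    refine eq_inv_of_mul_eq_one_left (Units.ext ?_)
    rw [Units.val_mul, coe_glInvT_inv]
    exact ((transpose_mul _ _).symm.trans (by rw [← Units.val_mul, inv_mul_cancel, Units.val_one, transpose_one]))
  rw [hinv, _root_.mul_inv_rev, _root_.mul_inv_rev, inv_inv]
  group

theorem isConjUnder_iff (hn : 2 ≤ n) (H H' : GLn) :
    Cfsg.IsConjUnder (Cfsg.inndiagPSL n F) (gphH H) (gphH H') ↔
      ∃ (P : GLn) (a : Fˣ), (P : Mn)ᵀ * (H : Mn) * (P : Mn) = (a : F) • (H' : Mn) := by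
  have key : ∀ h : GLn, ((glInvT h * H * h⁻¹ : GLn) : Mn) =
      ((h⁻¹ : GLn) : Mn)ᵀ * (H : Mn) * ((h⁻¹ : GLn) : Mn) := fun h => rfl
  constructor
  · rintro ⟨_, hk, e⟩
    rw [inndiagPSL_eq_range] at hk
    obtain ⟨h, rfl⟩ := hk
    rw [conj_gphH, gphH_eq_iff hn] at e
    obtain ⟨c, hc⟩ := e
    exact ⟨h⁻¹, c, by rw [← key, hc]⟩
  · rintro ⟨P, a, h⟩
    refine ⟨conjAut P⁻¹, conjAut_mem_inndiag _, ?_⟩
    rw [conj_gphH, gphH_eq_iff hn]
    exact ⟨a, by rw [key, inv_inv, h]⟩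

theorem mem_cent_gphH (hn : 2 ≤ n) (H g : GLn) :
    g ∈ cent (gphH H) ↔ g ∈ simB (H : Mn) := by
  rw [mem_cent, gphH, ← mul_assoc, ← map_mul, mul_assoc, invT_mul_conjAut, ← mul_assoc, ← map_mul,
    mul_left_inj, conjAut_eq_iff hn, mem_simB]
  have hT : (((glInvT g)⁻¹ : GLn) : Mn) = (g : Mn)ᵀ := rfl
  constructor
  · rintro ⟨z, hz⟩
    refine ⟨z⁻¹, ?_⟩
    rw [← hT, ← coe_scalar_mul, ← Units.val_mul, ← Units.val_mul, ← Units.ext_iff, map_inv]
    have : glInvT g = H * (𝕫 z * (g * H⁻¹)) := by rw [← hz, mul_inv_cancel_left]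
    rw [this]
    have e1 : H * (𝕫 z * (g * H⁻¹)) = 𝕫 z * (H * g * H⁻¹) := by
      rw [← mul_assoc, ← (zcomm z H).eq]; group
    rw [e1, _root_.mul_inv_rev, mul_assoc, mul_assoc, ← mul_assoc (𝕫 z)⁻¹, (zcomm z H).inv_left.eq]
    have hcg : (𝕫 z)⁻¹ * g = g * (𝕫 z)⁻¹ := (zcomm z g).inv_left.eq
    calc (H * g * H⁻¹)⁻¹ * (H * (𝕫 z)⁻¹ * g) = H * g⁻¹ * ((𝕫 z)⁻¹ * g) := by group
      _ = H * (𝕫 z)⁻¹ := by rw [hcg]; group
  · rintro ⟨c, hc⟩
    refine ⟨c⁻¹, ?_⟩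
    rw [← hT, ← coe_scalar_mul, ← Units.val_mul, ← Units.val_mul, ← Units.ext_iff] at hc
    have : glInvT g = H * g * (𝕫 c * H)⁻¹ := by rw [← hc]; group
    rw [this, map_inv, _root_.mul_inv_rev, (zcomm c (g * H⁻¹)).inv_left.eq]
    group

/-- `C_{PGL}(γ) ≅` projective similitudes. -/
theorem nonempty_cent (hn : 2 ≤ n) (H : GLn) :
    Nonempty (↥(Cfsg.inndiagPSL n F ⊓ Subgroup.centralizer {gphH H}) ≃*
      Cfsg.projQuot (simB (H : Mn))) := by
  have hce : cent (gphH H) = simB (H : Mn) := Subgroup.ext (mem_cent_gphH hn H)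
  let φ := (conjAut : GLn →* MulAut PSLn).comp (simB (H : Mn)).subtype
  have hr : φ.range = Cfsg.inndiagPSL n F ⊓ Subgroup.centralizer {gphH H} := by
    rw [inndiag_inf_centralizer, hce, MonoidHom.range_comp, Subgroup.range_subtype]
  have hk : φ.ker = (Cfsg.Geo.scalars (Fin n) F).subgroupOf (simB (H : Mn)) := by
    ext ⟨g, hg⟩
    rw [MonoidHom.mem_ker, Subgroup.mem_subgroupOf, mem_scalars]
    constructor
    · intro h
      obtain ⟨c, hc⟩ := exists_scalar_of_conjAut_eq_one hn (g := g) h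
      exact ⟨c, hc.symm⟩
    · rintro ⟨c, hc⟩
      show conjAut g = 1
      rw [show g = 𝕫 c from hc.symm, conjAut_scalar]
  exact ⟨((MulEquiv.subgroupCongr hr).symm.trans (QuotientGroup.quotientKerEquivRange φ).symm).trans
    (QuotientGroup.quotientMulEquivOfEq hk)⟩

theorem splitClassCount_gphH (hn : 2 ≤ n) [Finite F] (H : GLn) (U : Subgroup Fˣ)
    (h1 : ∀ g ∈ simB (H : Mn), GeneralLinearGroup.det g ∈ (powMonoidHom n : Fˣ →* Fˣ).range ⊔ U)
    (h2 : ∀ u ∈ U, ∃ g ∈ simB (H : Mn), GeneralLinearGroup.det g = u) :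
    Cfsg.splitClassCount (Cfsg.inndiagPSL n F) (Cfsg.Inn PSLn) (gphH H) = Nat.gcd n U.index := by
  refine splitClassCount_eq_gcd hn _ U (fun g hg => h1 g ((mem_cent_gphH hn H g).1 hg)) fun u hu => ?_
  obtain ⟨g, hg, e⟩ := h2 u hu
  exact ⟨g, (mem_cent_gphH hn H g).2 hg, e⟩

end Cfsg.Agent.Lib.GraphClasses
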