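import Cfsg.Agent.Lib.GraphClasses.Sim
import Cfsg.Agent.Lib.Forms.Basis
import Cfsg.Agent.Lib.OrthStd.Models
import Mathlib.LinearAlgebra.SymplecticGroup

/-!
Symmetric matrices over a finite field of odd characteristic: congruence by the square class of the
determinant, and the determinants of the three model forms.
-/

set_option autoImplicit false
set_option linter.unusedSectionVars false
set_option linter.unusedSimpArgs false
set_option linter.unnecessarySeqFocus false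

namespace Cfsg.Agent.Lib.GraphClasses

open Matrix QuadraticMap

variable {F : Type*} [Field F]

theorem exists_diag [Finite F] (h2 : (2 : F) ≠ 0) {α : F} (hα : ¬ IsSquare α) {k : ℕ}
    (H : Matrix (Fin (k + 1)) (Fin (k + 1)) F) (hs : Hᵀ = H) (hd : H.det ≠ 0) :
    ∃ (P : GL (Fin (k + 1)) F) (c : F), (c = 1 ∨ c = α) ∧
      (P : Matrix (Fin (k + 1)) (Fin (k + 1)) F)ᵀ * H * (P : Matrix (Fin (k + 1)) (Fin (k + 1)) F) =
        Matrix.diagonal (fun i => if i = Fin.last k then c else 1) := by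
  classical
  obtain ⟨b, hb, hone, hlast⟩ := Forms.exists_orth_basis_symm h2 hα k (Matrix.toBilin' H)
    ⟨fun x y => by
      rw [Matrix.toBilin'_apply', Matrix.toBilin'_apply', dotProduct_mulVec, ← mulVec_transpose, hs,
        dotProduct_comm]⟩
    (LinearMap.BilinForm.nondegenerate_toBilin'_of_det_ne_zero' H hd) (Module.finrank_fin_fun F)
  let A : Matrix (Fin (k + 1)) (Fin (k + 1)) F := Matrix.of fun i j => b j i
  have hA : IsUnit A := by
    rw [← Matrix.linearIndependent_cols_iff_isUnit]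
    exact b.linearIndependent
  have hcol : ∀ j, A *ᵥ Pi.single j 1 = b j := fun j => by
    funext i; simp [A, Matrix.mulVec_single_one]
  refine ⟨hA.unit, Matrix.toBilin' H (b (Fin.last k)) (b (Fin.last k)), hlast, ext_of_form fun u v => ?_⟩
  have hent : ∀ i j, ((A)ᵀ * H * A) i j = Matrix.toBilin' H (b i) (b j) := fun i j => by
    rw [Matrix.toBilin'_apply', ← hcol, ← hcol, gram_mulVec_mul, Matrix.mulVec_single_one,
      single_one_dotProduct]
    rfl
  congr 2
  ext i j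
  show ((A)ᵀ * H * A) i j = _
  rw [hent]
  by_cases hij : i = j
  · subst hij
    rw [diagonal_apply_eq]
    by_cases hl : i = Fin.last k
    · rw [if_pos hl, hl]
    · rw [if_neg hl, hone i hl]
  · rw [diagonal_apply_ne _ hij, hb i j hij]

theorem det_diag_last (k : ℕ) (c : F) :
    (Matrix.diagonal (fun i : Fin (k + 1) => if i = Fin.last k then c else 1)).det = c := by
  rw [det_diagonal, Finset.prod_ite_eq']
  simp

/-- Same square class of determinants: congruent. -/
theorem exists_congr [Finite F] (h2 : (2 : F) ≠ 0) {n : ℕ} {H H' : Matrix (Fin n) (Fin n) F}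
    (hs : Hᵀ = H) (hs' : H'ᵀ = H') (hd : H.det ≠ 0) (hd' : H'.det ≠ 0)
    (hsq : IsSquare (H.det * H'.det)) :
    ∃ P : GL (Fin n) F, (P : Matrix (Fin n) (Fin n) F)ᵀ * H' * (P : Matrix (Fin n) (Fin n) F) = H := by
  rcases n with - | k
  · exact ⟨1, Subsingleton.elim _ _⟩
  obtain ⟨α, hα⟩ := FiniteField.exists_nonsquare (F := F) (fun h => h2 (by
    have := ringChar.Nat.cast_ringChar (R := F)
    rw [h] at this; exact_mod_cast this))
  obtain ⟨P, c, hc, hP⟩ := exists_diag h2 hα H hs hd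
  obtain ⟨P', c', hc', hP'⟩ := exists_diag h2 hα H' hs' hd'
  have e : H.det * (P : Matrix (Fin (k + 1)) (Fin (k + 1)) F).det ^ 2 = c := by
    have := congrArg Matrix.det hP
    rw [det_mul, det_mul, det_transpose, det_diag_last] at this
    linear_combination this
  have e' : H'.det * (P' : Matrix (Fin (k + 1)) (Fin (k + 1)) F).det ^ 2 = c' := by
    have := congrArg Matrix.det hP'
    rw [det_mul, det_mul, det_transpose, det_diag_last] at this
    linear_combination this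
  have hcc : IsSquare (c * c') := by
    obtain ⟨r, hr⟩ := hsq
    refine ⟨r * (P : Matrix (Fin (k + 1)) (Fin (k + 1)) F).det * (P' : Matrix (Fin (k + 1)) (Fin (k + 1)) F).det, ?_⟩
    rw [← e, ← e']
    linear_combination ((P : Matrix (Fin (k + 1)) (Fin (k + 1)) F).det ^ 2 * (P' : Matrix (Fin (k + 1)) (Fin (k + 1)) F).det ^ 2) * hr
  have hceq : c = c' := by
    rcases hc with rfl | rfl <;> rcases hc' with rfl | rfl
    · rfl
    · exact absurd (by simpa using hcc) hα
    · exact absurd (by simpa using hcc) hα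
    · rfl
  subst hceq
  refine ⟨P' * P⁻¹, ?_⟩
  rw [Units.val_mul, transpose_mul, show ((P⁻¹ : GL (Fin (k + 1)) F) : Matrix (Fin (k + 1)) (Fin (k + 1)) F)ᵀ * (P' : Matrix (Fin (k + 1)) (Fin (k + 1)) F)ᵀ *
      H' * ((P' : Matrix (Fin (k + 1)) (Fin (k + 1)) F) * ((P⁻¹ : GL (Fin (k + 1)) F) : Matrix (Fin (k + 1)) (Fin (k + 1)) F)) =
      ((P⁻¹ : GL (Fin (k + 1)) F) : Matrix (Fin (k + 1)) (Fin (k + 1)) F)ᵀ * ((P' : Matrix (Fin (k + 1)) (Fin (k + 1)) F)ᵀ * H' * (P' : Matrix (Fin (k + 1)) (Fin (k + 1)) F)) *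
        ((P⁻¹ : GL (Fin (k + 1)) F) : Matrix (Fin (k + 1)) (Fin (k + 1)) F) by simp only [Matrix.mul_assoc], hP', ← hP,
    show ((P⁻¹ : GL (Fin (k + 1)) F) : Matrix (Fin (k + 1)) (Fin (k + 1)) F)ᵀ * ((P : Matrix (Fin (k + 1)) (Fin (k + 1)) F)ᵀ * H * (P : Matrix (Fin (k + 1)) (Fin (k + 1)) F)) *
      ((P⁻¹ : GL (Fin (k + 1)) F) : Matrix (Fin (k + 1)) (Fin (k + 1)) F) =
      (((P⁻¹ : GL (Fin (k + 1)) F) : Matrix (Fin (k + 1)) (Fin (k + 1)) F)ᵀ * (P : Matrix (Fin (k + 1)) (Fin (k + 1)) F)ᵀ) * H *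
        ((P : Matrix (Fin (k + 1)) (Fin (k + 1)) F) * ((P⁻¹ : GL (Fin (k + 1)) F) : Matrix (Fin (k + 1)) (Fin (k + 1)) F)) by simp only [Matrix.mul_assoc],
    ← transpose_mul, Units.mul_inv, transpose_one, Matrix.one_mul, Matrix.mul_one]

/-- In odd dimension all are similar. -/
theorem exists_similar [Finite F] (h2 : (2 : F) ≠ 0) {n : ℕ} (hn : Odd n) {H H' : Matrix (Fin n) (Fin n) F}
    (hs : Hᵀ = H) (hs' : H'ᵀ = H') (hd : H.det ≠ 0) (hd' : H'.det ≠ 0) :
    ∃ (P : GL (Fin n) F) (a : Fˣ),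
      (P : Matrix (Fin n) (Fin n) F)ᵀ * H' * (P : Matrix (Fin n) (Fin n) F) = (a : F) • H := by
  obtain ⟨k, rfl⟩ := hn
  obtain ⟨P, hP⟩ := exists_congr h2 (H := (H.det * H'.det) • H) (H' := H')
    (by rw [transpose_smul, hs]) hs'
    (by rw [det_smul]; exact mul_ne_zero (pow_ne_zero _ (mul_ne_zero hd hd')) hd) hd'
    ⟨(H.det * H'.det) ^ (k + 1), by rw [det_smul, Fintype.card_fin]; ring⟩
  exact ⟨P, Units.mk0 _ (mul_ne_zero hd hd'), hP⟩

/-- In even dimension every scalar is a multiplier. -/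
theorem exists_mult [Finite F] (h2 : (2 : F) ≠ 0) {ι : Type} [Fintype ι] [DecidableEq ι]
    {M : Matrix ι ι F} (hs : Mᵀ = M) (hd : M.det ≠ 0) {m : ℕ} (hm : Fintype.card ι = 2 * m) (c : Fˣ) :
    ∃ g : GL ι F, (g : Matrix ι ι F)ᵀ * M * (g : Matrix ι ι F) = (c : F) • M := by
  let e := Fintype.equivFin ι
  obtain ⟨g, hg⟩ := exists_congr h2 (H := (c : F) • Matrix.reindex e e M) (H' := Matrix.reindex e e M)
    (by rw [transpose_smul, transpose_reindex, hs]) (by rw [transpose_reindex, hs])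
    (by rw [det_smul, det_reindex_self]; exact mul_ne_zero (pow_ne_zero _ c.ne_zero) hd)
    (by rwa [det_reindex_self])
    ⟨(c : F) ^ m * M.det, by rw [det_smul, det_reindex_self, Fintype.card_fin, hm]; ring⟩
  refine ⟨Units.mapEquiv (Matrix.reindexAlgEquiv F F e).toMulEquiv.symm g,
    (Matrix.reindexAlgEquiv F F e).injective ?_⟩
  set R := Matrix.reindexAlgEquiv F F e
  rw [map_mul, map_mul, map_smul]
  show (R (R.symm (g : Matrix _ _ F)))ᵀ * R M * R (R.symm (g : Matrix _ _ F)) = (c : F) • R M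
  rw [AlgEquiv.apply_symm_apply]
  exact hg

/-! ### Models -/

variable {ι : Type} [Fintype ι] [DecidableEq ι]

theorem gram_apply (Q : QuadraticForm F (ι → F)) (i j : ι) :
    Forms.gram Q i j = polar Q (Pi.single i 1) (Pi.single j 1) := by
  rw [← Forms.gram_mulVec, Matrix.mulVec_single_one]
  rfl

theorem gram_transpose (Q : QuadraticForm F (ι → F)) : (Forms.gram Q)ᵀ = Forms.gram Q := by
  ext i j
  rw [transpose_apply, gram_apply, gram_apply, polar_comm]

theorem gram_qPlus (m : ℕ) :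
    Forms.gram (Forms.qPlus (F := F) m) = Matrix.fromBlocks 0 1 1 0 := by
  ext i j
  rw [gram_apply, Forms.qPlus_polar]
  rcases i with i | i <;> rcases j with j | j <;>
    simp [Pi.single_apply, Matrix.one_apply, eq_comm]

theorem det_qPlus (m : ℕ) : (Forms.gram (Forms.qPlus (F := F) m)).det = (-1) ^ m := by
  have h : (Matrix.fromBlocks 0 1 1 0 : Matrix (Fin m ⊕ Fin m) (Fin m ⊕ Fin m) F) =
      Matrix.J (Fin m) F * Matrix.fromBlocks 1 0 0 (-1) := by
    rw [Matrix.J, Matrix.fromBlocks_multiply]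
    simp
  rw [gram_qPlus, h, det_mul, SymplecticGroup.det_eq_one (SymplecticGroup.J_mem _ _),
    det_fromBlocks_zero₂₁, det_one, det_neg, det_one, Fintype.card_fin]
  ring

theorem gram_qMinusC (m : ℕ) (a b : F) :
    Forms.gram (OrthStd.qMinusC m a b) =
      Matrix.fromBlocks (Matrix.fromBlocks 0 1 1 0) 0 0 !![2, a; a, 2 * b] := by
  ext i j
  rw [gram_apply, polar, ← OrthStd.quadFormMinus_eq, ← OrthStd.quadFormMinus_eq, ← OrthStd.quadFormMinus_eq]
  simp only [Cfsg.quadFormMinus, Pi.add_apply, add_mul, mul_add, Finset.sum_add_distrib]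
  rcases i with (i | i) | i <;> rcases j with (j | j) | j <;>
    (try fin_cases i) <;> (try fin_cases j) <;>
    simp [Pi.single_apply, Matrix.one_apply, eq_comm] <;> ring

theorem det_qMinusC (m : ℕ) (a b : F) :
    (Forms.gram (OrthStd.qMinusC m a b)).det = (-1) ^ m * (4 * b - a ^ 2) := by
  rw [gram_qMinusC, det_fromBlocks_zero₂₁, ← gram_qPlus, det_qPlus, det_fin_two_of]
  ring

theorem gram_qOddC (m : ℕ) :
    Forms.gram (OrthStd.qOddC m F) = Matrix.fromBlocks (Matrix.of fun _ _ : Unit => (2 : F)) 0 0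
      (Matrix.fromBlocks 0 1 1 0) := by
  ext i j
  rw [gram_apply, polar, ← OrthStd.quadFormOdd_eq, ← OrthStd.quadFormOdd_eq, ← OrthStd.quadFormOdd_eq]
  simp only [Cfsg.quadFormOdd, Pi.add_apply, add_mul, mul_add, Finset.sum_add_distrib]
  rcases i with i | (i | i) <;> rcases j with j | (j | j) <;>
    simp [Pi.single_apply, Matrix.one_apply, eq_comm] <;> ring

theorem det_qOddC (m : ℕ) : (Forms.gram (OrthStd.qOddC m F)).det = 2 * (-1) ^ m := by
  rw [gram_qOddC, det_fromBlocks_zero₂₁, ← gram_qPlus, det_qPlus, det_unique]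
  rfl

theorem not_isSquare_disc (h2 : (2 : F) ≠ 0) {a b : F}
    (hab : ∀ z₁ z₂ : F, z₁ ^ 2 + a * z₁ * z₂ + b * z₂ ^ 2 = 0 → z₁ = 0 ∧ z₂ = 0) :
    ¬ IsSquare (a ^ 2 - 4 * b) := by
  rintro ⟨s, hs⟩
  exact one_ne_zero ((hab ((s - a) / 2) 1 (by field_simp; linear_combination -hs)).2)

theorem exists_anisotropic [Finite F] (h2 : (2 : F) ≠ 0) :
    ∃ a b : F, ∀ z₁ z₂ : F, z₁ ^ 2 + a * z₁ * z₂ + b * z₂ ^ 2 = 0 → z₁ = 0 ∧ z₂ = 0 := by
  obtain ⟨ν, hν⟩ := FiniteField.exists_nonsquare (F := F) (fun h => h2 (by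
    have := ringChar.Nat.cast_ringChar (R := F)
    rw [h] at this; exact_mod_cast this))
  refine ⟨0, -ν, fun z₁ z₂ h => ?_⟩
  by_cases hz : z₂ = 0
  · subst hz
    exact ⟨by simpa using h, rfl⟩
  · exact absurd ⟨z₁ / z₂, by field_simp; linear_combination -h⟩ hν

end Cfsg.Agent.Lib.GraphClasses
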