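import Cfsg.Agent.Lib.OrthField.SplitTwo
import Cfsg.Agent.Lib.AutPSL.Split

/-!
Graph involutions of even-dimensional orthogonal groups in odd characteristic: the class splitting.
-/

set_option autoImplicit false
set_option linter.unusedSectionVars false
set_option linter.style.haveILetI false

namespace Cfsg.Agent.Lib.GraphClasses.Orth

open Module QuadraticMap Cfsg.Agent.Lib.Forms Cfsg.Agent.Lib.OrthStd Cfsg.Agent.Lib.OrthOmega
open Cfsg.Agent.Lib.OrthField
open scoped Matrix

variable {F : Type*} [Field F] [Finite F] {ι : Type} [Fintype ι] [DecidableEq ι]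
  {f : (ι → F) → F} (D : OF f)

/-- The linear map of a similarity. -/
noncomputable def lm (g : GS f) : (ι → F) →ₗ[F] (ι → F) := Matrix.toLin' (g.1 : Matrix ι ι F)

theorem lm_apply (g : GS f) (v : ι → F) : lm g v = (g.1 : Matrix ι ι F) *ᵥ v := rfl

theorem lm_mul (g h : GS f) (v : ι → F) : lm (g * h) v = lm g (lm h v) :=
  (Matrix.mulVec_mulVec v (g.1 : Matrix ι ι F) (h.1 : Matrix ι ι F)).symm

theorem lm_injective (g : GS f) : Function.Injective (lm g) :=
  Matrix.mulVec_injective_of_isUnit g.1.isUnit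

theorem Q_lm (g : GS f) (v : ι → F) : D.Q (lm g v) = (D.mult g : F) * D.Q v := by
  rw [lm_apply, ← D.hf, ← D.hf, D.mult_spec]

theorem polar_lm (g : GS f) (u v : ι → F) :
    polar D.Q (lm g u) (lm g v) = (D.mult g : F) * polar D.Q u v := by
  simp only [polar, ← map_add, Q_lm]
  ring

theorem iso_orefl_comm (g : GS f) (v : ι → F) :
    D.iso (orefl D.Q (lm g v)) * g = g * D.iso (orefl D.Q v) := by
  refine D.ext_mulVec fun x => ?_
  rw [← lm_apply, ← lm_apply, lm_mul, lm_mul, lm_apply (D.iso _), lm_apply (D.iso _), D.iso_apply,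
    D.iso_apply]
  show refl D.Q (lm g v) (lm g x) = lm g (refl D.Q v x)
  rw [refl_apply, refl_apply, map_sub, map_smul, Q_lm, polar_lm, _root_.mul_inv_rev, mul_assoc,
    inv_mul_cancel_left₀ (Units.ne_zero _)]

theorem commute_pair (g : GS f) {u w : ι → F}
    (h : orefl D.Q (lm g u) * orefl D.Q (lm g w) = orefl D.Q u * orefl D.Q w) :
    Commute (D.iso (orefl D.Q u * orefl D.Q w)) g := by
  show _ = _
  conv_lhs => rw [← h]
  rw [map_mul, map_mul, mul_assoc, iso_orefl_comm, ← mul_assoc, iso_orefl_comm, mul_assoc]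

theorem pair_props (h2 : (2 : F) ≠ 0) {u w : ι → F} (hu : D.Q u ≠ 0) (hw : D.Q w ≠ 0)
    (hns : ¬ IsSquare (D.Q u * D.Q w)) :
    dickson D.Q (orefl D.Q u * orefl D.Q w) = 0 ∧ D.spin h2 (orefl D.Q u * orefl D.Q w) ≠ 1 := by
  refine ⟨by rw [D.dickson_mul', D.dickson_orefl' hu, D.dickson_orefl' hw]; rfl, fun h => hns ?_⟩
  have hn : 2 ≤ finrank F (ι → F) := by have := D.h7'; omega
  have := (Orth52.spinHom_oreflProd_eq_one_iff D.nd h2 hn [u, w] (by
    intro v hv
    simp only [List.mem_cons, List.not_mem_nil, or_false] at hv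
    rcases hv with rfl | rfl <;> assumption))
  simp only [Orth52.oreflProd, List.map_cons, List.map_nil, List.prod_cons, List.prod_nil, mul_one] at this
  exact this.1 h

theorem orefl_smul {v : ι → F} {t : F} (ht : t ≠ 0) : orefl D.Q (t • v) = orefl D.Q v := by
  refine orth_ext fun x => ?_
  show refl D.Q (t • v) x = refl D.Q v x
  rw [refl_apply, refl_apply, Q_smul, polar_smul_left, smul_eq_mul, smul_smul]
  congr 2
  field_simp

theorem orefl_comm {u v : ι → F} (h : polar D.Q u v = 0) :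
    orefl D.Q u * orefl D.Q v = orefl D.Q v * orefl D.Q u := by
  refine orth_ext fun x => ?_
  show refl D.Q u (refl D.Q v x) = refl D.Q v (refl D.Q u x)
  simp only [refl_apply, polar_sub_right, polar_smul_right, h, polar_comm (⇑D.Q) v u, smul_eq_mul,
    mul_zero, sub_zero]
  abel

theorem orefl_mul_self (v : ι → F) : orefl D.Q v * orefl D.Q v = 1 :=
  Subtype.ext (refl_mul_self D.Q v)

/-! ### An anisotropic vector orthogonal to few given ones -/

theorem exists_perp (h2 : (2 : F) ≠ 0) {k : ℕ} (u : Fin k → ι → F) (hk : k < Fintype.card ι)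
    (hu : ∀ i, D.Q (u i) ≠ 0) (ho : ∀ i j, i ≠ j → polar D.Q (u i) (u j) = 0) :
    ∃ v, D.Q v ≠ 0 ∧ ∀ i, polar D.Q (u i) v = 0 := by
  set p : (ι → F) → (ι → F) := fun v => v - ∑ i, ((2 * D.Q (u i))⁻¹ * polar D.Q (u i) v) • u i
  have hperp : ∀ v l, polar D.Q (u l) (p v) = 0 := fun v l => by
    have h1 : polar D.Q (u l) (p v) =
        polar D.Q (u l) v - ∑ i, ((2 * D.Q (u i))⁻¹ * polar D.Q (u i) v) * polar D.Q (u l) (u i) := by
      show polarBilin D.Q (u l) _ = _
      simp only [p, map_sub, map_sum, map_smul, smul_eq_mul, polarBilin_apply_apply]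
    rw [h1, Finset.sum_eq_single l (fun i _ hi => by rw [ho l i (Ne.symm hi), mul_zero])
      (fun h => absurd (Finset.mem_univ l) h), polar_self']
    have := hu l
    field_simp
    ring
  by_contra hno
  push Not at hno
  have hQ : ∀ v, D.Q (p v) = 0 := fun v => by
    by_contra h
    obtain ⟨i, hi⟩ := hno _ h
    exact hi (hperp v i)
  have hadd : ∀ x y, p (x + y) = p x + p y := fun x y => by
    simp only [p, polar_add_right, mul_add, add_smul, Finset.sum_add_distrib]
    abel
  have hzero : ∀ x, p x = 0 := fun x => D.nd _ fun y => by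
    have hy : y = p y + ∑ i, ((2 * D.Q (u i))⁻¹ * polar D.Q (u i) y) • u i := by simp [p]
    have h1 : polar D.Q (p x) (p y) = 0 := by
      simp only [polar, ← hadd, hQ, sub_zero]
    rw [hy]
    show polarBilin D.Q (p x) _ = 0
    simp only [map_add, map_sum, map_smul, polarBilin_apply_apply, h1, polar_comm (⇑D.Q) (p x),
      hperp, smul_zero, Finset.sum_const_zero, add_zero]
  have htop : Submodule.span F (Set.range u) = ⊤ := Submodule.eq_top_iff'.2 fun x => by
    rw [sub_eq_zero.1 (hzero x)]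
    exact Submodule.sum_mem _ fun i _ => Submodule.smul_mem _ _ (Submodule.subset_span ⟨i, rfl⟩)
  have h := finrank_range_le_card (R := F) u
  rw [Set.finrank, htop, finrank_top, Module.finrank_fintype_fun_eq_card, Fintype.card_fin] at h
  omega

/-! ### A rotation of non-square spinor norm in the centraliser -/

theorem exists_sum_eq (h2 : (2 : F) ≠ 0) {α β : F} (hα : α ≠ 0) (hβ : β ≠ 0) (t : F) :
    ∃ a b : F, a ^ 2 * α + b ^ 2 * β = t := by
  obtain ⟨a, b, h⟩ := Forms.exists_sq_add_sq h2 hα hβ t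
  exact ⟨a, b, by linear_combination h⟩

theorem exists_nonsq_mul {d : F} (hd : d ≠ 0) (h2 : (2 : F) ≠ 0) :
    ∃ t : F, ¬ IsSquare (d * t) := by
  obtain ⟨ν, hν⟩ := exists_nonsq h2
  exact ⟨ν / d, by rwa [mul_div_cancel₀ _ hd]⟩

/-- The case `polar u (g u) = 0` throughout. -/
theorem exists_comm_skew (h2 : (2 : F) ≠ 0) (g : GS f) {c : F}
    (hgg : ∀ v, lm g (lm g v) = c • v) (hμ : (D.mult g : F) = -c) :
    ∃ o, dickson D.Q o = 0 ∧ D.spin h2 o ≠ 1 ∧ Commute (D.iso o) g := by
  set μ : F := (D.mult g : F) with hμ0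
  have hμne : μ ≠ 0 := Units.ne_zero _
  have hc : c = -μ := by rw [hμ, neg_neg]
  obtain ⟨u, hu⟩ := D.exists_ne
  rw [D.hf] at hu
  set v := lm g u with hv
  have hgv : lm g v = (-μ) • u := by rw [hv, hgg, hc]
  have huv : polar D.Q u v = 0 := by
    have h := polar_lm D g u v
    rw [hgv, ← hv, polar_smul_right, smul_eq_mul, polar_comm (⇑D.Q) v u] at h
    have h' : (2 : F) * (μ * polar D.Q u v) = 0 := by linear_combination -h
    exact (mul_eq_zero.1 ((mul_eq_zero.1 h').resolve_left h2)).resolve_left hμne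
  have hQv : D.Q v = μ * D.Q u := Q_lm D g u
  obtain ⟨ν, hν⟩ := exists_nonsq h2
  have hν0 : ν ≠ 0 := fun h => hν (h ▸ IsSquare.zero)
  obtain ⟨a, b, hab⟩ := exists_sum_eq h2 (one_ne_zero (α := F)) hμne ν
  have hab' : a ^ 2 + μ * b ^ 2 = ν := by linear_combination hab
  set w := a • u + b • v with hw
  have hgw : lm g w = (-(μ * b)) • u + a • v := by
    rw [hw, map_add, map_smul, map_smul, ← hv, hgv, smul_smul, add_comm]
    congr 1
    congr 1
    ring
  have hQw : D.Q w = ν * D.Q u := by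
    rw [hw, Q_comb, huv, hQv]; linear_combination (D.Q u) * hab'
  have hQgw : D.Q (lm g w) = μ * (ν * D.Q u) := by rw [Q_lm, hQw]
  have hwgw : polar D.Q w (lm g w) = 0 := by
    rw [hgw, hw]
    simp only [polar_add_left, polar_add_right, polar_smul_left, polar_smul_right, smul_eq_mul,
      polar_comm (⇑D.Q) v u, huv, polar_self', hQv]
    ring
  have key : orefl D.Q u * orefl D.Q v = orefl D.Q w * orefl D.Q (lm g w) := by
    refine orth_ext fun x => ?_
    show refl D.Q u (refl D.Q v x) = refl D.Q w (refl D.Q (lm g w) x)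
    simp only [refl_apply, polar_sub_right, polar_smul_right, huv, hwgw, smul_eq_mul, mul_zero,
      sub_zero, hQw, hQgw, hQv]
    rw [hgw, hw]
    simp only [polar_add_left, polar_smul_left, smul_eq_mul]
    funext i
    simp only [Pi.sub_apply, Pi.smul_apply, Pi.add_apply, smul_eq_mul]
    rw [← hab'] at hν0 ⊢
    field_simp
    ring
  refine ⟨orefl D.Q u * orefl D.Q w, ?_, ?_, commute_pair D g ?_⟩
  · exact (pair_props D h2 hu (by rw [hQw]; exact mul_ne_zero hν0 hu) (by
      rw [hQw]; intro h; exact hν ((isSquare_mul_iff (mul_ne_zero hu hu) ⟨_, rfl⟩).1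
        (by rwa [mul_left_comm] at h)))).1
  · exact (pair_props D h2 hu (by rw [hQw]; exact mul_ne_zero hν0 hu) (by
      rw [hQw]; intro h; exact hν ((isSquare_mul_iff (mul_ne_zero hu hu) ⟨_, rfl⟩).1
        (by rwa [mul_left_comm] at h)))).2
  · rw [← hv]
    have e : orefl D.Q v = orefl D.Q u * orefl D.Q w * orefl D.Q (lm g w) := by
      rw [mul_assoc, ← key, ← mul_assoc, orefl_mul_self, one_mul]
    rw [e, mul_assoc, orefl_mul_self, mul_one]

/-- The self-adjoint case with rational eigenvalues. -/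
theorem exists_comm_split (h2 : (2 : F) ≠ 0) (g : GS f) {c s : F} (hc : c ≠ 0) (hs : s * s = c)
    (hgg : ∀ v, lm g (lm g v) = c • v) (hμ : (D.mult g : F) = c) :
    ∃ o, dickson D.Q o = 0 ∧ D.spin h2 o ≠ 1 ∧ Commute (D.iso o) g := by
  have hs0 : s ≠ 0 := fun h => hc (by rw [← hs, h, mul_zero])
  have step : ∀ (k : ℕ) (u : Fin k → ι → F), k < Fintype.card ι → (∀ i, D.Q (u i) ≠ 0) →
      (∀ i j, i ≠ j → polar D.Q (u i) (u j) = 0) →
      (∀ i, ∃ ε : F, ε * ε = c ∧ lm g (u i) = ε • u i) →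
      ∃ w : ι → F, D.Q w ≠ 0 ∧ (∀ i, polar D.Q (u i) w = 0) ∧
        (lm g w = s • w ∨ lm g w = (-s) • w) := by
    intro k u hk hu ho he
    obtain ⟨v, hv, hperp⟩ := exists_perp D h2 u hk hu ho
    have hp : ∀ i, polar D.Q (u i) (lm g v) = 0 := fun i => by
      obtain ⟨ε, hε, hge⟩ := he i
      have h := polar_lm D g (u i) v
      rw [hperp, mul_zero, hge, polar_smul_left, smul_eq_mul] at h
      exact (mul_eq_zero.1 h).resolve_left fun h0 => hc (by rw [← hε, h0, mul_zero])
    have hsum : D.Q (s • v + lm g v) + D.Q (s • v + -lm g v) = 4 * c * D.Q v := by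
      rw [Q_add, Q_add, polar_neg_right, QuadraticMap.map_neg, Q_smul, Q_lm, hμ, hs]
      ring
    have h4 : (4 : F) * c * D.Q v ≠ 0 :=
      mul_ne_zero (mul_ne_zero (by rw [show (4 : F) = 2 * 2 by norm_num]; exact mul_ne_zero h2 h2) hc) hv
    by_cases h : D.Q (s • v + lm g v) = 0
    · refine ⟨s • v + -lm g v, ?_, fun i => ?_, Or.inr ?_⟩
      · rw [h, zero_add] at hsum; rwa [hsum]
      · rw [polar_add_right, polar_smul_right, polar_neg_right, hperp, hp, smul_zero, neg_zero, add_zero]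
      · rw [map_add, map_smul, map_neg, hgg, ← hs, ← smul_smul, smul_add, neg_smul, neg_smul, smul_neg]
        abel
    · refine ⟨s • v + lm g v, h, fun i => ?_, Or.inl ?_⟩
      · rw [polar_add_right, polar_smul_right, hperp, hp, smul_zero, add_zero]
      · rw [map_add, map_smul, hgg, ← hs, ← smul_smul, smul_add]
        abel
  have heig : ∀ {w : ι → F}, (lm g w = s • w ∨ lm g w = (-s) • w) → ∃ ε : F, ε * ε = c ∧ lm g w = ε • w := by
    rintro w (h | h)
    · exact ⟨s, hs, h⟩
    · exact ⟨-s, by rw [neg_mul_neg, hs], h⟩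
  have h7 := D.h7
  obtain ⟨w1, hw1, -, he1⟩ := step 0 ![] (by omega) (fun i => i.elim0) (fun i => i.elim0) (fun i => i.elim0)
  obtain ⟨w2, hw2, hp2, he2⟩ := step 1 ![w1] (by omega) (fun i => by simpa using hw1)
    (fun i l h => absurd (Subsingleton.elim i l) h) (fun i => by simpa using heig he1)
  have h12 : polar D.Q w1 w2 = 0 := hp2 0
  obtain ⟨w3, hw3, hp3, he3⟩ := step 2 ![w1, w2] (by omega)
    (Fin.forall_fin_two.2 ⟨hw1, hw2⟩)
    (Fin.forall_fin_two.2 ⟨Fin.forall_fin_two.2 ⟨fun h => absurd rfl h, fun _ => h12⟩,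
      Fin.forall_fin_two.2 ⟨fun _ => (polar_comm _ _ _).trans h12, fun h => absurd rfl h⟩⟩)
    (Fin.forall_fin_two.2 ⟨heig he1, heig he2⟩)
  have h13 : polar D.Q w1 w3 = 0 := hp3 0
  have h23 : polar D.Q w2 w3 = 0 := hp3 1
  have fin : ∀ {ε : F} {x y : ι → F}, ε ≠ 0 → D.Q x ≠ 0 → D.Q y ≠ 0 → polar D.Q x y = 0 →
      lm g x = ε • x → lm g y = ε • y →
      ∃ o, dickson D.Q o = 0 ∧ D.spin h2 o ≠ 1 ∧ Commute (D.iso o) g := by
    intro ε x y hε hx hy hxy ex ey
    obtain ⟨t, ht⟩ := exists_nonsq_mul hx h2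
    obtain ⟨a, b, hab⟩ := exists_sum_eq h2 hx hy t
    have hQ : D.Q (a • x + b • y) = t := by rw [Q_comb, hxy]; linear_combination hab
    have ht0 : t ≠ 0 := fun h => ht (by rw [h, mul_zero]; exact IsSquare.zero)
    have hp := pair_props D h2 hx (w := a • x + b • y) (by rw [hQ]; exact ht0) (by rw [hQ]; exact ht)
    refine ⟨_, hp.1, hp.2, commute_pair D g ?_⟩
    rw [map_add, map_smul, map_smul, ex, ey, smul_comm a, smul_comm b, ← smul_add,
      orefl_smul D hε, orefl_smul D hε]
  have hsne : (-s) ≠ 0 := neg_ne_zero.2 hs0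
  rcases he1 with e1 | e1 <;> rcases he2 with e2 | e2
  · exact fin hs0 hw1 hw2 h12 e1 e2
  · rcases he3 with e3 | e3
    · exact fin hs0 hw1 hw3 h13 e1 e3
    · exact fin hsne hw2 hw3 h23 e2 e3
  · rcases he3 with e3 | e3
    · exact fin hs0 hw2 hw3 h23 e2 e3
    · exact fin hsne hw1 hw3 h13 e1 e3
  · exact fin hsne hw1 hw2 h12 e1 e2

/-- The self-adjoint case without rational eigenvalues. -/
theorem exists_comm_nonsplit (h2 : (2 : F) ≠ 0) (g : GS f) {c : F} (hc : ¬ IsSquare c)
    (hgg : ∀ v, lm g (lm g v) = c • v) (hμ : (D.mult g : F) = c) :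
    ∃ o, dickson D.Q o = 0 ∧ D.spin h2 o ≠ 1 ∧ Commute (D.iso o) g := by
  have hc0 : c ≠ 0 := fun h => hc (h ▸ IsSquare.zero)
  have hsym : ∀ x y, polar D.Q (lm g x) y = polar D.Q x (lm g y) := fun x y => by
    have h := polar_lm D g x (lm g y)
    rw [hgg, polar_smul_right, smul_eq_mul, hμ] at h
    exact mul_left_cancel₀ hc0 h
  obtain ⟨u, hu, hug⟩ : ∃ u, D.Q u ≠ 0 ∧ polar D.Q u (lm g u) = 0 := by
    set R : QuadraticForm F (ι → F) := LinearMap.BilinMap.toQuadraticMap ((polarBilin D.Q).compl₂ (lm g))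
    have hRx : ∀ x, R x = polar D.Q x (lm g x) := fun x => rfl
    have hR : Nondeg R := fun x hx => lm_injective g (by
      rw [map_zero]
      refine D.nd _ fun y => ?_
      have h : R (x + y) - R x - R y = 0 := hx y
      rw [hRx, hRx, hRx, map_add, polar_add_left, polar_add_right, polar_add_right] at h
      rw [← hsym y x, polar_comm (⇑D.Q) (lm g y) x] at h
      have h' : (2 : F) * polar D.Q (lm g x) y = 0 := by rw [hsym]; linear_combination h
      exact (mul_eq_zero.1 h').resolve_left h2)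
    obtain ⟨e, he0, he⟩ := exists_singular hR (by have := D.h7'; omega)
    rw [hRx] at he
    by_cases hQe : D.Q e = 0
    · set d := lm g e
      have hd : D.Q d = 0 := by rw [Q_lm, hQe, mul_zero]
      obtain ⟨v1, hv1⟩ : ∃ v, polar D.Q e v = 1 := by
        obtain ⟨y, hy⟩ : ∃ y, polar D.Q e y ≠ 0 := by
          by_contra h
          push Not at h
          exact he0 (D.nd _ h)
        exact ⟨(polar D.Q e y)⁻¹ • y, by rw [polar_smul_right, smul_eq_mul, inv_mul_cancel₀ hy]⟩
      set t := polar D.Q d v1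
      obtain ⟨v0, hv0, hv0'⟩ : ∃ v, polar D.Q e v = 0 ∧ polar D.Q d v ≠ 0 := by
        by_contra h
        push Not at h
        have hde : d = t • e := sub_eq_zero.1 (D.nd _ fun y => by
          have := h (y - polar D.Q e y • v1)
            (by rw [polar_sub_right, polar_smul_right, smul_eq_mul, hv1, mul_one, sub_self])
          rw [polar_sub_right, polar_smul_right, smul_eq_mul] at this
          rw [polar_sub_left, polar_smul_left, smul_eq_mul]
          linear_combination this)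
        have h3 : lm g d = (t * t) • e := by rw [hde, map_smul]; show t • d = _; rw [hde, smul_smul]
        have h4 : lm g d = c • e := hgg e
        exact hc ⟨t, smul_left_injective F he0 (h4.symm.trans h3)⟩
      set v := v1 + (-(t / polar D.Q d v0)) • v0 with hv
      have hev : polar D.Q e v = 1 := by
        rw [hv, polar_add_right, polar_smul_right, hv1, hv0, smul_zero, add_zero]
      have hdv : polar D.Q d v = 0 := by
        rw [hv, polar_add_right, polar_smul_right, smul_eq_mul, neg_mul, div_mul_cancel₀ _ hv0',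
          add_neg_cancel]
      have hegv : polar D.Q e (lm g v) = 0 := by rw [← hsym]; exact hdv
      clear_value v
      set x := v + ((1 - D.Q v) • e + (-(polar D.Q v (lm g v) / (2 * c))) • d) with hx
      refine ⟨x, ?_, ?_⟩
      · rw [hx, Q_add, Q_comb, polar_add_right, polar_smul_right, polar_smul_right, hQe, hd,
          show polar D.Q e d = 0 from he, polar_comm (⇑D.Q) v e, polar_comm (⇑D.Q) v d, hev, hdv]
        simp
      · have hgx : lm g x = lm g v + ((1 - D.Q v) • d + (-(polar D.Q v (lm g v) / (2 * c))) • (c • e)) := by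
          rw [hx, map_add, map_add, map_smul, map_smul, ← hgg e]
        rw [hgx, hx]
        simp only [polar_add_left, polar_add_right, polar_smul_left, polar_smul_right, smul_eq_mul,
          polar_self', hQe, hd, show polar D.Q e d = 0 from he, polar_comm (⇑D.Q) d e,
          polar_comm (⇑D.Q) v d, polar_comm (⇑D.Q) v e, hev, hdv, hegv,
          show polar D.Q d (lm g v) = c * polar D.Q e v by rw [polar_lm, hμ]]
        field_simp
        ring
    · exact ⟨e, hQe, he⟩
  have hQg : D.Q (lm g u) = c * D.Q u := by rw [Q_lm, hμ]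
  have hp := pair_props D h2 hu (w := lm g u) (by rw [hQg]; exact mul_ne_zero hc0 hu) (by
    rw [hQg, mul_left_comm]
    exact fun h => hc ((isSquare_mul_iff (mul_ne_zero hu hu) ⟨_, rfl⟩).1 h))
  refine ⟨_, hp.1, hp.2, commute_pair D g ?_⟩
  rw [hgg, orefl_smul D hc0, orefl_comm D ((polar_comm _ _ _).trans hug)]

theorem exists_comm (h2 : (2 : F) ≠ 0) {g : GS f} {z : Fˣ} (hg : g * g = D.scal z) :
    ∃ o, dickson D.Q o = 0 ∧ D.spin h2 o ≠ 1 ∧ Commute (D.iso o) g := by
  have hgg : ∀ v, lm g (lm g v) = (z : F) • v := fun v => by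
    rw [← lm_mul, hg, lm_apply, D.coe_scal_mulVec]
  have hsq : (D.mult g : F) * D.mult g = (z : F) * z := by
    rw [← Units.val_mul, ← map_mul, hg, D.mult_scal, Units.val_mul]
  rcases mul_self_eq_mul_self_iff.1 hsq with h | h
  · by_cases hs : IsSquare (z : F)
    · obtain ⟨s, hs⟩ := hs
      exact exists_comm_split D h2 g z.ne_zero hs.symm hgg h
    · exact exists_comm_nonsplit D h2 g hs hgg h
  · exact exists_comm_skew D h2 g hgg h

/-! ### No similitude of non-square multiplier commutes -/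

open Polynomial in
theorem det_of_anticomm {A K : Matrix ι ι F} {c : F} {M : ℕ} (hι : Fintype.card ι = 2 * M)
    (hA : A * A = c • 1) (hK : IsUnit K.det) (h : K * A = -(A * K)) : A.det = (-c) ^ M := by
  set A' : Matrix ι ι F[X] := A.map Polynomial.C
  set K' : Matrix ι ι F[X] := K.map Polynomial.C
  set P : Matrix ι ι F[X] := (Polynomial.X : F[X]) • 1 + A'
  set N : Matrix ι ι F[X] := (Polynomial.X : F[X]) • 1 - A'
  have hA' : A' * A' = Polynomial.C c • 1 := by
    rw [show A' * A' = (A * A).map Polynomial.C from (Matrix.map_mul).symm, hA]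
    ext i j : 2
    by_cases hij : i = j
    · subst hij; simp
    · simp [hij]
  have hKA : K' * A' = -(A' * K') := by
    show (Polynomial.C : F →+* F[X]).mapMatrix K * (Polynomial.C : F →+* F[X]).mapMatrix A =
      -((Polynomial.C : F →+* F[X]).mapMatrix A * (Polynomial.C : F →+* F[X]).mapMatrix K)
    rw [← map_mul, ← map_mul, ← map_neg, h]
  have hPN : K' * P = N * K' := by
    simp only [P, N, Matrix.mul_add, Matrix.sub_mul, Matrix.mul_smul, Matrix.smul_mul, Matrix.mul_one,
      Matrix.one_mul, hKA]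
    abel
  have hK' : K'.det ≠ 0 := by
    rw [show K'.det = Polynomial.C K.det from (RingHom.map_det Polynomial.C K).symm]
    exact fun h0 => hK.ne_zero (Polynomial.C_eq_zero.1 h0)
  have hdet : P.det = N.det := by
    have h1 := congrArg Matrix.det hPN
    rw [Matrix.det_mul, Matrix.det_mul, mul_comm N.det] at h1
    exact mul_left_cancel₀ hK' h1
  have hprod : P * N = (Polynomial.X ^ 2 - Polynomial.C c : F[X]) • 1 := by
    simp only [P, N, Matrix.add_mul, Matrix.mul_sub, Matrix.smul_mul, Matrix.one_mul, Matrix.mul_smul,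
      Matrix.mul_one, hA', smul_add, smul_sub, smul_smul, sub_smul, _root_.sq]
    abel
  have hN : N.det = A.charpoly := by
    rw [Matrix.charpoly, Matrix.charmatrix]
    congr 1
    simp [N, A', Matrix.smul_one_eq_diagonal, Matrix.scalar_apply]
  have h2 := congrArg Matrix.det hprod
  rw [Matrix.det_mul, Matrix.det_smul, Matrix.det_one, mul_one, hdet, hι, two_mul, pow_add] at h2
  have hm1 : N.det.Monic := hN ▸ Matrix.charpoly_monic A
  have hm2 : ((Polynomial.X ^ 2 - Polynomial.C c : F[X]) ^ M).Monic :=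
    (Polynomial.monic_X_pow_sub_C c two_ne_zero).pow M
  have heq : N.det = (Polynomial.X ^ 2 - Polynomial.C c) ^ M := by
    rcases mul_self_eq_mul_self_iff.1 h2 with e | e
    · exact e
    · have := congrArg Polynomial.leadingCoeff e
      rw [Polynomial.leadingCoeff_neg, hm1.leadingCoeff, hm2.leadingCoeff] at this
      rw [e]
      conv_rhs => rw [← one_mul ((Polynomial.X ^ 2 - Polynomial.C c : F[X]) ^ M)]
      rw [← neg_one_mul, show (-1 : F[X]) = 1 from by
        rw [← Polynomial.C_1, ← Polynomial.C_neg, ← this]]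
  have h3 : A.det = (-1) ^ Fintype.card ι * A.charpoly.coeff 0 := A.det_eq_sign_charpoly_coeff
  rw [h3, hι, pow_mul, neg_one_sq, one_pow, one_mul, ← hN, heq, Polynomial.coeff_zero_eq_eval_zero]
  simp

theorem spin_conj (h2 : (2 : F) ≠ 0) (k : GS f) (hk : ¬ IsSquare (D.mult k : F))
    (o : orth D.Q) (ho : dickson D.Q o = 1) :
    D.spin h2 ((D.ofGS k).conjO o) ≠ D.spin h2 o := by
  have hn : 2 ≤ finrank F (ι → F) := by have := D.h7'; omega
  have key : (D.spin h2).comp (D.ofGS k).conjO =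
      D.spin h2 * (Orth52.zmod2Char (-1)).comp (dicksonHom D.nd D.hne4) := by
    refine orth_hom_ext D fun v hv => ?_
    rw [MonoidHom.comp_apply, MonoidHom.mul_apply, MonoidHom.comp_apply, OrthField.conjO_orefl,
      dicksonHom_orefl D.nd _ hv, Orth52.zmod2Char_gen]
    have hkv : D.Q ((D.ofGS k).toAdd v) = (D.mult k : F) * D.Q v := Q_lm D k v
    have hkv0 : D.Q ((D.ofGS k).toAdd v) ≠ 0 := by
      rw [hkv]; exact mul_ne_zero (Units.ne_zero _) hv
    have i1 := Orth52.spinHom_orefl_eq_one_iff D.nd h2 hn hkv0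
    have i2 := Orth52.spinHom_orefl_eq_one_iff D.nd h2 hn hv
    rw [hkv] at i1
    change D.spin h2 _ = 1 ↔ _ at i1
    change D.spin h2 _ = 1 ↔ _ at i2
    rcases Int.units_eq_one_or (D.spin h2 (orefl D.Q v)) with a | a <;>
      rcases Int.units_eq_one_or (D.spin h2 (orefl D.Q ((D.ofGS k).toAdd v))) with b | b <;>
      rw [a, b]
    · exact absurd ((isSquare_mul_iff hv (i2.1 a)).1 (i1.1 b)) hk
    · rfl
    · rfl
    · have na : ¬ IsSquare (D.Q v) := fun h => absurd (i2.2 h) (by rw [a]; decide)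
      exact absurd (i1.2 (isSquare_mul_of_not h2 hk na)) (by rw [b]; decide)
  have h : D.spin h2 ((D.ofGS k).conjO o) =
      D.spin h2 o * Orth52.zmod2Char (-1) (dicksonHom D.nd D.hne4 o) := DFunLike.congr_fun key o
  rw [h, show dicksonHom D.nd D.hne4 o = Multiplicative.ofAdd (1 : ZMod 2) from
    congrArg Multiplicative.ofAdd ho, Orth52.zmod2Char_gen]
  rcases Int.units_eq_one_or (D.spin h2 o) with a | a <;> rw [a] <;> decide

variable {M : ℕ} (hk : Fintype.card ι = 2 * M)

theorem no_commute (h2 : (2 : F) ≠ 0)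
    (hcond : Even M ∨ ∀ o : orth D.Q, (∀ x, o.1 x = -x) → D.spin h2 o = 1)
    {g : GS f} (hg : D.chi hk g ≠ 1) {z : Fˣ} (hgg : g * g = D.scal z) {k : GS f}
    (hkr : k ∈ D.rot hk) (hks : ¬ IsSquare (D.mult k : F)) {l : Fˣ}
    (hcomm : k * g = D.scal l * (g * k)) : False := by
  have hl : l * l = 1 := D.scal_injective <| by
    have h1 : k * (g * g) = D.scal (l * l) * (g * g * k) := by
      rw [← mul_assoc, hcomm, mul_assoc, mul_assoc, hcomm, ← mul_assoc g, ← (D.scal_comm l g).eq,
        map_mul]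
      group
    rw [hgg, ← mul_assoc, ← map_mul, ← (D.scal_comm z k).eq] at h1
    rw [map_one]
    have h3 : D.scal (l * l * z) = D.scal z := mul_right_cancel h1.symm
    rw [map_mul] at h3
    exact mul_right_cancel (h3.trans (one_mul _).symm)
  obtain ⟨g', hg', hcomm', hsq⟩ : ∃ g', D.chi hk g' ≠ 1 ∧ k * g' = D.scal l * (g' * k) ∧
      IsSquare (D.mult g' : F) := by
    by_cases hs : IsSquare (D.mult g : F)
    · exact ⟨g, hg, hcomm, hs⟩
    · refine ⟨k⁻¹ * g, by rwa [map_mul, map_inv, D.mem_rot hk |>.1 hkr, inv_one, one_mul], ?_, ?_⟩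
      · rw [mul_inv_cancel_left, mul_assoc, ← mul_assoc (D.scal l), (D.scal_comm l k⁻¹).eq,
          mul_assoc, ← hcomm, inv_mul_cancel_left]
      · rw [map_mul, map_inv, Units.val_mul, Units.val_inv_eq_inv_val]
        exact isSquare_mul_of_not h2 (by rwa [isSquare_inv]) hs
  obtain ⟨t, ht⟩ := hsq
  have ht0 : t ≠ 0 := fun h => (D.mult g').ne_zero (by rw [ht, h, mul_zero])
  obtain ⟨o, rfl⟩ := D.exists_scal_iso (g := g') (z := Units.mk0 t ht0) (Units.ext ht)
  have ho : dickson D.Q o = 1 := by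
    rw [map_mul, D.chi_scal, one_mul, D.chi_iso] at hg'
    refine (show ∀ a : ZMod 2, a ≠ 0 → a = 1 by decide) _ fun h => hg' ?_
    exact congrArg Multiplicative.ofAdd h
  have hc : ∀ v, (D.ofGS k).toAdd (o.1 v) = (l : F) • o.1 ((D.ofGS k).toAdd v) := by
    intro v
    have h1 := congrArg (fun x : GS f => lm x v) hcomm'
    rw [← mul_assoc k, ← (D.scal_comm (Units.mk0 t ht0) k).eq] at h1
    simp only [lm_mul, lm_apply (D.scal _), D.coe_scal_mulVec, lm_apply (D.iso _), D.iso_apply,
      Units.val_mk0, smul_smul, mul_comm (l : F) t] at h1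
    rw [← smul_smul] at h1
    have h3 := smul_right_injective _ ht0 h1
    exact h3
  have hconj : ∀ x, ((D.ofGS k).conjO o).1 x = (l : F) • o.1 x := fun x => by
    obtain ⟨v, rfl⟩ := (D.ofGS k).toAdd.surjective x
    rw [AutPOmega.Semisim.conjO_apply, AddEquiv.symm_apply_apply, hc]
  have hl' : (l : F) = 1 ∨ (l : F) = -1 := mul_self_eq_one_iff.1 (congrArg Units.val hl)
  rcases hl' with h1 | h1
  · exact spin_conj D h2 k hks o ho (congrArg _ (orth_ext fun x => by rw [hconj, h1, one_smul]))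
  · rcases hcond with hM | hneg
    · apply hg
      have hA : (g.1 : Matrix ι ι F) * (g.1 : Matrix ι ι F) = (z : F) • 1 :=
        Matrix.ext_of_mulVec_single fun i => by
          rw [← Matrix.mulVec_mulVec, Matrix.smul_mulVec, Matrix.one_mulVec, ← lm_apply, ← lm_apply,
            ← lm_mul, hgg, lm_apply, D.coe_scal_mulVec]
      have hanti : (k.1 : Matrix ι ι F) * (g.1 : Matrix ι ι F) = -((g.1 : Matrix ι ι F) * (k.1 : Matrix ι ι F)) :=
        Matrix.ext_of_mulVec_single fun i => by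
          rw [Matrix.neg_mulVec, ← Matrix.mulVec_mulVec, ← Matrix.mulVec_mulVec, ← lm_apply, ← lm_apply,
            ← lm_apply, ← lm_apply, ← lm_mul, ← lm_mul, hcomm, lm_mul, lm_apply (D.scal l),
            D.coe_scal_mulVec, h1, neg_one_smul]
      have hd := det_of_anticomm hk hA ((Matrix.isUnit_iff_isUnit_det _).1 k.1.isUnit) hanti
      rw [D.chi_odd hk h2, hd, hM.neg_pow]
      have hsq' : (D.mult g : F) * D.mult g = (z : F) * z := by
        rw [← Units.val_mul, ← map_mul, hgg, D.mult_scal, Units.val_mul]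
      rcases mul_self_eq_mul_self_iff.1 hsq' with e | e
      · rw [e]
      · rw [e, hM.neg_pow]
    · obtain ⟨n₀, hn₀⟩ := D.exists_iso (g := D.scal (-1)) (by rw [D.mult_scal]; simp)
      have hn : ∀ x, n₀.1 x = -x := fun x => by
        rw [← D.iso_apply, hn₀, D.coe_scal_mulVec, Units.val_neg, Units.val_one, neg_one_smul]
      refine spin_conj D h2 k hks o ho ?_
      have e : (D.ofGS k).conjO o = n₀ * o := orth_ext fun x => by
        rw [hconj, h1, neg_one_smul]; exact (hn (o.1 x)).symm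
      rw [e, map_mul, hneg n₀ hn, one_mul]

/-! ### Counting -/

/-- The class of a graph involution splits into one or two classes, and into two generically. -/
theorem split_count (h2 : (2 : F) ≠ 0) (hmult : ∀ c : Fˣ, ∃ k : GS f, D.mult k = c)
    [(Cfsg.Inn (Cfsg.POmega F f)).Normal] {g : GS f} (hg : D.chi hk g ≠ 1)
    (hg2 : D.conjQ g * D.conjQ g = 1) :
    (Cfsg.splitClassCount ((D.rot hk).map D.conjQ) (Cfsg.Inn (Cfsg.POmega F f)) (D.conjQ g) = 1 ∨
      Cfsg.splitClassCount ((D.rot hk).map D.conjQ) (Cfsg.Inn (Cfsg.POmega F f)) (D.conjQ g) = 2) ∧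
    ((Even M ∨ ∀ o : orth D.Q, (∀ x, o.1 x = -x) → D.spin h2 o = 1) →
      Cfsg.splitClassCount ((D.rot hk).map D.conjQ) (Cfsg.Inn (Cfsg.POmega F f)) (D.conjQ g) = 2) := by
  rw [← map_mul] at hg2
  obtain ⟨z, hz⟩ := D.conjQ_eq_one_iff.1 hg2
  set H := (D.rot hk).map D.conjQ
  set S := Cfsg.Inn (Cfsg.POmega F f) ⊔ H ⊓ Subgroup.centralizer {D.conjQ g}
  set L := S.comap D.conjQ
  rw [AutPSL.splitClassCount_eq (D.inn_le_rot hk) _, ← Subgroup.relIndex_comap]
  obtain ⟨o₁, ho₁, hs₁, hc₁⟩ := exists_comm D h2 hz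
  have hO : ∀ o, dickson D.Q o = 0 → D.spin h2 o = 1 → D.iso o ∈ L := fun o ho hs =>
    show D.conjQ (D.iso o) ∈ S from Subgroup.mem_sup_left
      (by rw [D.inn_eq_map]; exact ⟨_, ⟨o, (D.mem_commutator h2 o).2 ⟨ho, hs⟩, rfl⟩, rfl⟩)
  have h1L : D.iso o₁ ∈ L := show D.conjQ (D.iso o₁) ∈ S from
    Subgroup.mem_sup_right ⟨⟨_, (D.iso_mem_rot hk).2 ho₁, rfl⟩,
      Subgroup.mem_centralizer_singleton_iff.2 (hc₁.map D.conjQ).eq⟩
  have hsqL : ∀ k ∈ D.rot hk, IsSquare (D.mult k : F) → k ∈ L := by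
    intro k hkr ⟨t, ht⟩
    have ht0 : t ≠ 0 := fun h => (D.mult k).ne_zero (by rw [ht, h, mul_zero])
    obtain ⟨o, rfl⟩ := D.exists_scal_iso (g := k) (z := Units.mk0 t ht0) (Units.ext ht)
    have ho : dickson D.Q o = 0 := (D.iso_mem_rot hk).1 (by
      have := mul_mem (inv_mem (D.scal_mem_rot hk (Units.mk0 t ht0))) hkr
      rwa [inv_mul_cancel_left] at this)
    refine mul_mem (show D.conjQ (D.scal _) ∈ S by rw [D.conjQ_scal]; exact one_mem S) ?_
    by_cases hs : D.spin h2 o = 1
    · exact hO o ho hs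
    · rw [← mul_inv_cancel_right o o₁, map_mul, map_inv]
      refine mul_mem (hO _ (by rw [D.dickson_mul', ho, ho₁, add_zero]) ?_) (inv_mem h1L)
      rw [map_mul, (Int.units_eq_one_or _).resolve_left hs, (Int.units_eq_one_or _).resolve_left hs₁]
      rfl
  have htwo : ∀ k ∈ D.rot hk, k ∉ L → L.relIndex (D.rot hk) = 2 := fun k hkr hkL => by
    refine relIndex_eq_two hkr hkL fun b hb => ?_
    by_cases hbs : IsSquare (D.mult b : F)
    · exact Or.inl (hsqL b hb hbs)
    · refine Or.inr (hsqL _ (mul_mem hb hkr) ?_)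
      rw [map_mul, Units.val_mul]
      exact isSquare_mul_of_not h2 hbs fun h => hkL (hsqL k hkr h)
  refine ⟨?_, fun hcond => ?_⟩
  · by_cases hle : D.rot hk ≤ L
    · exact Or.inl (Subgroup.relIndex_eq_one.2 hle)
    · obtain ⟨k, hkr, hkL⟩ := SetLike.not_le_iff_exists.1 hle
      exact Or.inr (htwo k hkr hkL)
  · obtain ⟨ν, hν⟩ := exists_nonsq h2
    have hν0 : ν ≠ 0 := fun h => hν (h ▸ IsSquare.zero)
    obtain ⟨k₀, hk₀, hm₀⟩ : ∃ k ∈ D.rot hk, (D.mult k : F) = ν := by
      obtain ⟨k, hm⟩ := hmult (Units.mk0 ν hν0)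
      by_cases h : D.chi hk k = 1
      · exact ⟨k, h, congrArg Units.val hm⟩
      · obtain ⟨o, ho⟩ := D.exists_not_rot hk
        refine ⟨k * D.iso o, ?_, by rw [map_mul, D.mult_iso, mul_one, hm]; rfl⟩
        rw [D.mem_rot, map_mul, ho, (mult_zmod2_cases (D.chi hk k)).resolve_left h]
        rfl
    refine htwo k₀ hk₀ fun hmem => ?_
    have hmem' : D.conjQ k₀ ∈ S := hmem
    obtain ⟨t, ht, c, ⟨⟨k, hkr, rfl⟩, hc⟩, he⟩ := Subgroup.mem_sup_of_normal_left.1 hmem'
    rw [D.inn_eq_map] at ht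
    obtain ⟨_, ⟨o, -, rfl⟩, rfl⟩ := ht
    rw [← map_mul] at he
    obtain ⟨w, hw⟩ := D.conjQ_eq_iff.1 he
    have hks : ¬ IsSquare (D.mult k : F) := fun h => hν (by
      rw [← hm₀, hw, map_mul, map_mul, D.mult_iso, one_mul, D.mult_scal, Units.val_mul, Units.val_mul]
      exact (IsSquare.mul ⟨_, rfl⟩ h))
    have hcq := Subgroup.mem_centralizer_singleton_iff.1 hc
    rw [← map_mul, ← map_mul] at hcq
    obtain ⟨l, hl⟩ := D.conjQ_eq_iff.1 hcq.symm
    exact no_commute D hk h2 hcond hg hz hkr hks hl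

/-! ### No field part -/

theorem tau_eq_one (h2 : (2 : F) ≠ 0) {S : AutPOmega.Semisim D.Q} (hS2 : S.aut * S.aut = 1)
    {n : ℕ} (hn : Fintype.card ι = 2 * n) (hδ : ¬ IsSquare ((Forms.gram D.Q).det * (-1) ^ n)) :
    S.τ = RingEquiv.refl F := by
  classical
  have := Fintype.ofFinite F
  rw [← AutPOmega.Semisim.aut_mul] at hS2
  obtain ⟨c, hc0, hSS, hττ⟩ := D.scalar_of_aut_eq_one hS2
  by_contra hne
  have hσ : orderOf S.τ = 2 := orderOf_eq_prime_iff.2 ⟨by rw [_root_.sq]; exact hττ, hne⟩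
  obtain ⟨p, e, hp, hcard⟩ : ∃ (p e : ℕ), p.Prime ∧ Fintype.card F = p ^ e := by
    obtain ⟨e, he⟩ := FiniteField.card F (ringChar F)
    exact ⟨_, e, he.1, he.2⟩
  haveI := Fact.mk hp
  set A : Matrix ι ι F := (S.mat : Matrix ι ι F)
  have hA : ∀ v, A *ᵥ (fun i => S.τ (v i)) = S.toAdd v := fun v => S.mat_apply v
  have hsingle : ∀ i : ι, (fun l => S.τ ((Pi.single i (1 : F) : ι → F) l)) = Pi.single i 1 := fun i => by
    funext l
    by_cases h : l = i
    · subst h; simp
    · simp [h]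
  have hAA : A * A.map S.τ = c • 1 := Matrix.ext_of_mulVec_single fun i => by
    rw [← Matrix.mulVec_mulVec, Matrix.smul_mulVec, Matrix.one_mulVec]
    conv_lhs => rw [← hsingle, OF.map_mulVec_comp, hA, ← hsingle, hA]
    exact hSS _
  have hG : Aᵀ * gram D.Q * A = S.c • (gram D.Q).map S.τ := by
    refine Matrix.ext fun i l => ?_
    have hp' : polar D.Q (S.toAdd (Pi.single i 1)) (S.toAdd (Pi.single l 1)) =
        S.c * S.τ (polar D.Q (Pi.single i 1) (Pi.single l 1)) := by
      simp only [polar, ← map_add S.toAdd, S.map_Q', map_sub]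
      ring
    rw [← hA, ← hA, hsingle, hsingle, polar_eq_gram, polar_eq_gram, Matrix.dotProduct_mulVec,
      Matrix.dotProduct_mulVec, ← Matrix.vecMul_transpose, Matrix.vecMul_vecMul, Matrix.dotProduct_mulVec,
      Matrix.vecMul_vecMul, ← Matrix.dotProduct_mulVec, ← Matrix.dotProduct_mulVec] at hp'
    simpa [Matrix.mul_assoc] using hp'
  set δ := (gram D.Q).det * (-1) ^ n
  set t := A.det / S.c ^ n with ht
  have hδ0 : δ ≠ 0 := fun h => hδ (h ▸ IsSquare.zero)
  have hcn : S.c ^ n ≠ 0 := pow_ne_zero _ S.c_ne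
  have hdA : A.det ≠ 0 := ((Matrix.isUnit_iff_isUnit_det _).1 S.mat.isUnit).ne_zero
  have h1 : S.τ δ = δ * (t * t) := by
    have hG' := congrArg Matrix.det hG
    rw [Matrix.det_mul, Matrix.det_mul, Matrix.det_transpose, Matrix.det_smul, hn,
      show ((gram D.Q).map S.τ).det = S.τ (gram D.Q).det from (S.τ.toRingHom.map_det _).symm] at hG'
    simp only [δ, t, map_mul, map_pow, map_neg, map_one]
    field_simp
    linear_combination -hG'
  have h2' : t * S.τ t = 1 := by
    have hd := congrArg Matrix.det hAA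
    rw [Matrix.det_mul, Matrix.det_smul, Matrix.det_one, mul_one, hn,
      show (A.map S.τ).det = S.τ A.det from (S.τ.toRingHom.map_det _).symm] at hd
    have hcc : c * c = S.c * S.τ S.c := by
      obtain ⟨v, hv⟩ := D.exists_ne
      rw [D.hf] at hv
      have h := hSS v
      have h' : D.Q (S.toAdd (S.toAdd v)) = D.Q (c • v) := congrArg D.Q h
      rw [S.map_Q', S.map_Q', Q_smul, map_mul,
        show S.τ (S.τ (D.Q v)) = D.Q v from RingEquiv.congr_fun hττ _] at h'
      exact mul_right_cancel₀ hv (by linear_combination -h')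
    have hd' : A.det * S.τ A.det = (S.c * S.τ S.c) ^ n := by rw [hd, pow_mul, _root_.sq, hcc]
    rw [ht, map_div₀, map_pow, div_mul_div_comm, hd', mul_pow, div_self]
    exact mul_ne_zero hcn (pow_ne_zero _ ((EmbeddingLike.map_ne_zero_iff (f := S.τ)).2 S.c_ne))
  obtain ⟨he2, -⟩ := AutPSL.card_fixField (p := p) (f := e) hcard hσ
  obtain ⟨r, hr⟩ := he2
  set q₀ := p ^ r with hq₀
  have hpow : ∀ x, S.τ x = x ^ q₀ := fun x => by
    rw [AutPSL.apply_eq_pow (p := p) (f := e) hcard hσ, hq₀, hr, Nat.mul_div_cancel_left _ two_pos]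
  have hcardq : Fintype.card F = q₀ * q₀ := by rw [hcard, hq₀, hr, ← pow_add, two_mul]
  have hoddq : Odd q₀ := by
    have hodd : Odd (Fintype.card F) := Nat.odd_iff.2 (FiniteField.odd_card_of_char_ne_two fun h => h2 (by
      have := ringChar.Nat.cast_ringChar (R := F)
      rw [h] at this; exact_mod_cast this))
    rw [hcardq] at hodd
    exact (Nat.odd_mul.1 hodd).1
  obtain ⟨k, hk'⟩ := hoddq
  have h3 : (δ ^ k * δ ^ k) = t * t := by
    refine mul_left_cancel₀ hδ0 (h1.symm.trans ?_).symm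
    rw [hpow, hk', pow_succ', two_mul, pow_add]
  apply hδ
  rw [FiniteField.isSquare_iff (fun h => h2 (by
      have := ringChar.Nat.cast_ringChar (R := F)
      rw [h] at this; exact_mod_cast this)) hδ0,
    show Fintype.card F / 2 = k * (q₀ + 1) by rw [hcardq, hk']; rw [show (2 * k + 1) * (2 * k + 1) = 2 * (k * (2 * k + 1 + 1)) + 1 by ring]; omega,
    pow_mul, pow_succ']
  rcases mul_self_eq_mul_self_iff.1 h3 with e' | e'
  · rw [e', ← hpow, h2']
  · rw [e', ← hpow, map_neg, neg_mul_neg, h2']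

end Cfsg.Agent.Lib.GraphClasses.Orth
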