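import Cfsg.Agent.Lib.GraphClasses.Graph
import Cfsg.Agent.Lib.GraphClasses.OddForms
import Cfsg.Agent.Lib.GraphClasses.Alt

/-!
Graph involutions of `PSL_n(q)`: centralisers and class splitting by form type.
-/

set_option autoImplicit false
set_option linter.unusedSectionVars false
set_option linter.style.haveILetI false

namespace Cfsg.Agent.Lib.GraphClasses

open Matrix

variable {n : ℕ} {F : Type*} [Field F]

local notation "PSLn" => Matrix.ProjectiveSpecialLinearGroup (Fin n) F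
local notation "GLn" => GL (Fin n) F
local notation "Mn" => Matrix (Fin n) (Fin n) F
/-- The centraliser in `Inndiag`. -/
abbrev Cent (γ : MulAut PSLn) : Type _ := ↥(Cfsg.inndiagPSL n F ⊓ Subgroup.centralizer {γ})

/-- A matrix of nonzero determinant in `GL`. -/
noncomputable def mkGL (M : Mn) (h : M.det ≠ 0) : GLn :=
  ((Matrix.isUnit_iff_isUnit_det M).2 (isUnit_iff_ne_zero.2 h)).unit

theorem coe_mkGL (M : Mn) (h : M.det ≠ 0) : (mkGL M h : Mn) = M := rfl

theorem det_ne (H : GLn) : (H : Mn).det ≠ 0 :=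
  ((Matrix.isUnit_iff_isUnit_det _).1 H.isUnit).ne_zero

theorem alt_of_skew (h2 : (2 : F) ≠ 0) {ι : Type} [Fintype ι] [DecidableEq ι] {M : Matrix ι ι F}
    (h : Mᵀ = -M) (x : ι → F) : x ⬝ᵥ M *ᵥ x = 0 := by
  have h1 : x ⬝ᵥ M *ᵥ x = -(x ⬝ᵥ M *ᵥ x) := by
    conv_lhs => rw [dotProduct_mulVec, ← mulVec_transpose, h, neg_mulVec, neg_dotProduct, dotProduct_comm]
  have h3 : (2 : F) * (x ⬝ᵥ M *ᵥ x) = 0 := by linear_combination h1
  exact (mul_eq_zero.1 h3).resolve_left h2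

theorem alt_J (m : ℕ) (x : Fin m ⊕ Fin m → F) : x ⬝ᵥ Matrix.J (Fin m) F *ᵥ x = 0 := by
  rw [← Symplectic.stdForm_eq_dot]
  exact (Symplectic.isSympForm_stdForm m F).self x

theorem alt_reindex {ι : Type} [Fintype ι] [DecidableEq ι] (e : ι ≃ Fin n) {M : Matrix ι ι F}
    (h : ∀ x : ι → F, x ⬝ᵥ M *ᵥ x = 0) (x : Fin n → F) : x ⬝ᵥ Matrix.reindex e e M *ᵥ x = 0 := by
  rw [Matrix.reindex_apply, Matrix.submatrix_mulVec_equiv, Equiv.symm_symm, dotProduct_comp_equiv_symm]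
  exact h _

/-! ### Centralisers -/

/-- Alternating type: `PGSp`. -/
theorem nonempty_pgsp [Finite F] (hn : 2 ≤ n) (H : GLn) (ha : ∀ x : Fin n → F, x ⬝ᵥ (H : Mn) *ᵥ x = 0)
    {m : ℕ} (hnm : n = 2 * m) : Nonempty (Cent (gphH H) ≃* Cfsg.PGSp m F) := by
  obtain ⟨φ⟩ := nonempty_cent hn H
  obtain ⟨m', e, P, hP⟩ := exists_alt_congr ha (det_ne H)
  obtain rfl : m' = m := by
    have := Fintype.card_congr e
    simp at this
    omega
  obtain ⟨ψ⟩ := nonempty_simB_congr e P 1 (M := (H : Mn)) (M' := Matrix.J (Fin m') F)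
    (by rw [hP, Units.val_one, one_smul])
  exact ⟨φ.trans ψ⟩

/-- A form similar to the polar matrix of `Q`: `PGO(Q)`. -/
theorem nonempty_pgo (hn : 2 ≤ n) (h2 : (2 : F) ≠ 0) (H : GLn) {ι : Type} [Fintype ι] [DecidableEq ι]
    (Q : QuadraticForm F (ι → F)) {f : (ι → F) → F} (hf : ∀ v, f v = Q v) (e : ι ≃ Fin n)
    (hP : ∃ (P : GLn) (a : Fˣ), (P : Mn)ᵀ * (H : Mn) * (P : Mn) = (a : F) • Matrix.reindex e e (Forms.gram Q)) :
    Nonempty (Cent (gphH H) ≃* Cfsg.PGO F f) := by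
  obtain ⟨φ⟩ := nonempty_cent hn H
  obtain ⟨P, a, hP⟩ := hP
  obtain ⟨ψ⟩ := nonempty_simB_congr e P a hP
  have hq : Nonempty (Cfsg.projQuot (simB (Forms.gram Q)) ≃* Cfsg.PGO F f) := by
    show Nonempty (_ ≃* Cfsg.projQuot (Cfsg.Geo.quadSimilarityGroup (F := F) f))
    rw [quadSimilarityGroup_eq h2 Q hf]
    exact ⟨MulEquiv.refl _⟩
  exact hq.map fun χ => φ.trans (ψ.symm.trans χ)

theorem nonempty_odd [Finite F] (hn : 3 ≤ n) (h2 : (2 : F) ≠ 0) {m : ℕ} (hnm : n = 2 * m + 1)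
    (H : GLn) (hs : (H : Mn)ᵀ = H) :
    Nonempty (Cent (gphH H) ≃* Cfsg.PGO F (Cfsg.quadFormOdd m F)) := by
  let e : Unit ⊕ (Fin m ⊕ Fin m) ≃ Fin n := Fintype.equivFinOfCardEq (by simp; omega)
  refine nonempty_pgo (by omega) h2 H (OrthStd.qOddC m F) (OrthStd.quadFormOdd_eq m) e ?_
  exact exists_similar h2 ⟨m, hnm⟩
    (by rw [transpose_reindex, gram_transpose]) hs
    (by rw [det_reindex_self, det_qOddC]; exact mul_ne_zero h2 (pow_ne_zero _ (neg_ne_zero.2 one_ne_zero)))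
    (det_ne H)

theorem isSquare_mul_of_nonsquares [Finite F] (h2 : (2 : F) ≠ 0) {x y : F} (hx : ¬ IsSquare x)
    (hy : ¬ IsSquare y) : IsSquare (x * y) := by
  have h := Forms.isSquare_div_of_nonsquares h2 hx (b := y⁻¹) (by rwa [isSquare_inv])
  rwa [div_inv_eq_mul] at h

theorem nonempty_plus [Finite F] (hn : 2 ≤ n) (h2 : (2 : F) ≠ 0) {m : ℕ} (hnm : n = 2 * m)
    (H : GLn) (hs : (H : Mn)ᵀ = H) (hsq : IsSquare ((H : Mn).det * (-1) ^ m)) :
    Nonempty (Cent (gphH H) ≃* Cfsg.PGO F (Cfsg.quadFormPlus m F)) := by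
  let e : Fin m ⊕ Fin m ≃ Fin n := Fintype.equivFinOfCardEq (by simp; omega)
  refine nonempty_pgo hn h2 H (Forms.qPlus m) (OrthStd.quadFormPlus_eq m) e ?_
  obtain ⟨P, hP⟩ := exists_congr h2 (H := Matrix.reindex e e (Forms.gram (Forms.qPlus (F := F) m)))
    (by rw [transpose_reindex, gram_transpose]) hs
    (by rw [det_reindex_self, det_qPlus]; exact pow_ne_zero _ (neg_ne_zero.2 one_ne_zero))
    (det_ne H) (by rw [det_reindex_self, det_qPlus, mul_comm]; exact hsq)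
  exact ⟨P, 1, by rw [hP, Units.val_one, one_smul]⟩

theorem det_minus_mul [Finite F] (h2 : (2 : F) ≠ 0) {m : ℕ} (hm : 1 ≤ m) {d : F}
    (hsq : ¬ IsSquare (d * (-1) ^ m)) {a b : F}
    (hab : ∀ z₁ z₂ : F, z₁ ^ 2 + a * z₁ * z₂ + b * z₂ ^ 2 = 0 → z₁ = 0 ∧ z₂ = 0) :
    IsSquare ((-1) ^ (m - 1) * (4 * b - a ^ 2) * d) := by
  obtain ⟨k, rfl⟩ : ∃ k, m = k + 1 := ⟨m - 1, by omega⟩
  have h := isSquare_mul_of_nonsquares h2 hsq (not_isSquare_disc h2 hab)
  have e : (-1 : F) ^ k * (4 * b - a ^ 2) * d = d * (-1) ^ (k + 1) * (a ^ 2 - 4 * b) := by ring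
  rw [Nat.add_sub_cancel, e]
  exact h

theorem det_minus_ne [Finite F] (h2 : (2 : F) ≠ 0) (m : ℕ) {a b : F}
    (hab : ∀ z₁ z₂ : F, z₁ ^ 2 + a * z₁ * z₂ + b * z₂ ^ 2 = 0 → z₁ = 0 ∧ z₂ = 0) :
    (Forms.gram (OrthStd.qMinusC m a b)).det ≠ 0 := by
  rw [det_qMinusC]
  refine mul_ne_zero (pow_ne_zero _ (neg_ne_zero.2 one_ne_zero)) fun h => not_isSquare_disc h2 hab ?_
  rw [show a ^ 2 - 4 * b = 0 by linear_combination -h]
  exact IsSquare.zero

theorem nonempty_minus [Finite F] (hn : 2 ≤ n) (h2 : (2 : F) ≠ 0) {m : ℕ} (hnm : n = 2 * m)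
    (H : GLn) (hs : (H : Mn)ᵀ = H) (hsq : ¬ IsSquare ((H : Mn).det * (-1) ^ m)) {a b : F}
    (hab : ∀ z₁ z₂ : F, z₁ ^ 2 + a * z₁ * z₂ + b * z₂ ^ 2 = 0 → z₁ = 0 ∧ z₂ = 0) :
    Nonempty (Cent (gphH H) ≃* Cfsg.PGO F (Cfsg.quadFormMinus (m - 1) F a b)) := by
  let e : (Fin (m - 1) ⊕ Fin (m - 1)) ⊕ Fin 2 ≃ Fin n := Fintype.equivFinOfCardEq (by simp; omega)
  refine nonempty_pgo hn h2 H (OrthStd.qMinusC (m - 1) a b) (OrthStd.quadFormMinus_eq _ a b) e ?_
  obtain ⟨P, hP⟩ := exists_congr h2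
    (H := Matrix.reindex e e (Forms.gram (OrthStd.qMinusC (m - 1) a b)))
    (by rw [transpose_reindex, gram_transpose]) hs
    (by rw [det_reindex_self]; exact det_minus_ne h2 _ hab)
    (det_ne H) (by rw [det_reindex_self, det_qMinusC]; exact det_minus_mul h2 (by omega) hsq hab)
  exact ⟨P, 1, by rw [hP, Units.val_one, one_smul]⟩

/-! ### Splitting -/

theorem det_sq_simB {M : Mn} (hd : M.det ≠ 0) {g : GLn} {c : Fˣ}
    (h : (g : Mn)ᵀ * M * (g : Mn) = (c : F) • M) :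
    (g : Mn).det * (g : Mn).det = (c : F) ^ n := by
  have h1 := congrArg Matrix.det h
  rw [det_mul, det_mul, det_transpose, det_smul, Fintype.card_fin] at h1
  exact mul_right_cancel₀ hd (by linear_combination h1)

theorem split_bot [Finite F] (hn : 2 ≤ n) (h : Odd n ∨ (2 : F) = 0) (H : GLn) :
    Cfsg.splitClassCount (Cfsg.inndiagPSL n F) (Cfsg.Inn PSLn) (gphH H) = Nat.gcd n (Nat.card Fˣ) := by
  rw [splitClassCount_gphH hn H ⊥ (fun g hg => ?_) (fun u hu => ⟨1, (simB (H : Mn)).one_mem, by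
    rw [Subgroup.mem_bot.1 hu, map_one]⟩), Subgroup.index_bot]
  obtain ⟨c, hc⟩ := mem_simB.1 hg
  have hd := det_sq_simB (det_ne H) hc
  refine Subgroup.mem_sup_left ?_
  rcases h with ⟨k, hk⟩ | h2
  · refine ⟨GeneralLinearGroup.det g / c ^ k, Units.ext ?_⟩
    show (((GeneralLinearGroup.det g / c ^ k) ^ n : Fˣ) : F) = _
    rw [show ∀ x : Fˣ, x ^ n = x ^ (2 * k + 1) from fun x => congrArg (x ^ ·) hk,
      Units.val_pow_eq_pow_val, Units.val_div_eq_div_val, Units.val_pow_eq_pow_val]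
    show ((g : Mn).det / (c : F) ^ k) ^ (2 * k + 1) = (g : Mn).det
    have hc0 : (c : F) ^ k ≠ 0 := pow_ne_zero _ c.ne_zero
    rw [pow_succ, pow_mul, div_pow _ _ 2, sq (g : Mn).det, hd,
      show (c : F) ^ n = (c : F) ^ (2 * k + 1) from congrArg ((c : F) ^ ·) hk]
    have e : (c : F) ^ (2 * k + 1) / ((c : F) ^ k) ^ 2 = c := by
      rw [← pow_mul, mul_comm k 2, pow_succ, mul_div_cancel_left₀ _ (pow_ne_zero _ c.ne_zero)]
    rw [e, mul_div_cancel₀ _ hc0]
  · obtain ⟨r, hr⟩ := Forms.exists_sqrt h2 (c : F)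
    have hr0 : r ≠ 0 := fun h => c.ne_zero (by rw [← hr, h, mul_zero])
    refine ⟨Units.mk0 r hr0, Units.ext ?_⟩
    show ((Units.mk0 r hr0 : Fˣ) : F) ^ n = (g : Mn).det
    rw [Units.val_mk0]
    have h3 : (r ^ n - (g : Mn).det) ^ 2 = 0 := by
      rw [← hr] at hd
      linear_combination hd + (-(r ^ n) * (g : Mn).det + r ^ n * r ^ n) * h2 - (mul_pow r r n).symm
    exact sub_eq_zero.1 (pow_eq_zero_iff two_ne_zero |>.1 h3)

theorem card_units_eq [Fintype F] : Nat.card Fˣ = Fintype.card F - 1 := by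
  classical
  rw [Nat.card_eq_fintype_card, Fintype.card_units]

theorem index_range_pow [Finite F] (m : ℕ) :
    (powMonoidHom m : Fˣ →* Fˣ).range.index = Nat.gcd m (Nat.card Fˣ) := by
  have := AutPSL.index_range_pow_sup (G := Fˣ) m ⊥
  rwa [sup_bot_eq, Subgroup.index_bot] at this

theorem split_alt [Finite F] (hn : 2 ≤ n) (H : GLn) (ha : ∀ x : Fin n → F, x ⬝ᵥ (H : Mn) *ᵥ x = 0)
    {m : ℕ} (hnm : n = 2 * m) :
    Cfsg.splitClassCount (Cfsg.inndiagPSL n F) (Cfsg.Inn PSLn) (gphH H) = Nat.gcd m (Nat.card Fˣ) := by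
  obtain ⟨m', e, P, hP⟩ := exists_alt_congr ha (det_ne H)
  obtain rfl : m' = m := by
    have := Fintype.card_congr e
    simp at this
    omega
  have hP' : (P : Matrix (Fin m' ⊕ Fin m') (Fin m' ⊕ Fin m') F)ᵀ * Matrix.J (Fin m') F *
      (P : Matrix (Fin m' ⊕ Fin m') (Fin m' ⊕ Fin m') F) =
      ((1 : Fˣ) : F) • Matrix.reindex e e (H : Mn) := by rw [hP, Units.val_one, one_smul]
  have hmap := map_simB e P 1 hP'
  rw [splitClassCount_gphH hn H (powMonoidHom m' : Fˣ →* Fˣ).range (fun g hg => ?_) (fun u hu => ?_),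
    index_range_pow]
  · rw [← Nat.gcd_assoc, Nat.gcd_eq_right (Dvd.intro_left 2 hnm.symm)]
  · refine Subgroup.mem_sup_right ?_
    have h' : coordChange e P g ∈ simB (Matrix.J (Fin m') F) := hmap ▸ ⟨g, hg, rfl⟩
    obtain ⟨c, hc⟩ := mem_simB.1 h'
    refine ⟨c, Units.ext ?_⟩
    show ((c ^ m' : Fˣ) : F) = (g : Mn).det
    rw [Units.val_pow_eq_pow_val, ← det_simB_J hc, det_coordChange]
  · obtain ⟨c, rfl⟩ := hu
    obtain ⟨g', hg'⟩ := exists_simB_J (F := F) m' c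
    obtain ⟨g, hg, he⟩ : g' ∈ (simB (H : Mn)).map (coordChange e P).toMonoidHom :=
      hmap.symm ▸ mem_simB.2 ⟨c, hg'⟩
    refine ⟨g, hg, Units.ext ?_⟩
    show (g : Mn).det = ((c ^ m' : Fˣ) : F)
    rw [← det_coordChange e P, Units.val_pow_eq_pow_val, ← det_simB_J hg', ← he]
    rfl

theorem split_symm [Fintype F] (hn : 2 ≤ n) (h2 : (2 : F) ≠ 0) (H : GLn) (hs : (H : Mn)ᵀ = H) {m : ℕ}
    (hnm : n = 2 * m) :
    Cfsg.splitClassCount (Cfsg.inndiagPSL n F) (Cfsg.Inn PSLn) (gphH H) =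
      Nat.gcd n (Fintype.card F - 1) / 2 := by
  classical
  have hpow : ∀ c : Fˣ, (c : F) ^ n = (c : F) ^ m * (c : F) ^ m := fun c =>
    (congrArg ((c : F) ^ ·) hnm).trans (by ring)
  have hsim : ∀ c : Fˣ, ∃ g ∈ simB (H : Mn),
      GeneralLinearGroup.det g = c ^ m ∨ GeneralLinearGroup.det g = -(c ^ m) := by
    intro c
    obtain ⟨g, hg⟩ := exists_congr h2 (H := (c : F) • (H : Mn)) (H' := (H : Mn))
      (by rw [transpose_smul, hs]) hs
      (by rw [det_smul]; exact mul_ne_zero (pow_ne_zero _ c.ne_zero) (det_ne H)) (det_ne H)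
      ⟨(c : F) ^ m * (H : Mn).det, by rw [det_smul, Fintype.card_fin, hpow c]; ring⟩
    refine ⟨g, mem_simB.2 ⟨c, hg⟩, ?_⟩
    have hd := det_sq_simB (det_ne H) hg
    rcases mul_self_eq_mul_self_iff.1 (show (g : Mn).det * (g : Mn).det = (c : F) ^ m * (c : F) ^ m by
      rw [hd, hpow c]) with h | h
    · left; exact Units.ext (h.trans (Units.val_pow_eq_pow_val c m).symm)
    · right
      refine Units.ext ?_
      show (g : Mn).det = _
      rw [h, Units.val_neg, Units.val_pow_eq_pow_val]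
  have hneg : ∃ g ∈ simB (H : Mn), GeneralLinearGroup.det g = -1 := by
    obtain ⟨α, hα⟩ := FiniteField.exists_nonsquare (F := F) (fun h => h2 (by
      have := ringChar.Nat.cast_ringChar (R := F)
      rw [h] at this; exact_mod_cast this))
    obtain ⟨k, rfl⟩ : ∃ k, n = k + 1 := ⟨n - 1, by omega⟩
    obtain ⟨P, c, -, hP⟩ := exists_diag h2 hα (H : Matrix (Fin (k + 1)) (Fin (k + 1)) F) hs (det_ne H)
    let R : GL (Fin (k + 1)) F := ⟨Matrix.diagonal (fun i => if i = 0 then -1 else 1),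
      Matrix.diagonal (fun i => if i = 0 then -1 else 1),
      by rw [diagonal_mul_diagonal, ← diagonal_one]; congr 1; funext i; split <;> simp,
      by rw [diagonal_mul_diagonal, ← diagonal_one]; congr 1; funext i; split <;> simp⟩
    set D : Matrix (Fin (k + 1)) (Fin (k + 1)) F := Matrix.diagonal fun i => if i = Fin.last k then c else 1
    have hR : (R : Matrix (Fin (k + 1)) (Fin (k + 1)) F)ᵀ * D * (R : Matrix (Fin (k + 1)) (Fin (k + 1)) F) = D := by
      show (Matrix.diagonal _)ᵀ * Matrix.diagonal _ * Matrix.diagonal _ = _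
      rw [diagonal_transpose, diagonal_mul_diagonal, diagonal_mul_diagonal]
      congr 1; funext i
      have hk0 : k ≠ 0 := by omega
      by_cases hi : i = 0 <;> simp [hi, hk0, eq_comm]
    refine ⟨P * R * P⁻¹, mem_simB.2 ⟨1, ?_⟩, Units.ext ?_⟩
    · rw [Units.val_one, one_smul, Units.val_mul, Units.val_mul]
      set p : Matrix (Fin (k + 1)) (Fin (k + 1)) F := (P : Matrix (Fin (k + 1)) (Fin (k + 1)) F)
      set p' : Matrix (Fin (k + 1)) (Fin (k + 1)) F := ((P⁻¹ : GL (Fin (k + 1)) F) : Matrix (Fin (k + 1)) (Fin (k + 1)) F)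
      have hp : p * p' = 1 := P.mul_inv
      calc (p * (R : Matrix (Fin (k + 1)) (Fin (k + 1)) F) * p')ᵀ * (H : Matrix (Fin (k + 1)) (Fin (k + 1)) F) * (p * (R : Matrix (Fin (k + 1)) (Fin (k + 1)) F) * p')
          = p'ᵀ * ((R : Matrix (Fin (k + 1)) (Fin (k + 1)) F)ᵀ * (pᵀ * (H : Matrix (Fin (k + 1)) (Fin (k + 1)) F) * p) * (R : Matrix (Fin (k + 1)) (Fin (k + 1)) F)) * p' := by
            simp only [transpose_mul, Matrix.mul_assoc]
        _ = p'ᵀ * (pᵀ * (H : Matrix (Fin (k + 1)) (Fin (k + 1)) F) * p) * p' := by rw [hP, hR]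
        _ = (p * p')ᵀ * (H : Matrix (Fin (k + 1)) (Fin (k + 1)) F) * (p * p') := by simp only [transpose_mul, Matrix.mul_assoc]
        _ = _ := by rw [hp, transpose_one, Matrix.one_mul, Matrix.mul_one]
    · rw [map_mul, map_mul, map_inv, mul_comm (GeneralLinearGroup.det P) _, mul_inv_cancel_right]
      show (Matrix.diagonal _).det = _
      rw [det_diagonal, Finset.prod_ite_eq']
      simp
  obtain ⟨gn, hgn, hgn'⟩ := hneg
  set U : Subgroup Fˣ := (powMonoidHom m : Fˣ →* Fˣ).range ⊔ Subgroup.zpowers (-1) with hU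
  have hneU : ∀ u : Fˣ, u ∈ U → -u ∈ U := fun u hu => by
    rw [← neg_one_mul]; exact mul_mem (Subgroup.mem_sup_right (Subgroup.mem_zpowers _)) hu
  rw [splitClassCount_gphH hn H U (fun g hg => ?_) (fun u hu => ?_)]
  · have hN : Nat.card Fˣ = Fintype.card F - 1 := card_units_eq
    have hne1 : (-1 : Fˣ) ≠ 1 := fun h => h2 (by
      have := congrArg Units.val h
      simp at this
      linear_combination -this)
    have ho : orderOf (-1 : Fˣ) = 2 := orderOf_eq_prime_iff.2 ⟨by simp, hne1⟩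
    have hz := Subgroup.index_mul_card (Subgroup.zpowers (-1 : Fˣ))
    rw [Nat.card_zpowers, ho, hN] at hz
    rw [hU, AutPSL.index_range_pow_sup, ← Nat.gcd_assoc, Nat.gcd_eq_right (Dvd.intro_left 2 hnm.symm),
      ← hz, hnm, mul_comm _ 2, Nat.gcd_mul_left]
    omega
  · refine Subgroup.mem_sup_right ?_
    obtain ⟨c, hc⟩ := mem_simB.1 hg
    have hd := det_sq_simB (det_ne H) hc
    rcases mul_self_eq_mul_self_iff.1 (show (g : Mn).det * (g : Mn).det = (c : F) ^ m * (c : F) ^ m by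
      rw [hd, hpow c]) with h | h
    · exact Subgroup.mem_sup_left ⟨c, Units.ext ((Units.val_pow_eq_pow_val c m).trans h.symm)⟩
    · have := hneU (c ^ m) (Subgroup.mem_sup_left ⟨c, rfl⟩)
      rwa [show -(c ^ m) = GeneralLinearGroup.det g from Units.ext (by
        rw [Units.val_neg, Units.val_pow_eq_pow_val]; exact h.symm)] at this
  · let D : Subgroup Fˣ := (simB (H : Mn)).map (GeneralLinearGroup.det : GLn →* Fˣ)
    have hUD : U ≤ D := by
      rw [hU, sup_le_iff, Subgroup.zpowers_le]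
      refine ⟨?_, ⟨gn, hgn, hgn'⟩⟩
      rintro _ ⟨c, rfl⟩
      obtain ⟨g, hg, h | h⟩ := hsim c
      · exact ⟨g, hg, h⟩
      · exact ⟨gn * g, mul_mem hgn hg, by rw [map_mul, hgn', h, neg_one_mul, neg_neg]; rfl⟩
    obtain ⟨g, hg, e⟩ := hUD hu
    exact ⟨g, hg, e⟩

/-- Orthogonal type is not `PGSp`. -/
theorem not_nonempty_pgsp [Fintype F] (hn : 3 ≤ n) (h2 : (2 : F) ≠ 0) (H : GLn) (hs : (H : Mn)ᵀ = H)
    {m : ℕ} (hnm : n = 2 * m) : ¬ Nonempty (Cent (gphH H) ≃* Cfsg.PGSp m F) := by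
  rintro ⟨φ⟩
  set q := Fintype.card F
  haveI : Nonempty (Fin m ⊕ Fin m) := ⟨.inl ⟨0, by omega⟩⟩
  have hsp : Nat.card (Cfsg.PGSp m F) = q ^ (m ^ 2) * ∏ i ∈ Finset.range m, (q ^ (2 * (i + 1)) - 1) := by
    show Nat.card (Cfsg.projQuot (simB (Matrix.J (Fin m) F))) = _
    rw [card_projQuot_simB (by rw [SymplecticGroup.det_eq_one (SymplecticGroup.J_mem _ _)]; exact one_ne_zero)
      (exists_simB_J m), card_isoB_J, Symplectic.card_sp Nat.card_eq_fintype_card m]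
  obtain ⟨k, hk⟩ : ∃ k, m = k + 1 := ⟨m - 1, by omega⟩
  subst hk
  rw [Finset.prod_range_succ] at hsp
  have hq : 3 ≤ q := by
    have h1 : 1 < q := Fintype.one_lt_card
    by_contra h
    exact h2 (by
      have : ((q : ℕ) : F) = 0 := FiniteField.cast_card_eq_zero F
      rw [show q = 2 by omega] at this; exact_mod_cast this)
  set Pr := ∏ i ∈ Finset.range k, (q ^ (2 * (i + 1)) - 1)
  have hPr : 0 < Pr := Finset.prod_pos fun i _ => by
    have : 1 < q ^ (2 * (i + 1)) := Nat.one_lt_pow (by omega) (by omega)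
    omega
  have hqq : 3 ≤ q ^ (k + 1) := le_trans hq (Nat.le_self_pow (by omega) q)
  have key : ∀ x, x ≤ q ^ (k + 1) + 1 →
      2 * q ^ ((k + 1) * k) * x * Pr < q ^ ((k + 1) ^ 2) * (Pr * (q ^ (2 * (k + 1)) - 1)) := by
    intro x hx
    rw [show (k + 1) ^ 2 = (k + 1) * k + (k + 1) by ring, pow_add q ((k + 1) * k), mul_comm 2 (k + 1),
      pow_mul]
    have h1 : 2 * x < q ^ (k + 1) * ((q ^ (k + 1)) ^ 2 - 1) := by
      have h3 : q ^ (k + 1) * 3 ≤ (q ^ (k + 1)) ^ 2 := by rw [sq]; exact Nat.mul_le_mul le_rfl hqq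
      have h4 : 3 * ((q ^ (k + 1)) ^ 2 - 1) ≤ q ^ (k + 1) * ((q ^ (k + 1)) ^ 2 - 1) :=
        Nat.mul_le_mul hqq le_rfl
      omega
    calc _ = q ^ ((k + 1) * k) * Pr * (2 * x) := by ring
      _ < q ^ ((k + 1) * k) * Pr * (q ^ (k + 1) * ((q ^ (k + 1)) ^ 2 - 1)) :=
          Nat.mul_lt_mul_of_pos_left h1 (Nat.mul_pos (Nat.pow_pos (by omega)) hPr)
      _ = _ := by ring
  have hcard := Nat.card_congr φ.toEquiv
  by_cases hsq : IsSquare ((H : Mn).det * (-1) ^ (k + 1))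
  · obtain ⟨ψ⟩ := nonempty_plus (by omega) h2 hnm H hs hsq
    rw [Nat.card_congr ψ.toEquiv] at hcard
    change Nat.card (Cfsg.projQuot _) = _ at hcard
    rw [quadSimilarityGroup_eq h2 _ (OrthStd.quadFormPlus_eq (k + 1)),
      card_projQuot_simB (by rw [det_qPlus]; exact pow_ne_zero _ (neg_ne_zero.2 one_ne_zero))
        (fun c => exists_mult h2 (gram_transpose _) (by rw [det_qPlus]; exact pow_ne_zero _ (neg_ne_zero.2 one_ne_zero))
          (m := k + 1) (by simp; ring) c),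
      ← card_isoB_gram h2 _ (OrthStd.quadFormPlus_eq (k + 1)),
      OrthStd.card_orth_plus rfl (k + 1) (by omega), hsp, Nat.add_sub_cancel] at hcard
    exact (key (Fintype.card F ^ (k + 1) - 1) (show Fintype.card F ^ (k + 1) - 1 ≤
      Fintype.card F ^ (k + 1) + 1 by omega)).ne hcard
  · obtain ⟨a, b, hab⟩ := exists_anisotropic h2
    obtain ⟨ψ⟩ := nonempty_minus (by omega) h2 hnm H hs hsq hab
    rw [Nat.card_congr ψ.toEquiv] at hcard
    change Nat.card (Cfsg.projQuot _) = _ at hcard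
    rw [quadSimilarityGroup_eq h2 _ (OrthStd.quadFormMinus_eq _ a b),
      card_projQuot_simB (det_minus_ne h2 _ hab)
        (fun c => exists_mult h2 (gram_transpose _) (det_minus_ne h2 _ hab)
          (m := k + 1) (by simp; ring) c),
      ← card_isoB_gram h2 _ (OrthStd.quadFormMinus_eq _ a b),
      OrthStd.card_orth_minus rfl (k + 1) (by omega) hab, hsp, Nat.add_sub_cancel] at hcard
    exact (key _ le_rfl).ne hcard

theorem two_ne_zero_of_odd [Fintype F] (h : Odd (Fintype.card F)) : (2 : F) ≠ 0 := by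
  intro h0
  have h1 := FiniteField.even_card_of_char_two (F := F)
    (CharP.ringChar_of_prime_eq_zero Nat.prime_two (by exact_mod_cast h0))
  have := Nat.odd_iff.1 h
  omega

end Cfsg.Agent.Lib.GraphClasses
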