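import Cfsg.Agent.Lib.GraphClasses.Alt
import Cfsg.Agent.Lib.Char2Inv.Forms
import Cfsg.Agent.Lib.Symplectic.OddOrthChar2

/-!
Symmetric matrices over a finite field of characteristic two: the non-alternating ones are congruent
to `1`, and the isometries of `1` are a symplectic group (odd dimension) or the stabiliser of a
vector in one (even dimension).
-/

set_option autoImplicit false
set_option linter.unusedSectionVars false
set_option linter.style.haveILetI false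
set_option linter.unusedSimpArgs false

namespace Cfsg.Agent.Lib.GraphClasses

open Matrix

variable {F : Type*} [Field F] {ι κ : Type} [Fintype ι] [DecidableEq ι] [Fintype κ] [DecidableEq κ]

theorem exists_sqrt_unit [Finite F] [CharP F 2] (c : Fˣ) : ∃ d : Fˣ, d * d = c := by
  obtain ⟨r, hr⟩ := Forms.exists_sqrt (CharTwo.two_eq_zero (R := F)) (c : F)
  exact ⟨Units.mk0 r fun h => c.ne_zero (by rw [← hr, h, mul_zero]), Units.ext hr⟩

/-- Non-alternating symmetric invertible matrices are congruent to `1`. -/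
theorem exists_orth_two [Finite F] [CharP F 2] {M : Matrix ι ι F} (hs : Mᵀ = M) (hd : M.det ≠ 0)
    (hna : ∃ x : ι → F, x ⬝ᵥ M *ᵥ x ≠ 0) :
    ∃ P : GL ι F, (P : Matrix ι ι F)ᵀ * M * (P : Matrix ι ι F) = 1 := by
  classical
  set B : (ι → F) → (ι → F) → F := fun u v => u ⬝ᵥ M *ᵥ v with hBdef
  have hB : Char2Inv.Forms.IsHerm (RingHom.id F) B := by
    refine ⟨fun u v w => add_dotProduct _ _ _, fun c u v => by simp [B], fun u v => ?_, fun x => rfl⟩
    show v ⬝ᵥ M *ᵥ u = u ⬝ᵥ M *ᵥ v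
    rw [dotProduct_mulVec, ← mulVec_transpose, hs, dotProduct_comm]
  have hW : Char2Inv.Forms.NondegOn B ⊤ := fun x _ hx => by
    have h0 : x ᵥ* M = 0 := funext fun j => by
      have := hx (Pi.single j 1) Submodule.mem_top
      rw [hBdef] at this
      simp only [dotProduct_mulVec] at this
      simpa using this
    by_contra hx0
    exact hd (Matrix.exists_vecMul_eq_zero_iff.1 ⟨x, hx0, h0⟩)
  obtain ⟨k, f, hf⟩ := Char2Inv.Forms.exists_orthonormal_frame hB
    (fun c _ => by obtain ⟨r, hr⟩ := Forms.exists_sqrt (CharTwo.two_eq_zero (R := F)) c; exact ⟨r, hr⟩)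
    ⊤ hW (fun _ => by obtain ⟨x, hx⟩ := hna; exact ⟨x, Submodule.mem_top, hx⟩)
  have hk : Fintype.card ι = Fintype.card (Fin k) := by
    rw [← hf.finrank_eq hB, finrank_top, Module.finrank_fintype_fun_eq_card]
  let e : ι ≃ Fin k := Fintype.equivOfCardEq hk
  let A : Matrix ι ι F := Matrix.of fun i j => f (e j) i
  have hA : IsUnit A := by
    rw [← Matrix.linearIndependent_cols_iff_isUnit]
    exact (hf.linearIndependent hB).comp e e.injective
  have hcol : ∀ j, A *ᵥ Pi.single j 1 = f (e j) := fun j => by funext i; simp [A]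
  refine ⟨hA.unit, ?_⟩
  ext i j
  show (Aᵀ * M * A) i j = _
  have h := hf.gram (e i) (e j)
  rw [hBdef] at h
  rw [← hcol, ← hcol] at h
  simp only [] at h
  rw [gram_mulVec_mul, Matrix.mulVec_single_one, single_one_dotProduct] at h
  simp only [id_eq, e.injective.eq_iff] at h
  rw [Matrix.one_apply, ← show Matrix.col (Aᵀ * M * A) j i = (Aᵀ * M * A) i j from rfl, h]
  simp [eq_comm]

/-- Two non-alternating symmetric invertible matrices are congruent. -/
theorem exists_congr_two [Finite F] [CharP F 2] {M M' : Matrix ι ι F} (hs : Mᵀ = M) (hd : M.det ≠ 0)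
    (hna : ∃ x : ι → F, x ⬝ᵥ M *ᵥ x ≠ 0) (hs' : M'ᵀ = M') (hd' : M'.det ≠ 0)
    (hna' : ∃ x : ι → F, x ⬝ᵥ M' *ᵥ x ≠ 0) :
    ∃ P : GL ι F, (P : Matrix ι ι F)ᵀ * M' * (P : Matrix ι ι F) = M := by
  obtain ⟨P, hP⟩ := exists_orth_two hs hd hna
  obtain ⟨P', hP'⟩ := exists_orth_two hs' hd' hna'
  refine ⟨P' * P⁻¹, ?_⟩
  set p : Matrix ι ι F := (P : Matrix ι ι F)
  set p' : Matrix ι ι F := ((P⁻¹ : GL ι F) : Matrix ι ι F)
  calc ((P' : Matrix ι ι F) * p')ᵀ * M' * ((P' : Matrix ι ι F) * p')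
      = p'ᵀ * ((P' : Matrix ι ι F)ᵀ * M' * (P' : Matrix ι ι F)) * p' := by
        simp only [transpose_mul, Matrix.mul_assoc]
    _ = p'ᵀ * (pᵀ * M * p) * p' := by rw [hP', hP]
    _ = (p * p')ᵀ * M * (p * p') := by simp only [transpose_mul, Matrix.mul_assoc]
    _ = M := by rw [show p * p' = 1 from P.mul_inv, transpose_one, Matrix.one_mul, Matrix.mul_one]

/-- In characteristic two `PGO = O`. -/
theorem nonempty_projQuot_iso [Finite F] [CharP F 2] [Nonempty ι] {M : Matrix ι ι F} (hd : M.det ≠ 0) :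
    Nonempty (Cfsg.projQuot (simB M) ≃* isoB M) := by
  have hle : isoB M ≤ simB M := fun g hg =>
    mem_simB.2 ⟨1, by rw [mem_isoB.1 hg, Units.val_one, one_smul]⟩
  have hM : M ≠ 0 := fun h => hd (by rw [h, det_zero])
  refine ⟨(MulEquiv.ofBijective ((QuotientGroup.mk' _).comp (Subgroup.inclusion hle)) ⟨?_, ?_⟩).symm⟩
  · rw [← MonoidHom.ker_eq_bot_iff, eq_bot_iff]
    rintro ⟨g, hg⟩ h
    rw [MonoidHom.mem_ker, MonoidHom.comp_apply, QuotientGroup.mk'_apply, QuotientGroup.eq_one_iff,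
      Subgroup.mem_subgroupOf] at h
    obtain ⟨c, hc⟩ := (Cfsg.Geo.mem_scalars_iff _).1 h
    have hc' : (g : Matrix ι ι F) = (c : F) • 1 := hc
    have h1 := mem_isoB.1 hg
    rw [hc', transpose_smul, transpose_one, Matrix.smul_mul, Matrix.one_mul, Matrix.mul_smul,
      Matrix.mul_one, smul_smul] at h1
    have hcc : (c : F) * c = 1 := smul_left_injective F hM (h1.trans (one_smul _ M).symm)
    have : (c : F) = 1 := by
      rcases mul_self_eq_one_iff.1 hcc with h | h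
      · exact h
      · rwa [CharTwo.neg_eq] at h
    refine Subgroup.mem_bot.2 (Subtype.ext (Units.ext ?_))
    rw [hc', this, one_smul]
    rfl
  · intro x
    obtain ⟨⟨g, hg⟩, rfl⟩ := QuotientGroup.mk_surjective x
    obtain ⟨c, hc⟩ := mem_simB.1 hg
    obtain ⟨d, hdc⟩ := exists_sqrt_unit c
    have hmem : GeneralLinearGroup.scalar ι d⁻¹ * g ∈ isoB M := by
      rw [mem_isoB, Units.val_mul, GeneralLinearGroup.coe_scalar, scalar_apply, ← smul_one_eq_diagonal,
        Matrix.smul_mul, Matrix.one_mul, transpose_smul, Matrix.smul_mul, Matrix.mul_smul,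
        Matrix.smul_mul, hc, smul_smul, smul_smul, ← Units.val_mul, ← Units.val_mul]
      rw [← hdc, show d⁻¹ * d⁻¹ * (d * d) = 1 by rw [mul_mul_mul_comm, inv_mul_cancel, one_mul]]
      rw [Units.val_one, one_smul]
    refine ⟨⟨_, hmem⟩, ?_⟩
    rw [MonoidHom.comp_apply, QuotientGroup.mk'_apply, QuotientGroup.eq, Subgroup.mem_subgroupOf]
    refine mem_scalars.2 ⟨d, ?_⟩
    show _ = (GeneralLinearGroup.scalar ι d⁻¹ * g)⁻¹ * g
    rw [_root_.mul_inv_rev, map_inv, inv_inv, mul_assoc,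
      GeneralLinearGroup.scalar_commute d g, inv_mul_cancel_left]

theorem map_isoB (e : ι ≃ κ) (P : GL κ F) {M : Matrix ι ι F} {M' : Matrix κ κ F}
    (h : (P : Matrix κ κ F)ᵀ * M' * (P : Matrix κ κ F) = Matrix.reindex e e M) (g : GL ι F) :
    coordChange e P g ∈ isoB M' ↔ g ∈ isoB M := by
  rw [mem_isoB, mem_isoB, coe_coordChange]
  set p : Matrix κ κ F := (P : Matrix κ κ F)
  set p' : Matrix κ κ F := ((P⁻¹ : GL κ F) : Matrix κ κ F)
  have hp : p * p' = 1 := P.mul_inv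
  have hp' : p' * p = 1 := P.inv_mul
  set R := Matrix.reindexAlgEquiv F F e
  have hM' : M' = p'ᵀ * R M * p' := by
    show M' = p'ᵀ * Matrix.reindex e e M * p'
    rw [← h, show p'ᵀ * (pᵀ * M' * p) * p' = (p * p')ᵀ * M' * (p * p') by
      simp only [transpose_mul, Matrix.mul_assoc], hp, transpose_one, Matrix.one_mul, Matrix.mul_one]
  have hexp : (p * Matrix.reindex e e (g : Matrix ι ι F) * p')ᵀ * M' *
      (p * Matrix.reindex e e (g : Matrix ι ι F) * p') =
      p'ᵀ * R ((g : Matrix ι ι F)ᵀ * M * (g : Matrix ι ι F)) * p' := by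
    rw [map_mul, map_mul, show (p * Matrix.reindex e e (g : Matrix ι ι F) * p')ᵀ * M' *
      (p * Matrix.reindex e e (g : Matrix ι ι F) * p') = p'ᵀ * ((Matrix.reindex e e (g : Matrix ι ι F))ᵀ *
      (pᵀ * M' * p) * Matrix.reindex e e (g : Matrix ι ι F)) * p' by
      simp only [transpose_mul, Matrix.mul_assoc], h]
    rfl
  rw [hexp, hM']
  constructor
  · intro h1
    apply R.injective
    have h2 := congrArg (fun X => pᵀ * X * p) h1
    simp only [show ∀ X, pᵀ * (p'ᵀ * X * p') * p = (p' * p)ᵀ * X * (p' * p) from fun X => by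
      simp only [transpose_mul, Matrix.mul_assoc], hp', transpose_one, Matrix.one_mul, Matrix.mul_one] at h2
    exact h2
  · intro h1
    rw [h1]

theorem nonempty_isoB_congr (e : ι ≃ κ) (P : GL κ F) {M : Matrix ι ι F} {M' : Matrix κ κ F}
    (h : (P : Matrix κ κ F)ᵀ * M' * (P : Matrix κ κ F) = Matrix.reindex e e M) :
    Nonempty (isoB M ≃* isoB M') := by
  have hmap : (isoB M).map (coordChange e P).toMonoidHom = isoB M' := by
    ext g'
    obtain ⟨g, rfl⟩ := (coordChange e P).surjective g'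
    rw [Subgroup.mem_map_equiv, MulEquiv.symm_apply_apply, map_isoB e P h]
  exact ⟨((coordChange e P).subgroupMap _).trans (MulEquiv.subgroupCongr hmap)⟩

/-! ### Odd dimension -/

variable (F) in
/-- `1 ⊥ J`. -/
def oneJ (m : ℕ) : Matrix (Unit ⊕ (Fin m ⊕ Fin m)) (Unit ⊕ (Fin m ⊕ Fin m)) F :=
  Matrix.fromBlocks 1 0 0 (Matrix.J (Fin m) F)

theorem oneJ_props [CharP F 2] (m : ℕ) : (oneJ F m)ᵀ = oneJ F m ∧ (oneJ F m).det ≠ 0 ∧
    ∃ x : Unit ⊕ (Fin m ⊕ Fin m) → F, x ⬝ᵥ oneJ F m *ᵥ x ≠ 0 := by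
  refine ⟨?_, ?_, ⟨Pi.single (Sum.inl ()) 1, ?_⟩⟩
  · rw [oneJ, fromBlocks_transpose, transpose_one, transpose_zero, transpose_zero, Matrix.J_transpose]
    congr 1
    ext i j
    exact CharTwo.neg_eq _
  · rw [oneJ, det_fromBlocks_zero₂₁, det_one, one_mul,
      SymplecticGroup.det_eq_one (SymplecticGroup.J_mem _ _)]
    exact one_ne_zero
  · simp [oneJ]

/-- `O(1 ⊥ J) ≅ Sp`. -/
theorem nonempty_oneJ_sp [CharP F 2] (m : ℕ) :
    Nonempty (symplecticGroup (Fin m) F ≃* isoB (oneJ F m)) := by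
  let φ : symplecticGroup (Fin m) F →* GL (Unit ⊕ (Fin m ⊕ Fin m)) F :=
    Units.map
      { toFun := fun A : Matrix (Fin m ⊕ Fin m) (Fin m ⊕ Fin m) F => Matrix.fromBlocks (1 : Matrix Unit Unit F) 0 0 A
        map_one' := fromBlocks_one
        map_mul' := fun A B => by simp [fromBlocks_multiply] } |>.comp
      ((Units.map (symplecticGroup (Fin m) F).subtype).comp toUnits.toMonoidHom)
  have hφ : ∀ A, (φ A : Matrix (Unit ⊕ (Fin m ⊕ Fin m)) (Unit ⊕ (Fin m ⊕ Fin m)) F) = Matrix.fromBlocks (1 : Matrix Unit Unit F) 0 0 A.1 := fun A => rfl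
  have hmem : ∀ A, φ A ∈ isoB (oneJ F m) := fun A => by
    rw [mem_isoB, hφ, oneJ, fromBlocks_transpose, fromBlocks_multiply, fromBlocks_multiply]
    simp [SymplecticGroup.mem_iff'.1 A.2]
  refine ⟨MulEquiv.ofBijective (φ.codRestrict _ hmem) ⟨fun A B h => Subtype.ext ?_, ?_⟩⟩
  · have := congrArg (fun g : isoB (oneJ F m) => (g.1 : Matrix (Unit ⊕ (Fin m ⊕ Fin m)) (Unit ⊕ (Fin m ⊕ Fin m)) F).toBlocks₂₂) h
    simpa [hφ, MonoidHom.codRestrict] using this
  rintro ⟨g, hg⟩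
  set G : Matrix (Unit ⊕ (Fin m ⊕ Fin m)) (Unit ⊕ (Fin m ⊕ Fin m)) F := (g : Matrix (Unit ⊕ (Fin m ⊕ Fin m)) (Unit ⊕ (Fin m ⊕ Fin m)) F)
  have hg' : Gᵀ * oneJ F m * G = oneJ F m := mem_isoB.1 hg
  set i0 : Unit ⊕ (Fin m ⊕ Fin m) := Sum.inl ()
  set e0 : Unit ⊕ (Fin m ⊕ Fin m) → F := Pi.single i0 1
  have hq : ∀ x, x ⬝ᵥ oneJ F m *ᵥ x = x i0 ^ 2 := fun x => by
    rw [oneJ, fromBlocks_mulVec]
    simp only [dotProduct, Fintype.sum_sum_type, Sum.elim_inl, Sum.elim_inr, zero_mulVec, add_zero,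
      zero_add, one_mulVec]
    have h1 : (x ∘ Sum.inr) ⬝ᵥ Matrix.J (Fin m) F *ᵥ (x ∘ Sum.inr) = 0 := by
      rw [← Symplectic.stdForm_eq_dot]
      exact (Symplectic.isSympForm_stdForm m F).self _
    simp only [dotProduct, Fintype.sum_sum_type, Function.comp_apply] at h1
    rw [h1, add_zero]
    simp [i0, sq]
  have hrow : ∀ x, (G *ᵥ x) i0 = x i0 := fun x => by
    have h1 : (G *ᵥ x) i0 ^ 2 = x i0 ^ 2 := by rw [← hq, ← hq, gram_mulVec_mul, hg']
    exact frobenius_inj F 2 h1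
  have hGT : Gᵀ *ᵥ e0 = e0 := funext fun j => by
    have := hrow (Pi.single j 1)
    rw [Matrix.mulVec_single_one] at this
    rw [Matrix.mulVec_single_one]
    simpa [e0, Pi.single_apply, eq_comm] using this
  have hK : oneJ F m *ᵥ e0 = e0 := funext fun j => by
    rcases j with j | j <;> simp [oneJ, e0, i0]
  have hcol : G *ᵥ e0 = e0 := by
    have h1 : (Gᵀ * oneJ F m) *ᵥ (G *ᵥ e0) = (Gᵀ * oneJ F m) *ᵥ e0 := by
      rw [mulVec_mulVec, hg', hK, ← mulVec_mulVec, hK, hGT]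
    have hu : IsUnit (Gᵀ * oneJ F m) := by
      refine IsUnit.mul ?_ ((Matrix.isUnit_iff_isUnit_det _).2 (isUnit_iff_ne_zero.2 (oneJ_props m).2.1))
      exact (Matrix.isUnit_transpose G).2 g.isUnit
    exact Matrix.mulVec_injective_of_isUnit hu h1
  have hG : G = Matrix.fromBlocks (1 : Matrix Unit Unit F) 0 0 G.toBlocks₂₂ := by
    ext i j
    rcases i with i | i <;> rcases j with j | j
    · have := congrFun hcol i0
      rw [Matrix.mulVec_single_one] at this
      simpa [e0, i0] using this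
    · have := congrFun hGT (Sum.inr j)
      rw [Matrix.mulVec_single_one] at this
      simpa [e0, i0] using this
    · have := congrFun hcol (Sum.inr i)
      rw [Matrix.mulVec_single_one] at this
      simpa [e0, i0] using this
    · rfl
  have hA : G.toBlocks₂₂ ∈ symplecticGroup (Fin m) F := by
    refine SymplecticGroup.mem_iff'.2 ?_
    rw [hG, oneJ, fromBlocks_transpose, fromBlocks_multiply, fromBlocks_multiply] at hg'
    simpa using congrArg Matrix.toBlocks₂₂ hg'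
  exact ⟨⟨_, hA⟩, Subtype.ext (Units.ext ((hφ ⟨_, hA⟩).trans hG.symm))⟩

/-! ### Even dimension -/

theorem isTransvection_symp {m : ℕ} {v : Fin m ⊕ Fin m → F} (hv : v ≠ 0) :
    Cfsg.IsTransvection (Cfsg.sympTransvection m v 1) := by
  have hJ : Matrix.J (Fin m) F *ᵥ v ≠ 0 := by
    intro h
    refine hv (Matrix.mulVec_injective_of_isUnit ((Matrix.isUnit_iff_isUnit_det _).2 ?_)
      (h.trans (mulVec_zero _).symm))
    rw [SymplecticGroup.det_eq_one (SymplecticGroup.J_mem _ _)]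
    exact isUnit_one
  have e : Cfsg.sympTransvection m v 1 - 1 = Matrix.vecMulVec v (Matrix.J (Fin m) F *ᵥ v) := by
    rw [Cfsg.sympTransvection, one_smul, add_sub_cancel_left]
  refine ⟨?_, ?_⟩
  · rw [e]
    refine le_antisymm (Matrix.rank_vecMulVec_le _ _) (Nat.one_le_iff_ne_zero.2 fun h0 => ?_)
    obtain ⟨i, hi⟩ := Function.ne_iff.1 hv
    obtain ⟨j, hj⟩ := Function.ne_iff.1 hJ
    have := congrFun (congrFun (show Matrix.vecMulVec v (Matrix.J (Fin m) F *ᵥ v) = 0 from Matrix.mulVec_injective.eq_iff.1 (funext fun x => by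
      have h1 := Submodule.finrank_eq_zero.1 h0
      have : Matrix.mulVecLin (Matrix.vecMulVec v (Matrix.J (Fin m) F *ᵥ v)) x ∈ LinearMap.range
          (Matrix.mulVecLin (Matrix.vecMulVec v (Matrix.J (Fin m) F *ᵥ v))) := ⟨x, rfl⟩
      rw [h1, Submodule.mem_bot] at this
      simpa using this)) i) j
    simp only [Matrix.vecMulVec_apply, Matrix.zero_apply, mul_eq_zero] at this
    exact this.elim hi hj
  · rw [e, Matrix.vecMulVec_mul_vecMulVec, dotProduct_comm, ← Symplectic.stdForm_eq_dot,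
      (Symplectic.isSympForm_stdForm m F).self, zero_smul]
    simp

/-- `O_{2m}` of the identity form is the centraliser of a transvection in `Sp_{2m}`. -/
theorem exists_centralizer_equiv [Finite F] [CharP F 2] {m : ℕ} (hm : 1 ≤ m) (hι : Fintype.card ι = 2 * m) :
    ∃ t : ↥(symplecticGroup (Fin m) F), Cfsg.IsTransvection (t : Matrix (Fin m ⊕ Fin m) (Fin m ⊕ Fin m) F) ∧
      Nonempty (isoB (1 : Matrix ι ι F) ≃* ↥(Subgroup.centralizer ({t} : Set ↥(symplecticGroup (Fin m) F)))) := by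
  classical
  set u : ι → F := fun _ => 1 with hu
  set Ω : Matrix ι ι F := 1 + Matrix.vecMulVec u u with hΩ
  have hl2 : ∀ x : ι → F, (x ⬝ᵥ u) * (x ⬝ᵥ u) = x ⬝ᵥ x := fun x => by
    simp only [hu, dotProduct, mul_one]
    exact CharTwo.sum_mul_self _ _
  have huu : u ⬝ᵥ u = 0 := by
    simp [hu, dotProduct, hι, CharTwo.two_eq_zero]
  have hΩv : ∀ x, Ω *ᵥ x = x + (u ⬝ᵥ x) • u := fun x => by
    rw [hΩ, add_mulVec, one_mulVec, vecMulVec_mulVec, op_smul_eq_smul]
  have hform : ∀ x y, x ⬝ᵥ Ω *ᵥ y = x ⬝ᵥ y + (x ⬝ᵥ u) * (y ⬝ᵥ u) := fun x y => by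
    rw [hΩv, dotProduct_add, dotProduct_smul, smul_eq_mul, dotProduct_comm u y]; ring
  have halt : ∀ x, x ⬝ᵥ Ω *ᵥ x = 0 := fun x => by rw [hform, hl2, CharTwo.add_self_eq_zero]
  have hΩu : Ω *ᵥ u = u := by rw [hΩv, huu, zero_smul, add_zero]
  have hd : Ω.det ≠ 0 := by
    intro h
    obtain ⟨x, hx, hx0⟩ := Matrix.exists_mulVec_eq_zero_iff.2 h
    rw [hΩv] at hx0
    have h1 := congrArg (u ⬝ᵥ ·) hx0
    simp only [dotProduct_add, dotProduct_smul, huu, smul_zero, add_zero, dotProduct_zero] at h1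
    rw [h1, zero_smul, add_zero] at hx0
    exact hx hx0
  obtain ⟨m', e, P, hP⟩ := exists_alt_congr halt hd
  obtain rfl : m' = m := by
    have := Fintype.card_congr e
    simp [hι] at this
    omega
  set p : Matrix (Fin m' ⊕ Fin m') (Fin m' ⊕ Fin m') F := (P : Matrix (Fin m' ⊕ Fin m') (Fin m' ⊕ Fin m') F)
  set a : Fin m' ⊕ Fin m' → F := p *ᵥ (u ∘ e.symm) with ha
  have ha0 : a ≠ 0 := by
    intro h
    have h1 := Matrix.mulVec_injective_of_isUnit P.isUnit (h.trans (mulVec_zero _).symm)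
    haveI : Nonempty ι := Fintype.card_pos_iff.1 (by omega)
    exact one_ne_zero (congrFun h1 (e (Classical.arbitrary ι)))
  let t : ↥(symplecticGroup (Fin m') F) := ⟨_, Symplectic.sympTransvection_mem a 1⟩
  refine ⟨t, isTransvection_symp ha0, ?_⟩
  have htv : ∀ x, (t : Matrix (Fin m' ⊕ Fin m') (Fin m' ⊕ Fin m') F) *ᵥ x =
      x + (x ⬝ᵥ Matrix.J (Fin m') F *ᵥ a) • a := fun x => by
    show Cfsg.sympTransvection m' a 1 *ᵥ x = _
    rw [Cfsg.sympTransvection, one_smul, add_mulVec, one_mulVec, vecMulVec_mulVec, op_smul_eq_smul,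
      dotProduct_comm]
  have hcent : ∀ A : ↥(symplecticGroup (Fin m') F), A ∈ Subgroup.centralizer {t} ↔ A.1 *ᵥ a = a := by
    intro A
    have hpres : ∀ x y, (A.1 *ᵥ x) ⬝ᵥ Matrix.J (Fin m') F *ᵥ (A.1 *ᵥ y) = x ⬝ᵥ Matrix.J (Fin m') F *ᵥ y :=
      fun x y => by rw [gram_mulVec_mul, SymplecticGroup.mem_iff'.1 A.2]
    rw [Subgroup.mem_centralizer_singleton_iff]
    constructor
    · intro h
      have hJ : Matrix.J (Fin m') F *ᵥ a ≠ 0 := by
        intro h
        refine ha0 (Matrix.mulVec_injective_of_isUnit ((Matrix.isUnit_iff_isUnit_det _).2 ?_)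
          (h.trans (mulVec_zero _).symm))
        rw [SymplecticGroup.det_eq_one (SymplecticGroup.J_mem _ _)]
        exact isUnit_one
      obtain ⟨j, hj⟩ := Function.ne_iff.1 hJ
      set x : Fin m' ⊕ Fin m' → F := Pi.single j ((Matrix.J (Fin m') F *ᵥ a) j)⁻¹
      have hx : x ⬝ᵥ Matrix.J (Fin m') F *ᵥ a = 1 := by
        rw [single_dotProduct]; exact inv_mul_cancel₀ hj
      have h1 := congrArg (fun B : ↥(symplecticGroup (Fin m') F) => B.1 *ᵥ x) h
      simp only [Subgroup.coe_mul, MulMemClass.coe_mul, ← mulVec_mulVec] at h1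
      rw [htv, htv, hx, one_smul, mulVec_add] at h1
      have h2 := add_left_cancel h1
      have h3 : (1 : F) = ((A.1 *ᵥ x) ⬝ᵥ Matrix.J (Fin m') F *ᵥ a) ^ 2 := by
        rw [← hx, ← hpres x a, h2, mulVec_smul, dotProduct_smul, smul_eq_mul, sq]
      have h4 : (A.1 *ᵥ x) ⬝ᵥ Matrix.J (Fin m') F *ᵥ a = 1 :=
        frobenius_inj F 2 (h3.symm.trans (one_pow 2).symm)
      rw [h2, h4, one_smul]
    · intro hA
      refine Subtype.ext (Matrix.ext_iff_mulVec.2 fun x => ?_)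
      show (A.1 * t.1) *ᵥ x = (t.1 * A.1) *ᵥ x
      rw [← mulVec_mulVec, ← mulVec_mulVec, htv, htv, mulVec_add, mulVec_smul, hA]
      conv_rhs => rw [← hA, hpres x a, hA]
  have hΦa : ∀ g : GL ι F, (coordChange e P g : Matrix (Fin m' ⊕ Fin m') (Fin m' ⊕ Fin m') F) *ᵥ a = a ↔ (g : Matrix ι ι F) *ᵥ u = u := by
    intro g
    have h1 : ((P⁻¹ : GL (Fin m' ⊕ Fin m') F) : Matrix (Fin m' ⊕ Fin m') (Fin m' ⊕ Fin m') F) *ᵥ a = u ∘ e.symm := by
      rw [ha, mulVec_mulVec, show _ * p = 1 from P.inv_mul, one_mulVec]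
    rw [coe_coordChange, ← mulVec_mulVec, ← mulVec_mulVec, h1]
    rw [show Matrix.reindex e e (g : Matrix ι ι F) *ᵥ (u ∘ e.symm) = ((g : Matrix ι ι F) *ᵥ u) ∘ e.symm by
      rw [Matrix.reindex_apply, Matrix.submatrix_mulVec_equiv, Function.comp_assoc, Equiv.symm_symm,
        Equiv.symm_comp_self, Function.comp_id]]
    exact ⟨fun h => e.symm.surjective.injective_comp_right (Matrix.mulVec_injective_of_isUnit P.isUnit h),
      fun h => by rw [h]⟩
  have hiso : ∀ g : GL ι F, g ∈ isoB (1 : Matrix ι ι F) ↔ g ∈ isoB Ω ∧ (g : Matrix ι ι F) *ᵥ u = u := by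
    intro g
    set G : Matrix ι ι F := (g : Matrix ι ι F)
    have hdot : ∀ {A : Matrix ι ι F}, Gᵀ * A * G = A → ∀ x y, (G *ᵥ x) ⬝ᵥ A *ᵥ (G *ᵥ y) = x ⬝ᵥ A *ᵥ y :=
      fun h x y => by rw [gram_mulVec_mul, h]
    constructor
    · intro hg
      have h1 : ∀ x y, (G *ᵥ x) ⬝ᵥ (G *ᵥ y) = x ⬝ᵥ y := fun x y => by
        simpa using hdot (mem_isoB.1 hg) x y
      have hl : ∀ x, (G *ᵥ x) ⬝ᵥ u = x ⬝ᵥ u := fun x =>
        frobenius_inj F 2 (show ((G *ᵥ x) ⬝ᵥ u) ^ 2 = (x ⬝ᵥ u) ^ 2 by rw [sq, sq, hl2, hl2, h1])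
      refine ⟨mem_isoB.2 (ext_of_form fun x y => ?_), ?_⟩
      · rw [← gram_mulVec_mul, hform, hform, h1, hl, hl]
      · refine dotProduct_eq _ _ fun z => ?_
        obtain ⟨x, rfl⟩ : ∃ x, z = G *ᵥ x := ⟨((g⁻¹ : GL ι F) : Matrix ι ι F) *ᵥ z, by
          rw [mulVec_mulVec, show G * _ = 1 from g.mul_inv, one_mulVec]⟩
        rw [h1, dotProduct_comm u x, dotProduct_comm u, hl]
    · rintro ⟨hg, hgu⟩
      have h1 := hdot (mem_isoB.1 hg)
      have hl : ∀ x, (G *ᵥ x) ⬝ᵥ u = x ⬝ᵥ u := fun x => by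
        have := h1 x u
        rwa [hgu, hΩu] at this
      refine mem_isoB.2 (ext_of_form fun x y => ?_)
      have := h1 x y
      rw [hform, hform, hl, hl, add_left_inj] at this
      rw [← gram_mulVec_mul, one_mulVec, one_mulVec, this]
  have hS : ∀ g : isoB (1 : Matrix ι ι F),
      (coordChange e P g.1 : Matrix (Fin m' ⊕ Fin m') (Fin m' ⊕ Fin m') F) ∈ symplecticGroup (Fin m') F := fun g =>
    SymplecticGroup.mem_iff'.2 (mem_isoB.1 ((map_isoB e P hP _).2 ((hiso _).1 g.2).1))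
  let φ : isoB (1 : Matrix ι ι F) →* ↥(Subgroup.centralizer ({t} : Set ↥(symplecticGroup (Fin m') F))) :=
    { toFun := fun g => ⟨⟨_, hS g⟩, (hcent _).2 ((hΦa g.1).2 ((hiso _).1 g.2).2)⟩
      map_one' := Subtype.ext (Subtype.ext (by simp))
      map_mul' := fun g h => Subtype.ext (Subtype.ext (by simp)) }
  refine ⟨MulEquiv.ofBijective φ ⟨fun g h hgh => ?_, fun A => ?_⟩⟩
  · exact Subtype.ext ((coordChange e P).injective (Units.ext
      (congrArg (fun B : ↥(Subgroup.centralizer ({t} : Set ↥(symplecticGroup (Fin m') F))) => B.1.1) hgh)))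
  · obtain ⟨g, hg⟩ := (coordChange e P).surjective
      ((Matrix.isUnit_iff_isUnit_det A.1.1).2 (SymplecticGroup.symplectic_det A.1.2)).unit
    have hg' : (coordChange e P g : Matrix (Fin m' ⊕ Fin m') (Fin m' ⊕ Fin m') F) = A.1.1 := congrArg Units.val hg
    have hmem : g ∈ isoB (1 : Matrix ι ι F) := (hiso g).2
      ⟨(map_isoB e P hP g).1 (mem_isoB.2 (by rw [hg']; exact SymplecticGroup.mem_iff'.1 A.1.2)),
        (hΦa g).1 (by rw [hg']; exact (hcent _).1 A.2)⟩
    exact ⟨⟨g, hmem⟩, Subtype.ext (Subtype.ext hg')⟩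

end Cfsg.Agent.Lib.GraphClasses
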