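import Cfsg.Agent.Lib.GraphClasses.PSL
import Cfsg.Agent.Lib.GraphClasses.TwoForms

/-!
Graph involutions of `PSL_n(2^f)`.
-/

set_option autoImplicit false
set_option linter.unusedSectionVars false
set_option linter.style.haveILetI false

namespace Cfsg.Agent.Lib.GraphClasses

open Matrix

variable {n : ℕ} {F : Type*} [Field F] [Finite F] [CharP F 2]

local notation "GLn" => GL (Fin n) F
local notation "Mn" => Matrix (Fin n) (Fin n) F

theorem symm_of_skew {H : GLn} (h : (H : Mn)ᵀ = (H : Mn) ∨ (H : Mn)ᵀ = -(H : Mn)) : (H : Mn)ᵀ = H := by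
  rcases h with h | h
  · exact h
  · rw [h]
    ext i j
    exact CharTwo.neg_eq _

theorem nonalt_of_odd {m : ℕ} (hnm : n = 2 * m + 1) (H : GLn) :
    ∃ x : Fin n → F, x ⬝ᵥ (H : Mn) *ᵥ x ≠ 0 := by
  by_contra h
  push Not at h
  obtain ⟨k, e, -, -⟩ := exists_alt_congr h (det_ne H)
  have := Fintype.card_congr e
  simp at this
  omega

/-- In characteristic two `PGO(Q) = O(Q)` for the odd-dimensional model. -/
theorem nonempty_pgo_odd_two (m : ℕ) :
    Nonempty (Cfsg.PGO F (Cfsg.quadFormOdd m F) ≃* Cfsg.isometryGroup F (Cfsg.quadFormOdd m F)) := by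
  set f := Cfsg.quadFormOdd m F
  have hhom : ∀ (c : F) v, f (c • v) = c * c * f v := fun c v => by
    show Cfsg.quadFormOdd m F (c • v) = c * c * Cfsg.quadFormOdd m F v
    rw [OrthStd.quadFormOdd_eq, OrthStd.quadFormOdd_eq, Forms.Q_smul]
  have hne : f (Pi.single (Sum.inl ()) 1) = 1 := by simp [f, Cfsg.quadFormOdd]
  set Sm := Cfsg.Geo.quadSimilarityGroup (F := F) f
  have hle : Cfsg.isometryGroup F f ≤ Sm := fun g hg => ⟨1, fun v => by
    rw [Units.val_one, one_mul]; exact hg v v⟩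
  refine ⟨(MulEquiv.ofBijective ((QuotientGroup.mk' _).comp (Subgroup.inclusion hle)) ⟨?_, ?_⟩).symm⟩
  · rw [← MonoidHom.ker_eq_bot_iff, eq_bot_iff]
    rintro ⟨g, hg⟩ h
    rw [MonoidHom.mem_ker, MonoidHom.comp_apply, QuotientGroup.mk'_apply, QuotientGroup.eq_one_iff,
      Subgroup.mem_subgroupOf] at h
    obtain ⟨c, hc⟩ := (Cfsg.Geo.mem_scalars_iff _).1 h
    have hc' : (g : Matrix (Unit ⊕ (Fin m ⊕ Fin m)) (Unit ⊕ (Fin m ⊕ Fin m)) F) = (c : F) • 1 := hc
    have h1 : f ((g : Matrix (Unit ⊕ (Fin m ⊕ Fin m)) (Unit ⊕ (Fin m ⊕ Fin m)) F) *ᵥ Pi.single (Sum.inl ()) 1) =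
        f (Pi.single (Sum.inl ()) 1) := hg (Pi.single (Sum.inl ()) 1) (Pi.single (Sum.inl ()) 1)
    rw [hc', Matrix.smul_mulVec, one_mulVec, hhom, hne, mul_one] at h1
    have : (c : F) = 1 := by
      rcases mul_self_eq_one_iff.1 h1 with h | h
      · exact h
      · rwa [CharTwo.neg_eq] at h
    refine Subgroup.mem_bot.2 (Subtype.ext (Units.ext ?_))
    rw [hc', this, one_smul]
    rfl
  · intro x
    obtain ⟨⟨g, c, hc⟩, rfl⟩ := QuotientGroup.mk_surjective x
    obtain ⟨d, hdc⟩ := exists_sqrt_unit c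
    have hmem : GeneralLinearGroup.scalar _ d⁻¹ * g ∈ Cfsg.isometryGroup F f := fun v _ => by
      show f ((_ * _ : Matrix _ _ F) *ᵥ v) = f v
      rw [GeneralLinearGroup.coe_scalar, scalar_apply, ← smul_one_eq_diagonal, Matrix.smul_mul,
        Matrix.one_mul, Matrix.smul_mulVec, hhom, hc, ← hdc]
      have := d.ne_zero
      simp only [Units.val_mul, Units.val_inv_eq_inv_val]
      field_simp
    refine ⟨⟨_, hmem⟩, ?_⟩
    rw [MonoidHom.comp_apply, QuotientGroup.mk'_apply, QuotientGroup.eq, Subgroup.mem_subgroupOf]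
    refine mem_scalars.2 ⟨d, ?_⟩
    show _ = (GeneralLinearGroup.scalar _ d⁻¹ * g)⁻¹ * g
    rw [_root_.mul_inv_rev, map_inv, inv_inv, mul_assoc,
      GeneralLinearGroup.scalar_commute d g, inv_mul_cancel_left]

theorem nonempty_odd_two (hn : 3 ≤ n) {m : ℕ} (hnm : n = 2 * m + 1) (H : GLn)
    (hs : (H : Mn)ᵀ = H) :
    Nonempty (Cent (gphH H) ≃* Cfsg.PGO F (Cfsg.quadFormOdd m F)) := by
  haveI hne : Nonempty (Fin n) := ⟨⟨0, by omega⟩⟩
  let e : Unit ⊕ (Fin m ⊕ Fin m) ≃ Fin n := Fintype.equivFinOfCardEq (by simp; omega)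
  obtain ⟨hKs, hKd, x, hx⟩ := oneJ_props (F := F) m
  obtain ⟨P, hP⟩ := exists_congr_two (M := Matrix.reindex e e (oneJ F m)) (M' := (H : Mn))
    (by rw [transpose_reindex, hKs]) (by rwa [det_reindex_self])
    ⟨x ∘ e.symm, by
      rw [Matrix.reindex_apply, Matrix.submatrix_mulVec_equiv, Equiv.symm_symm, Function.comp_assoc,
        Equiv.symm_comp_self, Function.comp_id, comp_equiv_symm_dotProduct, Function.comp_assoc,
        Equiv.symm_comp_self, Function.comp_id]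
      exact hx⟩
    hs (det_ne H) (nonalt_of_odd hnm H)
  obtain ⟨φ⟩ := nonempty_cent (by omega) H
  obtain ⟨χ⟩ := nonempty_projQuot_iso (det_ne H)
  obtain ⟨ψ⟩ := nonempty_isoB_congr e P hP
  obtain ⟨s⟩ := nonempty_oneJ_sp (F := F) m
  obtain ⟨o⟩ := Symplectic.OddOrthChar2.nonempty_mulEquiv m F
  obtain ⟨r⟩ := nonempty_pgo_odd_two (F := F) m
  exact ⟨(((φ.trans χ).trans ψ.symm).trans s.symm).trans (o.symm.trans r.symm)⟩

end Cfsg.Agent.Lib.GraphClasses
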