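import Cfsg.Agent.Lib.GraphClasses.PSUBase
import Cfsg.Agent.Lib.GraphClasses.PSLTwo

/-!
Graph involutions of `PSU_n(q)` through forms over the fixed field.
-/

set_option autoImplicit false
set_option linter.unusedSectionVars false
set_option linter.style.haveILetI false

namespace Cfsg.Agent.Lib.GraphClasses

open Matrix AutPSL Field2

variable {n : ℕ} {F : Type*} [Field F] [Fintype F] {F₀ : Type*} [Field F₀]
  {σ : F ≃+* F} {j : F₀ →+* F} {q : ℕ}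

local notation "GLn" => GL (Fin n) F
local notation "GL₀" => GL (Fin n) F₀
local notation "M₀" => Matrix (Fin n) (Fin n) F₀
local notation "𝕫" c:max => GeneralLinearGroup.scalar (Fin n) c
local notation "GUn" => Cfsg.GU n F q

theorem exists_field2 (hF : Fintype.card F = q ^ 2) (F₀ : Type*) [Field F₀] [Fintype F₀]
    (hF₀ : Fintype.card F₀ = q) :
    ∃ (σ : F ≃+* F) (j : F₀ →+* F), Field2 σ j q := by
  classical
  let σ : F ≃+* F := RingEquiv.ofBijective (Unitary.conj hF)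
    ((Finite.injective_iff_bijective (f := Unitary.conj hF)).1 (Unitary.conj hF).injective)
  let K : Subfield F := (Unitary.conj hF).eqLocusField (RingHom.id F)
  letI : Fintype K := Fintype.ofFinite K
  have hK : Fintype.card K = q := by
    rw [← Nat.card_eq_fintype_card]; exact Unitary.card_fixed hF
  let e := FiniteField.ringEquivOfCardEq (K := F₀) (K' := K) (hF₀.trans hK.symm)
  refine ⟨σ, K.subtype.comp e.toRingHom, ⟨hF, fun _ => rfl, fun x => ⟨fun hx => ⟨e.symm ⟨x, hx⟩, ?_⟩, ?_⟩⟩⟩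
  · show ((e (e.symm ⟨x, hx⟩) : K) : F) = x
    rw [RingEquiv.apply_symm_apply]
  · rintro ⟨c, rfl⟩
    exact (e c).2

theorem coe_fieldGU' (σ : F ≃+* F) (g : GUn) : ((AutPSU.fieldGU σ g : GUn) : GLn) = mapGL σ (g : GLn) :=
  Units.ext rfl

/-- The graph automorphism of a unitary element. -/
def gU (σ : F ≃+* F) (g : GUn) : MulAut (Cfsg.PSU n F q) :=
  AutPSU.conjPSU n F q g * AutPSU.fieldPSU n F q σ

theorem conjPSU_eq_iff' (h : Field2 σ j q) (hn : 3 ≤ n) (g g' : GUn) :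
    AutPSU.conjPSU n F q g = AutPSU.conjPSU n F q g' ↔ ∃ z : Fˣ, (g' : GLn) = 𝕫 z * (g : GLn) := by
  rw [AutPSU.conjPSU_eq_iff h.card hn]
  constructor
  · rintro ⟨z, rfl⟩
    exact ⟨z.1, rfl⟩
  · rintro ⟨z, hz⟩
    have hm : 𝕫 z ∈ GUn := by
      rw [show 𝕫 z = (g' : GLn) * (g : GLn)⁻¹ by rw [hz, mul_inv_cancel_right]]
      exact mul_mem g'.2 (inv_mem g.2)
    exact ⟨⟨z, (h.mem_U1 z).2 ((h.scalar_mem_GU_iff (by omega) z).1 hm)⟩, Subtype.ext hz⟩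

theorem gU_eq_iff (h : Field2 σ j q) (hn : 3 ≤ n) (g g' : GUn) :
    gU σ g = gU σ g' ↔ ∃ z : Fˣ, (g' : GLn) = 𝕫 z * (g : GLn) := by
  rw [gU, gU, mul_left_inj, conjPSU_eq_iff' h hn]

theorem conj_gU (σ : F ≃+* F) (x g : GUn) :
    AutPSU.conjPSU n F q x * gU σ g * (AutPSU.conjPSU n F q x)⁻¹ =
      gU σ (x * g * (AutPSU.fieldGU σ x)⁻¹) := by
  rw [← map_inv, gU, gU, ← mul_assoc, ← map_mul, mul_assoc, AutPSU.fieldPSU_conjPSU, ← mul_assoc,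
    ← map_mul, map_inv]

theorem isGraphAutClassPSU_gU (h : Field2 σ j q) (hn : 3 ≤ n) (g : GUn) :
    Cfsg.IsGraphAutClassPSU (gU σ g) :=
  ⟨hn, _, _, σ, by rw [h.orderOf_eq]; exact even_two, AutPSU.isInnerDiagonalAutPSU_iff.2 ⟨g, rfl⟩,
    AutPSU.isFieldAutPSUOf_fieldPSU σ, rfl⟩

theorem gU_mul_gU (σ : F ≃+* F) (g : GUn) :
    gU σ g * gU σ g = AutPSU.conjPSU n F q (g * AutPSU.fieldGU σ g) * AutPSU.fieldPSU n F q (σ * σ) := by
  rw [gU, mul_assoc, ← mul_assoc (AutPSU.fieldPSU n F q σ), AutPSU.fieldPSU_conjPSU, mul_assoc,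
    ← map_mul (AutPSU.fieldPSU n F q), ← mul_assoc, ← map_mul]

theorem orderOf_gU (h : Field2 σ j q) (hn : 3 ≤ n) {g : GUn} {z : Fˣ}
    (hz : (g : GLn) * mapGL σ (g : GLn) = 𝕫 z) : orderOf (gU σ g) = 2 := by
  refine orderOf_eq_prime_iff.2 ⟨?_, ?_⟩
  · rw [sq, gU_mul_gU, show σ * σ = 1 from RingEquiv.ext h.sigma_sigma, map_one, mul_one,
      ← map_one (AutPSU.conjPSU n F q), eq_comm, conjPSU_eq_iff' h hn]
    exact ⟨z, by rw [Subgroup.coe_one, mul_one, Subgroup.coe_mul, coe_fieldGU', hz]⟩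
  · intro e
    rw [gU, ← AutPSU.semiAut_eq_mul] at e
    exact h.ne_one ((AutPSU.semiAut_eq_one_iff h.card hn _ _).1 e).1

theorem exists_gU (h : Field2 σ j q) {γ : MulAut (Cfsg.PSU n F q)}
    (hγ : Cfsg.IsGraphAutClassPSU γ) (hγ2 : orderOf γ = 2) :
    ∃ (g : GUn) (z : Fˣ), γ = gU σ g ∧ (g : GLn) * mapGL σ (g : GLn) = 𝕫 z := by
  obtain ⟨hn, δ, φ, τ, heven, hδ, hφ, rfl⟩ := hγ
  obtain ⟨g, rfl⟩ := AutPSU.isInnerDiagonalAutPSU_iff.1 hδ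
  rw [AutPSU.eq_fieldPSU hφ] at hγ2 ⊢
  change orderOf (gU τ g) = 2 at hγ2
  have e := (orderOf_eq_prime_iff.1 hγ2).1
  rw [sq, gU_mul_gU, ← AutPSU.semiAut_eq_mul] at e
  obtain ⟨hτ, l, hl⟩ := (AutPSU.semiAut_eq_one_iff h.card hn _ _).1 e
  have ho : orderOf τ = 2 := by
    refine orderOf_eq_prime_iff.2 ⟨by rw [sq, hτ], fun h1 => ?_⟩
    rw [h1, orderOf_one] at heven
    exact absurd heven (by decide)
  obtain ⟨p, k, hp, -, -, hq⟩ := Unitary.q_eq_primePow h.card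
  haveI := Fact.mk hp
  have hτσ : τ = σ := involution_unique (p := p) (f := k * 2) (by rw [h.card, hq, ← pow_mul]) ho h.orderOf_eq
  subst hτσ
  obtain ⟨z, -, hz⟩ := AutPSU.exists_scalarGU (by omega) hl
  exact ⟨g, z.1, rfl, by rw [← coe_fieldGU', ← Subgroup.coe_mul, hz]; rfl⟩

/-! ### Data -/

theorem Kg_transpose (h : Field2 σ j q) (B : GLn) :
    (invTGL (Kg σ B))⁻¹ = mapGL σ (Kg σ B) := by
  rw [Kg, map_mul, map_mul, map_inv, map_inv, invTGL_invTGL, _root_.mul_inv_rev, inv_inv,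
    h.mapGL_mapGL, mapGL_invTGL]

theorem ratio_fixed (h : Field2 σ j q) (hn : 0 < n) {X Y : GLn} {r : Fˣ}
    (e : Kg σ X = 𝕫 r * Kg σ Y) : mapUnits σ r = r := by
  have h1 := congrArg (fun M => (invTGL M)⁻¹) e
  simp only [map_mul, _root_.mul_inv_rev, invTGL_scalar, map_inv, inv_inv, Kg_transpose h] at h1
  rw [e, map_mul, mapGL_scalar,
    show mapGL σ (Kg σ Y) * 𝕫 r = 𝕫 r * mapGL σ (Kg σ Y) from (GeneralLinearGroup.scalar_commute _ _).symm,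
    mul_left_inj] at h1
  exact scalar_injective hn h1

theorem mem_GU_of_Kg (h : Field2 σ j q) {X Y : GLn} (e : Kg σ X = Kg σ Y) : X * Y⁻¹ ∈ GUn := by
  rw [h.mem_GU, map_mul, map_mul, map_inv, map_inv]
  rw [Kg, Kg] at e
  calc mapGL σ X * (mapGL σ Y)⁻¹ = invTGL X * ((invTGL X)⁻¹ * mapGL σ X) * (mapGL σ Y)⁻¹ := by group
    _ = invTGL X * (invTGL Y)⁻¹ := by rw [e]; group

theorem Kg_gu_mul (h : Field2 σ j q) {g : GLn} (hg : g ∈ GUn) (B : GLn) : Kg σ (g * B) = Kg σ B := by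
  rw [Kg, Kg, map_mul, map_mul, (h.mem_GU g).1 hg]; group

namespace Datum

/-- `x G σ(x)⁻¹` is a multiple of `G'` exactly when `x B` is a multiple of `B' J P`. -/
theorem exists_P (h : Field2 σ j q) {G G' x : GLn} (d : Datum σ j G) (d' : Datum σ j G') {z : Fˣ}
    (e : G' = 𝕫 z * (x * G * (mapGL σ x)⁻¹)) :
    ∃ (w : Fˣ) (P : GL₀), x * d.B = 𝕫 w * (d'.B * J j P) := by
  set Y : GLn := d'.B⁻¹ * (x * d.B) with hY0
  have hY : Y * (mapGL σ Y)⁻¹ = 𝕫 (d'.lam * (z * d.lam)⁻¹) := by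
    have e1 : x * G * (mapGL σ x)⁻¹ = 𝕫 d.lam * (x * (d.B * (mapGL σ d.B)⁻¹) * (mapGL σ x)⁻¹) := by
      conv_lhs => rw [d.hG, ← mul_assoc x, ← (GeneralLinearGroup.scalar_commute d.lam x : 𝕫 d.lam * x = x * 𝕫 d.lam)]
      group
    rw [e1, ← mul_assoc (𝕫 z), ← map_mul, d'.hG] at e
    have e' : x * (d.B * (mapGL σ d.B)⁻¹) * (mapGL σ x)⁻¹ =
        𝕫 (d'.lam * (z * d.lam)⁻¹) * (d'.B * (mapGL σ d'.B)⁻¹) := by
      rw [mul_comm d'.lam, map_mul, map_inv, mul_assoc (𝕫 (z * d.lam))⁻¹, e, inv_mul_cancel_left]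
    calc Y * (mapGL σ Y)⁻¹ = d'.B⁻¹ * (x * (d.B * (mapGL σ d.B)⁻¹) * (mapGL σ x)⁻¹) * mapGL σ d'.B := by
          simp only [hY0, map_mul, map_inv]; group
      _ = _ := by
          rw [e', ← mul_assoc d'.B⁻¹, show d'.B⁻¹ * 𝕫 (d'.lam * (z * d.lam)⁻¹) =
            𝕫 (d'.lam * (z * d.lam)⁻¹) * d'.B⁻¹ from (GeneralLinearGroup.scalar_commute _ _).symm]
          group
  set c := d'.lam * (z * d.lam)⁻¹
  rcases Nat.eq_zero_or_pos n with hn | hn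
  · exact ⟨1, 1, Units.ext (Matrix.ext fun i => absurd i.2 (by omega))⟩
  clear_value Y
  have hYσ : mapGL σ Y = 𝕫 c⁻¹ * Y := by
    rw [map_inv, eq_inv_mul_iff_mul_eq, ← hY, inv_mul_cancel_right]
  have hc : c * mapUnits σ c = 1 := by
    have e2 := congrArg (mapGL σ) hYσ
    rw [h.mapGL_mapGL, map_mul, mapGL_scalar, hYσ, ← mul_assoc, ← map_mul] at e2
    have e3 := scalar_injective hn ((mul_right_cancel (e2.symm.trans (one_mul Y).symm)).trans (map_one _).symm)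
    rw [map_inv, ← mul_inv, inv_eq_one] at e3
    rwa [mul_comm] at e3
  obtain ⟨w, hw⟩ := h.exists_div c hc
  obtain ⟨P, hP⟩ := h.exists_of_fixed (𝕫 w⁻¹ * Y) (by
    rw [map_mul, mapGL_scalar, hYσ, ← mul_assoc, ← map_mul, hw, map_inv, _root_.mul_inv_rev, inv_inv,
      inv_mul_cancel_left])
  refine ⟨w, P, ?_⟩
  rw [hP, ← mul_assoc d'.B, show d'.B * 𝕫 w⁻¹ = 𝕫 w⁻¹ * d'.B from
    (GeneralLinearGroup.scalar_commute _ _).symm, ← mul_assoc, ← mul_assoc, ← map_mul, mul_inv_cancel,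
    map_one, one_mul, hY0]
  group

theorem exists_z {G G' x : GLn} (d : Datum σ j G) (d' : Datum σ j G') {w : Fˣ} {P : GL₀}
    (h : Field2 σ j q) (hx : x * d.B = 𝕫 w * (d'.B * J j P)) :
    ∃ z : Fˣ, G' = 𝕫 z * (x * G * (mapGL σ x)⁻¹) := by
  set c : Fˣ := d.lam * (w * (mapUnits σ w)⁻¹) with hc
  refine ⟨d'.lam * c⁻¹, ?_⟩
  have hσ : mapGL σ x * mapGL σ d.B = 𝕫 (mapUnits σ w) * (mapGL σ d'.B * J j P) := by
    rw [← map_mul (mapGL σ), hx, map_mul, map_mul, mapGL_scalar, h.mapGL_J]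
  have e1 : x * G * (mapGL σ x)⁻¹ = 𝕫 d.lam * ((x * d.B) * (mapGL σ x * mapGL σ d.B)⁻¹) := by
    conv_lhs => rw [d.hG, ← mul_assoc x,
      ← (GeneralLinearGroup.scalar_commute d.lam x : 𝕫 d.lam * x = x * 𝕫 d.lam)]
    group
  have e2 : x * G * (mapGL σ x)⁻¹ = 𝕫 c * (d'.B * (mapGL σ d'.B)⁻¹) := by
    rw [e1, hx, hσ, _root_.mul_inv_rev, _root_.mul_inv_rev, ← map_inv (GeneralLinearGroup.scalar (Fin n))]
    calc 𝕫 d.lam * (𝕫 w * (d'.B * J j P) * ((J j P : GLn)⁻¹ * (mapGL σ d'.B)⁻¹ * 𝕫 (mapUnits σ w)⁻¹))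
        = 𝕫 d.lam * (𝕫 w * (d'.B * (mapGL σ d'.B)⁻¹ * 𝕫 (mapUnits σ w)⁻¹)) := by group
      _ = 𝕫 d.lam * (𝕫 w * (𝕫 (mapUnits σ w)⁻¹ * (d'.B * (mapGL σ d'.B)⁻¹))) := by
          rw [← (GeneralLinearGroup.scalar_commute (mapUnits σ w)⁻¹ (d'.B * (mapGL σ d'.B)⁻¹) :
            𝕫 (mapUnits σ w)⁻¹ * (d'.B * (mapGL σ d'.B)⁻¹) = _ * _)]
      _ = _ := by rw [← mul_assoc (𝕫 w), ← map_mul, ← mul_assoc (𝕫 d.lam), ← map_mul]
  rw [e2, ← mul_assoc, ← map_mul, inv_mul_cancel_right]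
  exact d'.hG

end Datum

theorem coe_gram_P (K P : GL₀) :
    (((invTGL P)⁻¹ * K * P : GL₀) : M₀) = (P : M₀)ᵀ * (K : M₀) * (P : M₀) := rfl

theorem gram_eq_iff (K K' P : GL₀) (a : F₀ˣ) :
    (invTGL P)⁻¹ * K' * P = GeneralLinearGroup.scalar (Fin n) a * K ↔
      (P : M₀)ᵀ * (K' : M₀) * (P : M₀) = (a : F₀) • (K : M₀) := by
  rw [Units.ext_iff, coe_gram_P, coe_scalar_mul]

theorem Datum.exists_x (h : Field2 σ j q) (hn : 0 < n) {G G' : GLn} (d : Datum σ j G) (d' : Datum σ j G')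
    {P : GL₀} {a : F₀ˣ} (hP : (P : M₀)ᵀ * (d'.K : M₀) * (P : M₀) = (a : F₀) • (d.K : M₀)) :
    ∃ (x : GUn) (w : Fˣ), (x : GLn) * d.B = 𝕫 w * (d'.B * J j P) := by
  have hK : Kg σ (d'.B * J j P) = 𝕫 (d'.kap * jU j a * d.kap⁻¹) * Kg σ d.B := by
    rw [h.Kg_mul_J _ _ _ P d'.hK, (gram_eq_iff d.K d'.K P a).2 hP, map_mul, J_scalar, d.hK,
      ← mul_assoc, ← map_mul, ← mul_assoc, ← map_mul, inv_mul_cancel_right]
  set r := d'.kap * jU j a * d.kap⁻¹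
  have hr := ratio_fixed h hn hK
  obtain ⟨w, hw⟩ := h.exists_norm r⁻¹ (by rw [map_inv, hr])
  have hm : 𝕫 w * (d'.B * J j P) * d.B⁻¹ ∈ GUn := mem_GU_of_Kg h (by
    rw [Kg_scalar_mul, hw, hK, ← mul_assoc, ← map_mul, inv_mul_cancel, map_one, one_mul])
  exact ⟨⟨_, hm⟩, w, inv_mul_cancel_right _ _⟩

theorem Datum.mult (h : Field2 σ j q) (hn : 0 < n) {G G' x : GLn} (d : Datum σ j G) (d' : Datum σ j G')
    (hx : x ∈ GUn) {w : Fˣ} {P : GL₀} (e : x * d.B = 𝕫 w * (d'.B * J j P)) :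
    ∃ a : F₀ˣ, jU j a = (w * mapUnits σ w)⁻¹ * (d.kap * d'.kap⁻¹) ∧
      (P : M₀)ᵀ * (d'.K : M₀) * (P : M₀) = (a : F₀) • (d.K : M₀) := by
  have hK := congrArg (Kg σ) e
  rw [Kg_gu_mul h hx, Kg_scalar_mul, h.Kg_mul_J _ _ _ P d'.hK, d.hK, ← mul_assoc, ← map_mul] at hK
  have hK' : J j ((invTGL P)⁻¹ * d'.K * P) = 𝕫 ((w * mapUnits σ w)⁻¹ * (d.kap * d'.kap⁻¹)) * J j d.K := by
    rw [show (w * mapUnits σ w)⁻¹ * (d.kap * d'.kap⁻¹) = (w * mapUnits σ w * d'.kap)⁻¹ * d.kap by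
      rw [mul_inv (w * mapUnits σ w), mul_comm d.kap, mul_assoc],
      map_mul (GeneralLinearGroup.scalar (Fin n)), mul_assoc (𝕫 (w * mapUnits σ w * d'.kap)⁻¹), hK,
      ← mul_assoc, ← map_mul, inv_mul_cancel, map_one, one_mul]
  obtain ⟨a, ha, ha'⟩ := h.exists_scalar_base hn hK'
  exact ⟨a, ha, (gram_eq_iff d.K d'.K P a).1 ha'⟩

/-- `Inndiag`-conjugacy is congruence up to a scalar over the fixed field. -/
theorem isConjUnder_gU (h : Field2 σ j q) (hn : 3 ≤ n) {g g' : GUn} (d : Datum σ j (g : GLn))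
    (d' : Datum σ j (g' : GLn)) :
    Cfsg.IsConjUnder (Cfsg.inndiagPSU n F q) (gU σ g) (gU σ g') ↔
      ∃ (P : GL₀) (a : F₀ˣ), (P : M₀)ᵀ * (d.K : M₀) * (P : M₀) = (a : F₀) • (d'.K : M₀) := by
  constructor
  · rintro ⟨_, hk, e⟩
    rw [AutPSU.inndiagPSU_eq_range] at hk
    obtain ⟨x, rfl⟩ := hk
    rw [conj_gU, eq_comm, gU_eq_iff h hn] at e
    obtain ⟨z, hz⟩ := e
    rw [Subgroup.coe_mul, Subgroup.coe_mul, Subgroup.coe_inv, coe_fieldGU'] at hz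
    obtain ⟨w, P, hP⟩ := d.exists_P h d' hz
    obtain ⟨a, -, ha⟩ := d.mult h (by omega) d' x.2 hP
    refine ⟨P⁻¹, a⁻¹, ?_⟩
    set p : M₀ := (P : M₀)
    set p' : M₀ := ((P⁻¹ : GL₀) : M₀)
    have hp : p * p' = 1 := P.mul_inv
    calc p'ᵀ * (d.K : M₀) * p' = p'ᵀ * (((a⁻¹ : F₀ˣ) : F₀) • ((a : F₀) • (d.K : M₀))) * p' := by
          rw [smul_smul, Units.inv_mul, one_smul]
      _ = ((a⁻¹ : F₀ˣ) : F₀) • (p'ᵀ * (pᵀ * (d'.K : M₀) * p) * p') := by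
          rw [← ha, Matrix.mul_smul, Matrix.smul_mul]
      _ = ((a⁻¹ : F₀ˣ) : F₀) • ((p * p')ᵀ * (d'.K : M₀) * (p * p')) := by
          simp only [transpose_mul, Matrix.mul_assoc]
      _ = _ := by rw [hp, transpose_one, Matrix.one_mul, Matrix.mul_one]
  · rintro ⟨P, a, hP⟩
    obtain ⟨x, w, hx⟩ := d'.exists_x h (by omega) d hP
    obtain ⟨z, hz⟩ := d'.exists_z d h hx
    refine ⟨(AutPSU.conjPSU n F q x)⁻¹, inv_mem (AutPSU.conjPSU_mem x), ?_⟩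
    have e : AutPSU.conjPSU n F q x * gU σ g' * (AutPSU.conjPSU n F q x)⁻¹ = gU σ g := by
      rw [conj_gU, gU_eq_iff h hn]
      exact ⟨z, by rw [Subgroup.coe_mul, Subgroup.coe_mul, Subgroup.coe_inv, coe_fieldGU']; exact hz⟩
    rw [← e]
    group

theorem mem_cent_gU (h : Field2 σ j q) (hn : 3 ≤ n) {g : GUn} (d : Datum σ j (g : GLn)) (x : GUn) :
    x ∈ AutPSU.cent (gU σ g) ↔ ∃ (w : Fˣ) (P : GL₀), (x : GLn) * d.B = 𝕫 w * (d.B * J j P) := by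
  rw [AutPSU.mem_cent, ← mul_inv_eq_iff_eq_mul, conj_gU, gU_eq_iff h hn]
  constructor
  · rintro ⟨z, hz⟩
    rw [Subgroup.coe_mul, Subgroup.coe_mul, Subgroup.coe_inv, coe_fieldGU'] at hz
    exact d.exists_P h d hz
  · rintro ⟨w, P, hx⟩
    obtain ⟨z, hz⟩ := d.exists_z d h hx
    exact ⟨z, by rw [Subgroup.coe_mul, Subgroup.coe_mul, Subgroup.coe_inv, coe_fieldGU']; exact hz⟩

theorem Datum.mult_self (h : Field2 σ j q) (hn : 0 < n) {G x : GLn} (d : Datum σ j G)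
    (hx : x ∈ GUn) {w : Fˣ} {P : GL₀} (e : x * d.B = 𝕫 w * (d.B * J j P)) :
    P ∈ simB (d.K : M₀) ∧ ∃ a : F₀ˣ, jU j a = (w * mapUnits σ w)⁻¹ ∧
      (P : M₀)ᵀ * (d.K : M₀) * (P : M₀) = (a : F₀) • (d.K : M₀) := by
  obtain ⟨a, ha, h'⟩ := d.mult h hn d hx e
  rw [mul_inv_cancel, mul_one] at ha
  exact ⟨mem_simB.2 ⟨a, h'⟩, a, ha, h'⟩

/-- `C_{PGU}(γ) ≅` the projective similitudes over the fixed field. -/
theorem nonempty_centU (h : Field2 σ j q) (hn : 3 ≤ n) {g : GUn} (d : Datum σ j (g : GLn)) :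
    Nonempty (↥(Cfsg.inndiagPSU n F q ⊓ Subgroup.centralizer {gU σ g}) ≃*
      Cfsg.projQuot (simB (d.K : M₀))) := by
  have hn0 : 0 < n := by omega
  have zc : ∀ (c : Fˣ) (X : GLn), X * 𝕫 c = 𝕫 c * X := fun c X =>
    (GeneralLinearGroup.scalar_commute _ _).symm
  let T : Subgroup (GUn × simB (d.K : M₀)) :=
    { carrier := {t | ∃ w : Fˣ, (t.1 : GLn) * d.B = 𝕫 w * (d.B * J j (t.2 : GL₀))}
      one_mem' := ⟨1, by simp⟩
      mul_mem' := by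
        rintro a b ⟨u, hu⟩ ⟨v, hv⟩
        refine ⟨u * v, ?_⟩
        show (a.1 : GLn) * (b.1 : GLn) * d.B = _
        rw [mul_assoc, hv, ← mul_assoc, zc, mul_assoc (𝕫 v), ← mul_assoc (a.1 : GLn), hu, Prod.snd_mul,
          Subgroup.coe_mul, map_mul (J j), map_mul]
        rw [mul_assoc (𝕫 u), ← mul_assoc (𝕫 v), ← map_mul, mul_comm v, map_mul]
        group
      inv_mem' := by
        rintro a ⟨u, hu⟩
        refine ⟨u⁻¹, ?_⟩
        show (a.1 : GLn)⁻¹ * d.B = _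
        rw [Prod.snd_inv, Subgroup.coe_inv, map_inv (J j), inv_mul_eq_iff_eq_mul, ← mul_assoc, zc,
          mul_assoc (𝕫 u⁻¹), ← mul_assoc (a.1 : GLn), hu, mul_assoc (𝕫 u), mul_inv_cancel_right,
          ← mul_assoc, ← map_mul, inv_mul_cancel, map_one, one_mul] }
  let φ : T →* MulAut (Cfsg.PSU n F q) :=
    (AutPSU.conjPSU n F q).comp ((MonoidHom.fst _ _).comp T.subtype)
  let ψ : T →* Cfsg.projQuot (simB (d.K : M₀)) :=
    (QuotientGroup.mk' _).comp ((MonoidHom.snd _ _).comp T.subtype)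
  have hr : φ.range = Cfsg.inndiagPSU n F q ⊓ Subgroup.centralizer {gU σ g} := by
    rw [AutPSU.inndiag_inf_centralizer]
    ext β
    constructor
    · rintro ⟨⟨⟨x, P⟩, w, hw⟩, rfl⟩
      exact ⟨x, (mem_cent_gU h hn d x).2 ⟨w, P, hw⟩, rfl⟩
    · rintro ⟨x, hx, rfl⟩
      obtain ⟨w, P, hw⟩ := (mem_cent_gU h hn d x).1 hx
      exact ⟨⟨(x, ⟨P, (d.mult_self h hn0 x.2 hw).1⟩), w, hw⟩, rfl⟩
  have hψ : Function.Surjective ψ := by
    intro y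
    obtain ⟨⟨P, hP⟩, rfl⟩ := QuotientGroup.mk_surjective y
    obtain ⟨c, hc⟩ := mem_simB.1 hP
    obtain ⟨x, w, hx⟩ := d.exists_x h hn0 d hc
    exact ⟨⟨(x, ⟨P, hP⟩), w, hx⟩, rfl⟩
  have hk : φ.ker = ψ.ker := by
    ext ⟨⟨x, P⟩, w, hw⟩
    rw [MonoidHom.mem_ker, MonoidHom.mem_ker]
    show AutPSU.conjPSU n F q x = 1 ↔ QuotientGroup.mk' _ P = 1
    rw [QuotientGroup.mk'_apply, QuotientGroup.eq_one_iff, Subgroup.mem_subgroupOf, mem_scalars,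
      ← map_one (AutPSU.conjPSU n F q), eq_comm, conjPSU_eq_iff' h hn, Subgroup.coe_one]
    constructor
    · rintro ⟨z, hz⟩
      rw [mul_one] at hz
      have e : J j (P : GL₀) = 𝕫 (w⁻¹ * z) * J j (1 : GL₀) := by
        rw [map_one, mul_one, map_mul, map_inv, eq_inv_mul_iff_mul_eq]
        refine mul_left_cancel (a := d.B) ?_
        rw [← mul_assoc, zc, mul_assoc]
        exact hw.symm.trans (by rw [hz, zc])
      obtain ⟨a, -, ha⟩ := h.exists_scalar_base hn0 e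
      exact ⟨a, by rw [ha, mul_one]⟩
    · rintro ⟨a, ha⟩
      refine ⟨w * jU j a, ?_⟩
      rw [mul_one, ← mul_left_inj d.B]
      exact hw.trans (by
        show 𝕫 w * (d.B * J j (P : GL₀)) = _
        rw [← ha, J_scalar, zc, ← mul_assoc, ← map_mul])
  exact ⟨(((MulEquiv.subgroupCongr hr).symm.trans (QuotientGroup.quotientKerEquivRange φ).symm).trans
    (QuotientGroup.quotientMulEquivOfEq hk)).trans (QuotientGroup.quotientKerEquivOfSurjective ψ hψ)⟩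

/-- The centraliser is that of the form in `PSL_n` of the fixed field. -/
theorem nonempty_centU_cent (h : Field2 σ j q) (hn : 3 ≤ n) {g : GUn} (d : Datum σ j (g : GLn)) :
    Nonempty (↥(Cfsg.inndiagPSU n F q ⊓ Subgroup.centralizer {gU σ g}) ≃* Cent (gphH d.K)) := by
  obtain ⟨φ⟩ := nonempty_centU h hn d
  obtain ⟨ψ⟩ := nonempty_cent (by omega) d.K
  exact ⟨φ.trans ψ.symm⟩

theorem Datum.symm_or (h : Field2 σ j q) (hn : 0 < n) {G : GLn} (d : Datum σ j G) :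
    (d.K : M₀)ᵀ = (d.K : M₀) ∨ (d.K : M₀)ᵀ = -(d.K : M₀) := by
  obtain ⟨a, -, ha⟩ := d.sign h hn
  refine transpose_eq hn (c := a) ?_
  have := congrArg Units.val ha
  rwa [coe_scalar_mul] at this

theorem exists_gU_of (h : Field2 σ j q) (hn : 3 ≤ n) (K : GL₀)
    (hK : (K : M₀)ᵀ = (K : M₀) ∨ (K : M₀)ᵀ = -(K : M₀)) :
    ∃ (g : GUn) (d : Datum σ j (g : GLn)), d.K = K ∧ Cfsg.IsGraphAutClassPSU (gU σ g) ∧
      orderOf (gU σ g) = 2 := by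
  obtain ⟨ε, hε, hK'⟩ : ∃ ε : F₀ˣ, ε * ε = 1 ∧ (invTGL K)⁻¹ = GeneralLinearGroup.scalar (Fin n) ε * K := by
    rcases hK with e | e
    · exact ⟨1, one_mul _, Units.ext (by rw [coe_scalar_mul, Units.val_one, one_smul]; exact e)⟩
    · exact ⟨-1, by simp, Units.ext (by
        rw [coe_scalar_mul, Units.val_neg, Units.val_one, neg_smul, one_smul]; exact e)⟩
  obtain ⟨G, d, hG, hd, z, hz⟩ := exists_datum_of h (by omega) K ε hε hK'
  exact ⟨⟨G, hG⟩, d, hd, isGraphAutClassPSU_gU h hn _, orderOf_gU h hn hz⟩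

theorem exists_gU_datum (h : Field2 σ j q) {γ : MulAut (Cfsg.PSU n F q)}
    (hγ : Cfsg.IsGraphAutClassPSU γ) (hγ2 : orderOf γ = 2) :
    ∃ (g : GUn) (d : Datum σ j (g : GLn)), γ = gU σ g ∧
      ((d.K : M₀)ᵀ = (d.K : M₀) ∨ (d.K : M₀)ᵀ = -(d.K : M₀)) := by
  have hn : 3 ≤ n := hγ.1
  obtain ⟨g, z, rfl, hz⟩ := exists_gU h hγ hγ2
  obtain ⟨d⟩ := exists_datum h (by omega) g.2 hz
  exact ⟨g, d, rfl, d.symm_or h (by omega)⟩

end Cfsg.Agent.Lib.GraphClasses
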