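import Cfsg.Agent.Lib.GraphClasses.Graph
import Cfsg.Agent.Lib.AutPSL.Out
import Cfsg.Agent.Lib.AutPSU.FieldCentralizer
import Cfsg.Agent.Lib.RootModels.SUPairs

/-!
Descent data: an involution `G σ` of `PSU_n(q)` corresponds to a matrix over the fixed field through
`G = λ B σ(B)⁻¹`, `Bᵀ σ(B) = κ K₀`.
-/

set_option autoImplicit false
set_option linter.unusedSectionVars false
set_option linter.style.haveILetI false

namespace Cfsg.Agent.Lib.GraphClasses

open Matrix AutPSL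

variable {n : ℕ} {F : Type*} [Field F] [Fintype F] {F₀ : Type*} [Field F₀]

local notation "GLn" => GL (Fin n) F
local notation "GL₀" => GL (Fin n) F₀
local notation "𝕫" c:max => GeneralLinearGroup.scalar (Fin n) c

theorem invTGL_apply (g : GLn) : invTGL g = glInvT g := rfl

theorem coe_invTGL_inv (g : GLn) :
    (((invTGL g)⁻¹ : GLn) : Matrix (Fin n) (Fin n) F) = (g : Matrix (Fin n) (Fin n) F)ᵀ := rfl

theorem mapGL_invTGL (σ : F ≃+* F) (g : GLn) : mapGL σ (invTGL g) = invTGL (mapGL σ g) := by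
  refine Units.ext ?_
  rw [invTGL_apply, invTGL_apply]
  exact Matrix.ext fun _ _ => rfl

theorem invTGL_invTGL (g : GLn) : invTGL (invTGL g) = g :=
  Units.ext (Matrix.transpose_transpose _)

theorem invTGL_scalar (c : Fˣ) : invTGL (𝕫 c) = 𝕫 c⁻¹ := by
  refine Units.ext ?_
  show ((((𝕫 c)⁻¹ : GLn) : Matrix (Fin n) (Fin n) F))ᵀ = _
  rw [← map_inv, GeneralLinearGroup.coe_scalar, scalar_apply, diagonal_transpose]

/-- The Hermitian Gram matrix `Bᵀ σ(B)` as a group element. -/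
def Kg (σ : F ≃+* F) (B : GLn) : GLn := (invTGL B)⁻¹ * mapGL σ B

theorem Kg_mul (σ : F ≃+* F) (B C : GLn) : Kg σ (B * C) = (invTGL C)⁻¹ * Kg σ B * mapGL σ C := by
  rw [Kg, Kg, map_mul, map_mul, _root_.mul_inv_rev]; group

theorem Kg_scalar_mul (σ : F ≃+* F) (c : Fˣ) (B : GLn) :
    Kg σ (𝕫 c * B) = 𝕫 (c * mapUnits σ c) * Kg σ B := by
  rw [Kg, Kg, map_mul, map_mul, _root_.mul_inv_rev, invTGL_scalar, mapGL_scalar, map_inv, inv_inv,
    map_mul]
  rw [show (invTGL B)⁻¹ * 𝕫 c = 𝕫 c * (invTGL B)⁻¹ from (GeneralLinearGroup.scalar_commute c _).symm]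
  rw [mul_assoc, ← mul_assoc (invTGL B)⁻¹ (𝕫 (mapUnits σ c)),
    show (invTGL B)⁻¹ * 𝕫 (mapUnits σ c) = 𝕫 (mapUnits σ c) * (invTGL B)⁻¹ from
      (GeneralLinearGroup.scalar_commute _ _).symm]
  group

/-- The quadratic field data. -/
structure Field2 (σ : F ≃+* F) (j : F₀ →+* F) (q : ℕ) : Prop where
  card : Fintype.card F = q ^ 2
  pow : ∀ x, σ x = x ^ q
  fix : ∀ x, σ x = x ↔ ∃ c, j c = x

namespace Field2

variable {σ : F ≃+* F} {j : F₀ →+* F} {q : ℕ}

theorem sigma_sigma (h : Field2 σ j q) (x : F) : σ (σ x) = x := by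
  rw [h.pow, h.pow, Unitary.pow_q_q h.card]

theorem mapGL_mapGL (h : Field2 σ j q) (g : GLn) : mapGL σ (mapGL σ g) = g :=
  Units.ext (Matrix.ext fun _ _ => h.sigma_sigma _)

theorem mapUnits_mapUnits (h : Field2 σ j q) (c : Fˣ) : mapUnits σ (mapUnits σ c) = c :=
  Units.ext (h.sigma_sigma _)

theorem ne_one (h : Field2 σ j q) : σ ≠ 1 := by
  intro h1
  have hfix : ∀ x : F, x ^ q = x := fun x => by rw [← h.pow, h1]; rfl
  have hc := Unitary.card_fixed h.card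
  rw [Nat.card_congr (Equiv.subtypeUnivEquiv hfix), Nat.card_eq_fintype_card, h.card] at hc
  have := Unitary.one_lt_q h.card
  nlinarith

theorem orderOf_eq (h : Field2 σ j q) : orderOf σ = 2 :=
  orderOf_eq_prime_iff.2 ⟨by rw [sq]; exact RingEquiv.ext h.sigma_sigma, h.ne_one⟩

theorem tnorm_two {G : Type*} [Group G] (e : MulAut G) (g : G) : tnorm e g 2 = g * e g := by
  simp [tnorm_succ]

theorem exists_norm (h : Field2 σ j q) (c : Fˣ) (hc : mapUnits σ c = c) : ∃ z : Fˣ, z * mapUnits σ z = c := by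
  obtain ⟨z, hz⟩ := exists_tnorm_eq h.orderOf_eq (by norm_num) hc
  exact ⟨z, by rw [← hz, tnorm_two]⟩

theorem exists_div (h : Field2 σ j q) (c : Fˣ) (hc : c * mapUnits σ c = 1) :
    ∃ w : Fˣ, c = w * (mapUnits σ w)⁻¹ :=
  exists_div_of_tnorm_eq_one h.orderOf_eq (by norm_num) (by rw [tnorm_two, hc])

/-- The units of the fixed field. -/
def jU (j : F₀ →+* F) : F₀ˣ →* Fˣ := Units.map j.toMonoidHom

/-- The matrices over the fixed field. -/
def J (j : F₀ →+* F) : GL₀ →* GLn := GeneralLinearGroup.map j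

theorem coe_J (X : GL₀) : ((J j X : GLn) : Matrix (Fin n) (Fin n) F) = (X : Matrix (Fin n) (Fin n) F₀).map j := rfl

theorem mapUnits_jU (h : Field2 σ j q) (a : F₀ˣ) : mapUnits σ (jU j a) = jU j a :=
  Units.ext ((h.fix _).2 ⟨a, rfl⟩)

theorem mapGL_J (h : Field2 σ j q) (X : GL₀) : mapGL σ (J j X) = J j X :=
  Units.ext (Matrix.ext fun _ _ => (h.fix _).2 ⟨_, rfl⟩)

theorem invTGL_J (X : GL₀) : invTGL (J j X : GLn) = J j (invTGL X) := by
  refine Units.ext ?_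
  show ((((J j X : GLn)⁻¹ : GLn) : Matrix (Fin n) (Fin n) F))ᵀ = _
  rw [← map_inv, coe_J, coe_J, ← Matrix.transpose_map]
  rfl

theorem J_injective : Function.Injective (J j : GL₀ → GLn) := fun a b h => by
  exact Units.ext (Matrix.map_injective j.injective
    ((coe_J a).symm.trans ((congrArg Units.val h).trans (coe_J b))))

theorem J_scalar (a : F₀ˣ) : J j (GeneralLinearGroup.scalar (Fin n) a) = 𝕫 (jU j a) :=
  GeneralLinearGroup.map_scalar j a

theorem exists_of_fixed_units (h : Field2 σ j q) (c : Fˣ) (hc : mapUnits σ c = c) :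
    ∃ a : F₀ˣ, jU j a = c := by
  obtain ⟨a, ha⟩ := (h.fix _).1 (congrArg Units.val hc)
  have ha0 : a ≠ 0 := fun h0 => c.ne_zero (by rw [← ha, h0, map_zero])
  exact ⟨Units.mk0 a ha0, Units.ext ha⟩

theorem exists_of_fixed (h : Field2 σ j q) (g : GLn) (hg : mapGL σ g = g) : ∃ X : GL₀, J j X = g := by
  have e : (g : Matrix (Fin n) (Fin n) F).map σ = g := congrArg Units.val hg
  have hf : ∀ i k, ∃ c, j c = (g : Matrix (Fin n) (Fin n) F) i k := fun i k =>
    (h.fix _).1 (congrFun (congrFun e i) k)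
  choose X hX using hf
  let M : Matrix (Fin n) (Fin n) F₀ := Matrix.of fun i k => X i k
  have hdet : M.det ≠ 0 := by
    intro h0
    have h1 := RingHom.map_det j M
    rw [h0, map_zero, RingHom.mapMatrix_apply,
      show M.map j = (g : Matrix (Fin n) (Fin n) F) from Matrix.ext hX] at h1
    exact ((Matrix.isUnit_iff_isUnit_det _).1 g.isUnit).ne_zero h1.symm
  exact ⟨((Matrix.isUnit_iff_isUnit_det _).2 (isUnit_iff_ne_zero.2 hdet)).unit, Units.ext (Matrix.ext hX)⟩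

theorem exists_scalar_base (h : Field2 σ j q) (hn : 0 < n) {r : Fˣ} {X Y : GL₀}
    (e : J j X = 𝕫 r * J j Y) : ∃ a : F₀ˣ, jU j a = r ∧ X = GeneralLinearGroup.scalar (Fin n) a * Y := by
  have e1 := congrArg (mapGL σ) e
  rw [map_mul, h.mapGL_J, h.mapGL_J, mapGL_scalar, e, mul_left_inj] at e1
  obtain ⟨a, ha⟩ := h.exists_of_fixed_units r (scalar_injective hn e1.symm)
  refine ⟨a, ha, J_injective (j := j) ?_⟩
  rw [map_mul, J_scalar, ha, e]

theorem mem_GU (h : Field2 σ j q) (g : GLn) : g ∈ Cfsg.GU n F q ↔ mapGL σ g = invTGL g := by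
  have hct : AutPSU.ct h.card (g : Matrix (Fin n) (Fin n) F) = ((g : Matrix (Fin n) (Fin n) F).map σ)ᵀ := by
    ext i k
    exact (h.pow _).symm
  refine (Unitary.mem_GU_iff).trans ((AutPSU.preserving_iff_ct h.card _).trans ?_)
  rw [hct]
  constructor
  · intro e
    refine Units.ext ?_
    show (g : Matrix (Fin n) (Fin n) F).map σ = (((g⁻¹ : GLn) : Matrix (Fin n) (Fin n) F))ᵀ
    have : ((g : Matrix (Fin n) (Fin n) F).map σ)ᵀ = ((g⁻¹ : GLn) : Matrix (Fin n) (Fin n) F) := by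
      rw [← Matrix.mul_one ((g : Matrix (Fin n) (Fin n) F).map σ)ᵀ, ← g.mul_inv, ← Matrix.mul_assoc, e,
        Matrix.one_mul]
    rw [← this, transpose_transpose]
  · intro e
    have e1 : (g : Matrix (Fin n) (Fin n) F).map σ = (((g⁻¹ : GLn) : Matrix (Fin n) (Fin n) F))ᵀ :=
      congrArg Units.val e
    rw [e1, transpose_transpose, g.inv_mul]

theorem mem_U1 (h : Field2 σ j q) (z : Fˣ) : z ∈ AutPSU.U1 F q ↔ z * mapUnits σ z = 1 := by
  rw [AutPSU.mem_U1_iff, pow_succ', Units.ext_iff, Units.ext_iff, Units.val_mul, Units.val_mul,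
    coe_mapUnits, h.pow, Units.val_pow_eq_pow_val]

theorem scalar_mem_GU_iff (h : Field2 σ j q) (hn : 0 < n) (z : Fˣ) :
    𝕫 z ∈ Cfsg.GU n F q ↔ z * mapUnits σ z = 1 := by
  rw [h.mem_GU, mapGL_scalar, invTGL_scalar, (scalar_injective hn).eq_iff, mul_comm]
  exact eq_inv_iff_mul_eq_one

theorem Kg_mul_J (h : Field2 σ j q) (B : GLn) (κ : Fˣ) (K P : GL₀) (hK : Kg σ B = 𝕫 κ * J j K) :
    Kg σ (B * J j P) = 𝕫 κ * J j ((invTGL P)⁻¹ * K * P) := by
  rw [Kg_mul, invTGL_J, h.mapGL_J, hK, map_mul, map_mul, map_inv, ← mul_assoc,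
    show (J j (invTGL P))⁻¹ * 𝕫 κ = 𝕫 κ * (J j (invTGL P) : GLn)⁻¹ from
      (GeneralLinearGroup.scalar_commute κ _).symm]
  group

end Field2

open Field2 in
/-- A descent datum of the unitary element `G`. -/
structure Datum (σ : F ≃+* F) (j : F₀ →+* F) (G : GLn) where
  B : GLn
  lam : Fˣ
  kap : Fˣ
  K : GL₀
  hG : G = 𝕫 lam * (B * (mapGL σ B)⁻¹)
  hK : Kg σ B = 𝕫 kap * J j K

variable {σ : F ≃+* F} {j : F₀ →+* F} {q : ℕ}

open Field2

/-- `Gᵀ = ± G` over the fixed field. -/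
theorem Datum.sign (h : Field2 σ j q) (hn : 0 < n) {G : GLn} (d : Datum σ j G) :
    ∃ a : F₀ˣ, jU j a = mapUnits σ d.kap * d.kap⁻¹ ∧
      (invTGL d.K)⁻¹ = GeneralLinearGroup.scalar (Fin n) a * d.K := by
  have e1 : (invTGL (Kg σ d.B))⁻¹ = mapGL σ (Kg σ d.B) := by
    rw [Kg, map_mul, map_mul, map_inv, map_inv, invTGL_invTGL, _root_.mul_inv_rev, inv_inv,
      h.mapGL_mapGL, mapGL_invTGL]
  rw [d.hK, map_mul, map_mul, invTGL_scalar, invTGL_J, mapGL_scalar, h.mapGL_J, _root_.mul_inv_rev,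
    ← map_inv (GeneralLinearGroup.scalar (Fin n)), inv_inv, ← map_inv (J j),
    show J j (invTGL d.K)⁻¹ * 𝕫 d.kap = 𝕫 d.kap * (J j (invTGL d.K)⁻¹ : GLn) from
      (GeneralLinearGroup.scalar_commute _ _).symm, ← eq_inv_mul_iff_mul_eq, ← mul_assoc,
    ← map_inv (GeneralLinearGroup.scalar (Fin n)), ← map_mul, mul_comm d.kap⁻¹] at e1
  exact h.exists_scalar_base hn e1

/-- Descent of a unitary `G` with `G σ(G)` scalar. -/
theorem exists_datum (h : Field2 σ j q) (hn : 0 < n) {G : GLn} (hG : G ∈ Cfsg.GU n F q)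
    {z : Fˣ} (hz : G * mapGL σ G = 𝕫 z) : Nonempty (Datum σ j G) := by
  classical
  have hsG := (h.mem_GU G).1 hG
  have hz2 : mapUnits σ z = z := by
    have e := congrArg (mapGL σ) hz
    rw [map_mul, h.mapGL_mapGL, mapGL_scalar] at e
    refine (scalar_injective hn ?_).symm
    rw [← e, ← hz, show mapGL σ G * G = G⁻¹ * (G * mapGL σ G) * G by group, hz,
      show G⁻¹ * 𝕫 z = 𝕫 z * G⁻¹ from (GeneralLinearGroup.scalar_commute z _).symm, inv_mul_cancel_right]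
  obtain ⟨l, hl⟩ := h.exists_norm z hz2
  have hN : tnorm (mapGL σ) (𝕫 l⁻¹ * G) 2 = 1 := by
    rw [tnorm_two, map_mul, mapGL_scalar, mul_assoc, ← mul_assoc G,
      show G * 𝕫 (mapUnits σ l⁻¹) = 𝕫 (mapUnits σ l⁻¹) * G from (GeneralLinearGroup.scalar_commute _ _).symm,
      mul_assoc, hz, ← map_mul, ← map_mul, ← hl, map_inv]
    rw [show l⁻¹ * ((mapUnits σ l)⁻¹ * (l * mapUnits σ l)) = 1 by
      rw [mul_comm l (mapUnits σ l), inv_mul_cancel_left, inv_mul_cancel], map_one]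
  obtain ⟨B, hB⟩ := exists_descent h.orderOf_eq (by norm_num) hN
  have hGB : G = 𝕫 l * (B * (mapGL σ B)⁻¹) := by
    rw [← hB, ← mul_assoc, ← map_mul, mul_inv_cancel, map_one, one_mul]
  have hKs : mapGL σ (Kg σ B) = 𝕫 z * Kg σ B := by
    have e : mapGL σ G = invTGL G := hsG
    rw [hGB, map_mul, map_mul, map_inv, h.mapGL_mapGL, mapGL_scalar, map_mul, map_mul, map_inv,
      invTGL_scalar] at e
    rw [Kg, map_mul, map_inv, h.mapGL_mapGL, mapGL_invTGL]
    have e2 : (invTGL (mapGL σ B))⁻¹ =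
        (invTGL B)⁻¹ * 𝕫 l * 𝕫 (mapUnits σ l) * (mapGL σ B * B⁻¹) := by
      rw [mul_assoc ((invTGL B)⁻¹ * 𝕫 l), e, show (invTGL B)⁻¹ * 𝕫 l * (𝕫 l⁻¹ * (invTGL B * (invTGL (mapGL σ B))⁻¹)) =
        (invTGL B)⁻¹ * (𝕫 l * 𝕫 l⁻¹) * invTGL B * (invTGL (mapGL σ B))⁻¹ by group,
        ← map_mul, mul_inv_cancel, map_one, mul_one, inv_mul_cancel, one_mul]
    rw [e2, mul_assoc (invTGL B)⁻¹, ← map_mul, hl,
      show (invTGL B)⁻¹ * 𝕫 z = 𝕫 z * (invTGL B)⁻¹ from (GeneralLinearGroup.scalar_commute _ _).symm]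
    group
  have hz1 : z = 1 ∨ z = -1 := by
    have e := congrArg (mapGL σ) hKs
    rw [map_mul, h.mapGL_mapGL, mapGL_scalar, hKs, hz2, ← mul_assoc, ← map_mul] at e
    have h1 : 𝕫 (z * z) = 1 := mul_right_cancel (e.symm.trans (one_mul _).symm)
    have h2 : z * z = 1 := scalar_injective hn (h1.trans (map_one _).symm)
    have h3 : (z : F) * z = 1 := congrArg Units.val h2
    exact (mul_self_eq_one_iff.1 h3).imp (fun e => Units.ext e) (fun e => Units.ext (by rw [e]; rfl))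
  obtain ⟨κ, hκ⟩ : ∃ κ : Fˣ, mapUnits σ κ = z * κ := by
    rcases hz1 with rfl | rfl
    · exact ⟨1, by rw [map_one, one_mul]⟩
    · obtain ⟨a, ha⟩ : ∃ a, σ a ≠ a := by
        by_contra hc
        push Not at hc
        exact h.ne_one (RingEquiv.ext hc)
      refine ⟨Units.mk0 (a - σ a) (sub_ne_zero.2 (Ne.symm ha)), Units.ext ?_⟩
      show σ (a - σ a) = ((-1 : Fˣ) : F) * (a - σ a)
      rw [map_sub, h.sigma_sigma, Units.val_neg, Units.val_one]
      ring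
  obtain ⟨K, hK⟩ := h.exists_of_fixed (𝕫 κ⁻¹ * Kg σ B) (by
    rw [map_mul, mapGL_scalar, hKs, map_inv, hκ, ← mul_assoc, ← map_mul, mul_inv, mul_comm z⁻¹,
      mul_assoc κ⁻¹, inv_mul_cancel, mul_one])
  exact ⟨⟨B, l, κ, K, hGB, by rw [hK, ← mul_assoc, ← map_mul, mul_inv_cancel, map_one, one_mul]⟩⟩

/-- Every symmetric or alternating matrix over the fixed field occurs. -/
theorem exists_datum_of (h : Field2 σ j q) (hn : 0 < n) (K : GL₀) (ε : F₀ˣ) (hε : ε * ε = 1)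
    (hK : (invTGL K)⁻¹ = GeneralLinearGroup.scalar (Fin n) ε * K) :
    ∃ (G : GLn) (d : Datum σ j G), G ∈ Cfsg.GU n F q ∧ d.K = K ∧
      ∃ z : Fˣ, G * mapGL σ G = 𝕫 z := by
  classical
  obtain ⟨κ, hκ⟩ : ∃ κ : Fˣ, mapUnits σ κ = jU j ε * κ := by
    have hε' : (ε : F₀) * ε = 1 := congrArg Units.val hε
    rcases mul_self_eq_one_iff.1 hε' with e | e
    · exact ⟨1, Units.ext (by simp [jU, e])⟩
    · obtain ⟨a, ha⟩ : ∃ a, σ a ≠ a := by
        by_contra hc
        push Not at hc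
        exact h.ne_one (RingEquiv.ext hc)
      refine ⟨Units.mk0 (a - σ a) (sub_ne_zero.2 (Ne.symm ha)), Units.ext ?_⟩
      show σ (a - σ a) = j (ε : F₀) * (a - σ a)
      rw [map_sub, h.sigma_sigma, e, map_neg, map_one]
      ring
  set H : GLn := 𝕫 κ * J j K with hH
  have hjε : jU j ε * jU j ε = 1 := by rw [← map_mul, hε, map_one]
  have hHh : H * graphGL σ H = 1 := by
    have : graphGL σ H = 𝕫 (mapUnits σ κ)⁻¹ * J j (invTGL K) := by
      show mapGL σ (invTGL H) = _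
      rw [hH, map_mul, invTGL_scalar, invTGL_J, map_mul, mapGL_scalar, h.mapGL_J, map_inv]
    rw [this, hH, hκ, show invTGL K = (GeneralLinearGroup.scalar (Fin n) ε * K)⁻¹ by rw [← hK, inv_inv],
      map_inv (J j), map_mul, J_scalar, _root_.mul_inv_rev]
    rw [← mul_assoc, mul_assoc (𝕫 κ) (J j K : GLn),
      show (J j K : GLn) * 𝕫 (κ⁻¹ * (jU j ε)⁻¹) = 𝕫 (κ⁻¹ * (jU j ε)⁻¹) * J j K from
        (GeneralLinearGroup.scalar_commute _ _).symm,
      ← mul_assoc (𝕫 κ), _root_.mul_inv_rev (𝕫 (jU j ε)) (J j K : GLn),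
      mul_assoc _ (J j K : GLn), mul_inv_cancel_left, ← map_mul, mul_inv_cancel_left,
      ← map_inv (GeneralLinearGroup.scalar (Fin n)), ← map_mul, ← mul_inv, hjε, inv_one, map_one]
  obtain ⟨g, hg⟩ := exists_congr_one h.orderOf_eq hHh
  set B : GLn := (invTGL g)⁻¹ with hB
  have hKB : Kg σ B = H := by
    rw [hg, Kg, hB, map_inv, invTGL_invTGL, inv_inv, map_inv]
    rfl
  clear_value B
  obtain ⟨l, hl⟩ := h.exists_norm (jU j ε) (h.mapUnits_jU ε)
  refine ⟨𝕫 l * (B * (mapGL σ B)⁻¹), ⟨B, l, κ, K, rfl, hKB⟩, ?_, rfl, jU j ε, ?_⟩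
  · rw [h.mem_GU, map_mul, map_mul, map_inv, h.mapGL_mapGL, mapGL_scalar, map_mul, map_mul, map_inv,
      invTGL_scalar]
    have e1 : mapGL σ B = invTGL B * H := by rw [← hKB, Kg, mul_inv_cancel_left]
    have e2 : B = invTGL (mapGL σ B) * (𝕫 (jU j ε) * H) := by
      have := congrArg (mapGL σ) e1
      rw [h.mapGL_mapGL, map_mul, mapGL_invTGL, hH, map_mul, mapGL_scalar, h.mapGL_J, hκ, map_mul,
        mul_assoc] at this
      rw [hH]; exact this
    calc 𝕫 (mapUnits σ l) * (mapGL σ B * B⁻¹)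
        = 𝕫 (mapUnits σ l) * (invTGL B * H * (H⁻¹ * ((𝕫 (jU j ε))⁻¹ * (invTGL (mapGL σ B))⁻¹))) := by
          rw [← e1]
          congr 2
          conv_lhs => rw [e2]
          group
      _ = 𝕫 (mapUnits σ l) * (invTGL B * (𝕫 (jU j ε))⁻¹ * (invTGL (mapGL σ B))⁻¹) := by group
      _ = 𝕫 (mapUnits σ l) * (𝕫 (jU j ε))⁻¹ * (invTGL B * (invTGL (mapGL σ B))⁻¹) := by
          rw [show invTGL B * (𝕫 (jU j ε))⁻¹ = (𝕫 (jU j ε))⁻¹ * invTGL B by
            rw [← map_inv]; exact (GeneralLinearGroup.scalar_commute _ _).symm]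
          group
      _ = 𝕫 l⁻¹ * (invTGL B * (invTGL (mapGL σ B))⁻¹) := by
          rw [← map_inv, ← map_mul, show mapUnits σ l * (jU j ε)⁻¹ = l⁻¹ by
            rw [← hl, mul_comm l, mul_inv, mul_inv_cancel_left]]
  · rw [map_mul, map_mul, map_inv, h.mapGL_mapGL, mapGL_scalar, mul_assoc, ← mul_assoc (B * _),
      show B * (mapGL σ B)⁻¹ * 𝕫 (mapUnits σ l) = 𝕫 (mapUnits σ l) * (B * (mapGL σ B)⁻¹) from
        (GeneralLinearGroup.scalar_commute _ _).symm, mul_assoc, ← mul_assoc (𝕫 l), ← map_mul, hl]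
    group

end Cfsg.Agent.Lib.GraphClasses
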