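import Cfsg.Agent.Lib.GraphClasses.PSU

/-!
Splitting of the classes of graph involutions of `PSU_n(q)`.
-/

set_option autoImplicit false
set_option linter.unusedSectionVars false
set_option linter.style.haveILetI false

namespace Cfsg.Agent.Lib.GraphClasses

open Matrix AutPSL Field2

section Forms

variable {F : Type*} [Field F] {ι κ : Type} [Fintype ι] [DecidableEq ι] [Fintype κ] [DecidableEq κ]

theorem gram_coordChange (e : ι ≃ κ) (P : GL κ F) {M : Matrix ι ι F} {M' : Matrix κ κ F}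
    (h : (P : Matrix κ κ F)ᵀ * M' * (P : Matrix κ κ F) = Matrix.reindex e e M) {g : GL ι F} {c : F}
    (hg : (g : Matrix ι ι F)ᵀ * M * (g : Matrix ι ι F) = c • M) :
    (coordChange e P g : Matrix κ κ F)ᵀ * M' * (coordChange e P g : Matrix κ κ F) = c • M' := by
  set R := Matrix.reindexAlgEquiv F F e
  have hT : ∀ A : Matrix ι ι F, R Aᵀ = (R A)ᵀ := fun A => rfl
  set p : Matrix κ κ F := (P : Matrix κ κ F)
  set p' : Matrix κ κ F := ((P⁻¹ : GL κ F) : Matrix κ κ F)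
  have hp : p * p' = 1 := P.mul_inv
  rw [coe_coordChange]
  show (p * R (g : Matrix ι ι F) * p')ᵀ * M' * (p * R (g : Matrix ι ι F) * p') = _
  calc (p * R (g : Matrix ι ι F) * p')ᵀ * M' * (p * R (g : Matrix ι ι F) * p')
      = p'ᵀ * ((R (g : Matrix ι ι F))ᵀ * (pᵀ * M' * p) * R (g : Matrix ι ι F)) * p' := by
        simp only [transpose_mul, Matrix.mul_assoc]
    _ = p'ᵀ * R ((g : Matrix ι ι F)ᵀ * M * (g : Matrix ι ι F)) * p' := by
        rw [h, map_mul, map_mul, hT]; rfl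
    _ = c • (p'ᵀ * (pᵀ * M' * p) * p') := by
        rw [hg, map_smul, Matrix.mul_smul, Matrix.smul_mul, h]; rfl
    _ = c • ((p * p')ᵀ * M' * (p * p')) := by simp only [transpose_mul, Matrix.mul_assoc]
    _ = c • M' := by rw [hp, transpose_one, Matrix.one_mul, Matrix.mul_one]

variable {n : ℕ}

local notation "GLn" => GL (Fin n) F
local notation "Mn" => Matrix (Fin n) (Fin n) F

theorem det_sim_alt [Finite F] {H : GLn} (ha : ∀ x : Fin n → F, x ⬝ᵥ (H : Mn) *ᵥ x = 0)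
    {m : ℕ} (hnm : n = 2 * m) {g : GLn} {c : Fˣ}
    (hg : (g : Mn)ᵀ * (H : Mn) * (g : Mn) = (c : F) • (H : Mn)) : (g : Mn).det = (c : F) ^ m := by
  obtain ⟨m', e, P, hP⟩ := exists_alt_congr ha (det_ne H)
  obtain rfl : m' = m := by
    have := Fintype.card_congr e
    simp at this
    omega
  rw [← det_coordChange e P]
  exact det_simB_J (gram_coordChange e P hP hg)

theorem exists_sim_alt [Finite F] {H : GLn} (ha : ∀ x : Fin n → F, x ⬝ᵥ (H : Mn) *ᵥ x = 0)
    (c : Fˣ) : ∃ g : GLn, (g : Mn)ᵀ * (H : Mn) * (g : Mn) = (c : F) • (H : Mn) := by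
  obtain ⟨P, hP⟩ := exists_alt_congr_alt (M := (c : F) • (H : Mn)) (M' := (H : Mn))
    (fun x => by rw [Matrix.smul_mulVec, dotProduct_smul, ha, smul_zero])
    (by rw [det_smul]; exact mul_ne_zero (pow_ne_zero _ c.ne_zero) (det_ne H)) ha (det_ne H)
  exact ⟨P, hP⟩

theorem exists_reflection [Finite F] (h2 : (2 : F) ≠ 0) (hn : 2 ≤ n) {H : GLn} (hs : (H : Mn)ᵀ = H) :
    ∃ g : GLn, (g : Mn)ᵀ * (H : Mn) * (g : Mn) = (H : Mn) ∧ (g : Mn).det = -1 := by
  obtain ⟨α, hα⟩ := FiniteField.exists_nonsquare (F := F) (fun h => h2 (by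
    have := ringChar.Nat.cast_ringChar (R := F)
    rw [h] at this; exact_mod_cast this))
  obtain ⟨k, rfl⟩ : ∃ k, n = k + 1 := ⟨n - 1, by omega⟩
  obtain ⟨P, c, -, hP⟩ := exists_diag h2 hα (H : Matrix (Fin (k + 1)) (Fin (k + 1)) F) hs (det_ne H)
  set r : Matrix (Fin (k + 1)) (Fin (k + 1)) F := Matrix.diagonal (fun i => if i = 0 then -1 else 1)
  have hrr : r * r = 1 := by
    rw [diagonal_mul_diagonal, ← diagonal_one]; congr 1; funext i; split <;> simp
  set D : Matrix (Fin (k + 1)) (Fin (k + 1)) F := Matrix.diagonal fun i => if i = Fin.last k then c else 1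
  have hR : rᵀ * D * r = D := by
    rw [diagonal_transpose, diagonal_mul_diagonal, diagonal_mul_diagonal]
    congr 1; funext i
    have hk0 : k ≠ 0 := by omega
    by_cases hi : i = 0 <;> simp [hi, hk0, eq_comm]
  set p : Matrix (Fin (k + 1)) (Fin (k + 1)) F := (P : Matrix (Fin (k + 1)) (Fin (k + 1)) F)
  set p' : Matrix (Fin (k + 1)) (Fin (k + 1)) F := ((P⁻¹ : GL (Fin (k + 1)) F) : Matrix (Fin (k + 1)) (Fin (k + 1)) F)
  have hp : p * p' = 1 := P.mul_inv
  refine ⟨P * ⟨r, r, hrr, hrr⟩ * P⁻¹, ?_, ?_⟩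
  · show (p * r * p')ᵀ * (H : Matrix (Fin (k + 1)) (Fin (k + 1)) F) * (p * r * p') = _
    calc (p * r * p')ᵀ * (H : Matrix (Fin (k + 1)) (Fin (k + 1)) F) * (p * r * p')
        = p'ᵀ * (rᵀ * (pᵀ * (H : Matrix (Fin (k + 1)) (Fin (k + 1)) F) * p) * r) * p' := by
          simp only [transpose_mul, Matrix.mul_assoc]
      _ = p'ᵀ * (pᵀ * (H : Matrix (Fin (k + 1)) (Fin (k + 1)) F) * p) * p' := by rw [hP, hR]
      _ = (p * p')ᵀ * (H : Matrix (Fin (k + 1)) (Fin (k + 1)) F) * (p * p') := by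
          simp only [transpose_mul, Matrix.mul_assoc]
      _ = _ := by rw [hp, transpose_one, Matrix.one_mul, Matrix.mul_one]
  · show (p * r * p').det = -1
    rw [det_mul, det_mul, mul_comm p.det, mul_assoc, ← det_mul, hp, det_one, mul_one, det_diagonal,
      Finset.prod_ite_eq']
    simp

end Forms

variable {n : ℕ} {F : Type*} [Field F] [Fintype F] {F₀ : Type*} [Field F₀]
  {σ : F ≃+* F} {j : F₀ →+* F} {q : ℕ}

local notation "GLn" => GL (Fin n) F
local notation "GL₀" => GL (Fin n) F₀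
local notation "M₀" => Matrix (Fin n) (Fin n) F₀
local notation "𝕫" c:max => GeneralLinearGroup.scalar (Fin n) c
local notation "GUn" => Cfsg.GU n F q
local notation "U₁" => AutPSU.U1 F q

theorem det_of_conj {B : GLn} {x : GLn} {w : Fˣ} {P : GL₀} (e : x * B = 𝕫 w * (B * J j P)) :
    GeneralLinearGroup.det x = w ^ n * jU j (GeneralLinearGroup.det P) := by
  have h := congrArg GeneralLinearGroup.det e
  rw [map_mul, map_mul, map_mul, GeneralLinearGroup.det_scalar] at h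
  have hJ : GeneralLinearGroup.det (J j P : GLn) = jU j (GeneralLinearGroup.det P) :=
    Units.ext (RingHom.map_det j _).symm
  rw [hJ, Fintype.card_fin] at h
  exact mul_right_cancel (h.trans (by rw [mul_comm (GeneralLinearGroup.det B), ← mul_assoc]))

/-- The determinants of the centraliser. -/
theorem map_detU_cent (h : Field2 σ j q) (hn : 3 ≤ n) {g : GUn} (d : Datum σ j (g : GLn)) (U : Subgroup U₁)
    (h1 : ∀ (u : U₁) (w : Fˣ) (P : GL₀) (a : F₀ˣ), (P : M₀)ᵀ * (d.K : M₀) * (P : M₀) = (a : F₀) • (d.K : M₀) →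
      jU j a * (w * mapUnits σ w) = 1 → u.1 = w ^ n * jU j (GeneralLinearGroup.det P) → u ∈ U)
    (h2 : ∀ u ∈ U, ∃ (w : Fˣ) (P : GL₀) (a : F₀ˣ), (P : M₀)ᵀ * (d.K : M₀) * (P : M₀) = (a : F₀) • (d.K : M₀) ∧
      jU j a * (w * mapUnits σ w) = 1 ∧ u.1 = w ^ n * jU j (GeneralLinearGroup.det P)) :
    (AutPSU.cent (gU σ g)).map (AutPSU.detU h.card) = U := by
  refine le_antisymm ?_ fun u hu => ?_
  · rintro _ ⟨x, hx, rfl⟩
    obtain ⟨w, P, hw⟩ := (mem_cent_gU h hn d x).1 hx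
    obtain ⟨-, a, ha, hP⟩ := d.mult_self h (by omega) x.2 hw
    exact h1 _ w P a hP (by rw [ha, inv_mul_cancel]) (det_of_conj hw)
  · obtain ⟨w, P, a, hP, ha, he⟩ := h2 u hu
    have hm : 𝕫 w * (d.B * J j P) * d.B⁻¹ ∈ GUn := mem_GU_of_Kg h (by
      rw [Kg_scalar_mul, h.Kg_mul_J _ _ _ P d.hK, (gram_eq_iff d.K d.K P a).2 hP, map_mul (J j), J_scalar, d.hK,
        ← mul_assoc, ← map_mul, ← mul_assoc, ← map_mul, mul_right_comm, mul_comm _ (jU j a), ha, one_mul])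
    have hx : (𝕫 w * (d.B * J j P) * d.B⁻¹) * d.B = 𝕫 w * (d.B * J j P) := inv_mul_cancel_right _ _
    exact ⟨⟨_, hm⟩, (mem_cent_gU h hn d _).2 ⟨w, P, hx⟩, Subtype.ext ((det_of_conj hx).trans he.symm)⟩

theorem index_pow_U1 (h : Field2 σ j q) (m : ℕ) :
    (powMonoidHom m : U₁ →* U₁).range.index = Nat.gcd m (q + 1) := by
  have := AutPSL.index_range_pow_sup (G := U₁) m ⊥
  rwa [sup_bot_eq, Subgroup.index_bot, (Unitary.card_normHom h.card).1] at this

theorem splitU_bot [Finite F₀] (h : Field2 σ j q) (hn : 3 ≤ n) (hc : Odd n ∨ (2 : F₀) = 0) {g : GUn}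
    (d : Datum σ j (g : GLn)) :
    Cfsg.splitClassCount (Cfsg.inndiagPSU n F q) (Cfsg.Inn (Cfsg.PSU n F q)) (gU σ g) =
      Nat.gcd n (q + 1) := by
  rw [AutPSU.splitClassCount_eq_index h.card hn,
    map_detU_cent h hn d (powMonoidHom n : U₁ →* U₁).range ?_ ?_, index_pow_U1 h]
  · intro u w P a hP ha hu
    obtain ⟨e, he, hed⟩ : ∃ e : F₀ˣ, e * e = a ∧ GeneralLinearGroup.det P = e ^ n := by
      have hd := det_sq_simB (det_ne d.K) hP
      have hd' : GeneralLinearGroup.det P * GeneralLinearGroup.det P = a ^ n :=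
        Units.ext (by rw [Units.val_mul, Units.val_pow_eq_pow_val]; exact hd)
      rcases hc with ⟨k, hk⟩ | h2
      · subst hk
        have he : GeneralLinearGroup.det P / a ^ k * (GeneralLinearGroup.det P / a ^ k) = a := by
          rw [div_mul_div_comm, hd', ← pow_add, div_eq_iff_eq_mul, ← pow_succ']
          congr 1; omega
        exact ⟨_, he, by rw [pow_succ, pow_mul, sq, he, mul_div_cancel]⟩
      · haveI : CharP F₀ 2 := CharTwo.of_one_ne_zero_of_two_eq_zero one_ne_zero h2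
        obtain ⟨e, he⟩ := exists_sqrt_unit a
        refine ⟨e, he, Units.ext ?_⟩
        have h3 : ((GeneralLinearGroup.det P : F₀ˣ) : F₀) * GeneralLinearGroup.det P =
            ((e ^ n : F₀ˣ) : F₀) * ((e ^ n : F₀ˣ) : F₀) := by
          rw [← Units.val_mul, ← Units.val_mul, hd', ← mul_pow, he]
        rcases mul_self_eq_mul_self_iff.1 h3 with h4 | h4
        · exact h4
        · rwa [CharTwo.neg_eq] at h4
    have hm : w * jU j e ∈ U₁ := by
      rw [h.mem_U1, map_mul, h.mapUnits_jU, mul_mul_mul_comm, ← map_mul, he, mul_comm]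
      exact ha
    exact ⟨⟨_, hm⟩, Subtype.ext (by
      rw [hu, hed, map_pow, ← mul_pow]; rfl)⟩
  · rintro _ ⟨v, rfl⟩
    exact ⟨v.1, 1, 1, by simp, by rw [map_one, one_mul]; exact (h.mem_U1 _).1 v.2, by simp⟩

/-- For `a * N(w) = 1` one has `w² a = w / σ w`. -/
theorem sq_mul_eq (w a : Fˣ) (σ : F ≃+* F) (ha : a * (w * mapUnits σ w) = 1) :
    w * w * a = w * (mapUnits σ w)⁻¹ := by
  rw [eq_inv_of_mul_eq_one_left ha, mul_inv, mul_assoc, mul_inv_cancel_left]

theorem exists_w (h : Field2 σ j q) (v : U₁) :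
    ∃ (w : Fˣ) (a : F₀ˣ), jU j a * (w * mapUnits σ w) = 1 ∧ w * w * jU j a = v.1 := by
  obtain ⟨w, hw⟩ := h.exists_div v.1 ((h.mem_U1 _).1 v.2)
  obtain ⟨a, ha⟩ := h.exists_of_fixed_units (w * mapUnits σ w)⁻¹ (by
    rw [map_inv, map_mul, h.mapUnits_mapUnits, mul_comm])
  have : jU j a * (w * mapUnits σ w) = 1 := by rw [ha, inv_mul_cancel]
  exact ⟨w, a, this, by rw [sq_mul_eq w _ σ this, ← hw]⟩

theorem div_mem_U1 (h : Field2 σ j q) (w : Fˣ) : w * (mapUnits σ w)⁻¹ ∈ U₁ := by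
  rw [h.mem_U1, map_mul, map_inv, h.mapUnits_mapUnits, mul_assoc, inv_mul_cancel_left, mul_inv_cancel]

theorem splitU_alt [Finite F₀] (h : Field2 σ j q) (hn : 3 ≤ n) {g : GUn}
    (d : Datum σ j (g : GLn)) (ha : ∀ x : Fin n → F₀, x ⬝ᵥ (d.K : M₀) *ᵥ x = 0) {m : ℕ}
    (hnm : n = 2 * m) :
    Cfsg.splitClassCount (Cfsg.inndiagPSU n F q) (Cfsg.Inn (Cfsg.PSU n F q)) (gU σ g) =
      Nat.gcd m (q + 1) := by
  subst hnm
  have hdet : ∀ (P : GL (Fin (2 * m)) F₀) (a : F₀ˣ),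
      (P : Matrix (Fin (2 * m)) (Fin (2 * m)) F₀)ᵀ * (d.K : Matrix (Fin (2 * m)) (Fin (2 * m)) F₀) *
        (P : Matrix (Fin (2 * m)) (Fin (2 * m)) F₀) =
        (a : F₀) • (d.K : Matrix (Fin (2 * m)) (Fin (2 * m)) F₀) →
      GeneralLinearGroup.det P = a ^ m := fun P a hP =>
    Units.ext ((det_sim_alt ha rfl hP).trans (Units.val_pow_eq_pow_val a m).symm)
  have key : ∀ (w : Fˣ) (a : F₀ˣ), w ^ (2 * m) * jU j (a ^ m) = (w * w * jU j a) ^ m := fun w a => by
    rw [map_pow, mul_pow, pow_mul, sq]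
  rw [AutPSU.splitClassCount_eq_index h.card hn,
    map_detU_cent h hn d (powMonoidHom m : U₁ →* U₁).range ?_ ?_, index_pow_U1 h]
  · intro u w P a hP hN hu
    refine ⟨⟨_, div_mem_U1 h w⟩, Subtype.ext ?_⟩
    rw [hu, hdet P a hP, key, sq_mul_eq w _ σ hN]
    rfl
  · rintro _ ⟨v, rfl⟩
    obtain ⟨w, a, hN, hv⟩ := exists_w h v
    obtain ⟨P, hP⟩ := exists_sim_alt ha a
    refine ⟨w, P, a, hP, hN, ?_⟩
    rw [hdet P a hP, key, hv]
    rfl

theorem two_ne_zero_map (j : F₀ →+* F) (h2 : (2 : F₀) ≠ 0) : (2 : F) ≠ 0 := by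
  intro h
  exact h2 (j.injective (by rw [map_ofNat, map_zero, h]))

theorem splitU_symm [Finite F₀] (h : Field2 σ j q) (hn : 3 ≤ n) (h2 : (2 : F₀) ≠ 0) (hq : Odd q) {g : GUn}
    (d : Datum σ j (g : GLn)) (hs : (d.K : M₀)ᵀ = d.K) {m : ℕ} (hnm : n = 2 * m) :
    Cfsg.splitClassCount (Cfsg.inndiagPSU n F q) (Cfsg.Inn (Cfsg.PSU n F q)) (gU σ g) =
      Nat.gcd n (q + 1) / 2 := by
  subst hnm
  have key : ∀ (w : Fˣ) (a : F₀ˣ), w ^ (2 * m) * jU j (a ^ m) = (w * w * jU j a) ^ m := fun w a => by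
    rw [map_pow, mul_pow, pow_mul, sq]
  have hneg : (-1 : Fˣ) ∈ U₁ := by
    rw [AutPSU.mem_U1_iff]
    exact hq.add_one.neg_one_pow
  set e : U₁ := ⟨-1, hneg⟩
  set U : Subgroup U₁ := (powMonoidHom m : U₁ →* U₁).range ⊔ Subgroup.zpowers e
  obtain ⟨r, hr, hr'⟩ := exists_reflection h2 (by omega) hs
  have hsgn : ∀ (P : GL (Fin (2 * m)) F₀) (a : F₀ˣ),
      (P : Matrix (Fin (2 * m)) (Fin (2 * m)) F₀)ᵀ * (d.K : Matrix (Fin (2 * m)) (Fin (2 * m)) F₀) *
        (P : Matrix (Fin (2 * m)) (Fin (2 * m)) F₀) =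
        (a : F₀) • (d.K : Matrix (Fin (2 * m)) (Fin (2 * m)) F₀) →
      GeneralLinearGroup.det P = a ^ m ∨ GeneralLinearGroup.det P = -1 * a ^ m := by
    intro P a hP
    have hd := det_sq_simB (det_ne d.K) hP
    rw [show (a : F₀) ^ (2 * m) = (a : F₀) ^ m * (a : F₀) ^ m by rw [← pow_add, two_mul]] at hd
    rcases mul_self_eq_mul_self_iff.1 hd with h' | h'
    · exact Or.inl (Units.ext (h'.trans (Units.val_pow_eq_pow_val a m).symm))
    · exact Or.inr (Units.ext (h'.trans (by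
        rw [Units.val_mul, Units.val_neg, Units.val_one, neg_one_mul, Units.val_pow_eq_pow_val])))
  have hj1 : jU j (-1 : F₀ˣ) = -1 := Units.ext (by simp [jU])
  rw [AutPSU.splitClassCount_eq_index h.card hn, map_detU_cent h hn d U ?_ ?_]
  · have hne1 : e ≠ 1 := fun he => two_ne_zero_map j h2 (by
      have := congrArg (fun x : U₁ => ((x : Fˣ) : F)) he
      simp [e] at this
      linear_combination -this)
    have ho : orderOf e = 2 := orderOf_eq_prime_iff.2 ⟨Subtype.ext (by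
      rw [Subgroup.coe_pow, Subgroup.coe_one]; exact neg_one_sq), hne1⟩
    have hz := Subgroup.index_mul_card (Subgroup.zpowers e)
    rw [Nat.card_zpowers, ho, (Unitary.card_normHom h.card).1] at hz
    rw [AutPSL.index_range_pow_sup, ← hz, mul_comm (Subgroup.zpowers e).index 2, Nat.gcd_mul_left]
    omega
  · intro u w P a hP hN hu
    have hpow : (⟨_, div_mem_U1 h w⟩ : U₁) ^ m ∈ U := Subgroup.mem_sup_left ⟨_, rfl⟩
    rcases hsgn P a hP with h' | h'
    · convert hpow using 1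
      exact Subtype.ext (by rw [hu, h', key, sq_mul_eq w _ σ hN]; rfl)
    · convert mul_mem (Subgroup.mem_sup_right (Subgroup.mem_zpowers e)) hpow using 1
      refine Subtype.ext ?_
      rw [hu, h', map_mul, hj1, mul_left_comm, key, sq_mul_eq w _ σ hN]
      rfl
  · intro u hu
    obtain ⟨_, ⟨v, rfl⟩, s, hs', rfl⟩ := Subgroup.mem_sup.1 hu
    obtain ⟨w, a, hN, hv⟩ := exists_w h v
    obtain ⟨P, hP⟩ := exists_congr h2 (H := (a : F₀) • (d.K : Matrix (Fin (2 * m)) (Fin (2 * m)) F₀))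
      (H' := (d.K : Matrix (Fin (2 * m)) (Fin (2 * m)) F₀)) (by rw [transpose_smul, hs]) hs
      (by rw [det_smul]; exact mul_ne_zero (pow_ne_zero _ a.ne_zero) (det_ne d.K)) (det_ne d.K)
      ⟨(a : F₀) ^ m * (d.K : Matrix (Fin (2 * m)) (Fin (2 * m)) F₀).det, by
        rw [det_smul, Fintype.card_fin, show (a : F₀) ^ (2 * m) = (a : F₀) ^ m * (a : F₀) ^ m by rw [← pow_add, two_mul]]; ring⟩
    have hrP : ((r * P : GL (Fin (2 * m)) F₀) : Matrix (Fin (2 * m)) (Fin (2 * m)) F₀)ᵀ *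
        (d.K : Matrix (Fin (2 * m)) (Fin (2 * m)) F₀) * ((r * P : GL (Fin (2 * m)) F₀) : Matrix (Fin (2 * m)) (Fin (2 * m)) F₀) =
        (a : F₀) • (d.K : Matrix (Fin (2 * m)) (Fin (2 * m)) F₀) := by
      rw [Units.val_mul, transpose_mul]
      calc _ = (P : Matrix (Fin (2 * m)) (Fin (2 * m)) F₀)ᵀ * ((r : Matrix (Fin (2 * m)) (Fin (2 * m)) F₀)ᵀ * (d.K : Matrix (Fin (2 * m)) (Fin (2 * m)) F₀) * (r : Matrix (Fin (2 * m)) (Fin (2 * m)) F₀)) * (P : Matrix (Fin (2 * m)) (Fin (2 * m)) F₀) := by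
            simp only [Matrix.mul_assoc]
        _ = _ := by rw [hr, hP]
    have hdr : GeneralLinearGroup.det r = -1 := Units.ext (hr'.trans (by simp))
    have hcase : s = 1 ∨ s = e := by
      obtain ⟨k, rfl⟩ := Subgroup.mem_zpowers_iff.1 hs'
      have he2 : e * e = 1 := Subtype.ext (Units.ext (by simp [e]))
      rcases Int.even_or_odd k with ⟨i, rfl⟩ | ⟨i, rfl⟩
      · left; rw [← two_mul, _root_.zpow_mul, zpow_two, he2, _root_.one_zpow]
      · right; rw [_root_.zpow_add_one, _root_.zpow_mul, zpow_two, he2, _root_.one_zpow, one_mul]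
    have hP' : ∀ Q : GL (Fin (2 * m)) F₀, GeneralLinearGroup.det Q = a ^ m ∨
        GeneralLinearGroup.det Q = -1 * a ^ m →
        w ^ (2 * m) * jU j (GeneralLinearGroup.det Q) = v.1 ^ m ∧ GeneralLinearGroup.det Q = a ^ m ∨
        w ^ (2 * m) * jU j (GeneralLinearGroup.det Q) = -1 * v.1 ^ m ∧
          GeneralLinearGroup.det Q = -1 * a ^ m := by
      rintro Q (h' | h')
      · exact Or.inl ⟨by rw [h', key, hv], h'⟩
      · exact Or.inr ⟨by rw [h', map_mul, hj1, mul_left_comm, key, hv], h'⟩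
    rcases hP' P (hsgn P a hP) with ⟨e1, d1⟩ | ⟨e1, d1⟩ <;> rcases hcase with rfl | rfl
    · exact ⟨w, P, a, hP, hN, by rw [e1, mul_one]; rfl⟩
    · refine ⟨w, r * P, a, hrP, hN, ?_⟩
      rw [map_mul GeneralLinearGroup.det, hdr, map_mul, hj1, mul_left_comm, e1]
      show v.1 ^ m * -1 = -1 * v.1 ^ m
      exact mul_comm _ _
    · refine ⟨w, r * P, a, hrP, hN, ?_⟩
      rw [map_mul GeneralLinearGroup.det, hdr, map_mul, hj1, mul_left_comm, e1, ← mul_assoc,
        neg_one_mul, neg_neg, one_mul, mul_one]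
      rfl
    · refine ⟨w, P, a, hP, hN, ?_⟩
      rw [e1]
      show v.1 ^ m * -1 = -1 * v.1 ^ m
      exact mul_comm _ _

end Cfsg.Agent.Lib.GraphClasses
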