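import Cfsg.Agent.Lib.Orth52.Spinor
import Mathlib.Algebra.QuadraticAlgebra.Basic

/-!
An isometry of odd order prime to the characteristic commutes with a rotation that is odd on the unit level set.
-/

set_option autoImplicit false
set_option linter.unusedSectionVars false

namespace Cfsg.Agent.Lib.GraphClasses.SemisimpleSpin

open Module QuadraticMap Polynomial Cfsg.Agent.Lib.Forms

/-! ### Signs -/

theorem sign_mulLeft_generator {U : Type*} [Group U] [Fintype U] [DecidableEq U] (g : U)
    (hgen : ∀ x, x ∈ Subgroup.zpowers g) (heven : Even (Fintype.card U)) :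
    Equiv.Perm.sign (Equiv.mulLeft g) = -1 := by
  have hg1 : g ≠ 1 := by
    rintro rfl
    have h1 : Fintype.card U = 1 := Fintype.card_eq_one_iff.2 ⟨1, fun x => by
      obtain ⟨i, rfl⟩ := hgen x; simp⟩
    rw [h1] at heven
    exact absurd heven (by decide)
  have hpow : ∀ (i : ℤ) (x : U), ((Equiv.mulLeft g) ^ i) x = g ^ i * x := by
    intro i x
    rw [show Equiv.mulLeft g = MulAction.toPermHom U U g from Equiv.ext fun _ => rfl, ← map_zpow]
    rfl
  have hcyc : (Equiv.mulLeft g).IsCycle := by
    refine ⟨1, by simpa using hg1, fun y _ => ?_⟩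
    obtain ⟨i, hi⟩ := hgen y
    exact ⟨i, by rw [hpow, mul_one]; exact hi⟩
  have hsupp : (Equiv.mulLeft g).support = Finset.univ := by
    ext x; simpa using hg1
  rw [hcyc.sign, hsupp, Finset.card_univ, heven.neg_one_pow]

theorem sign_split {α : Type*} [Fintype α] [DecidableEq α] (σ : Equiv.Perm α) (p : α → Prop)
    [DecidablePred p] (h : ∀ x, p (σ x) ↔ p x) :
    Equiv.Perm.sign σ = Equiv.Perm.sign (σ.subtypePerm h) *
      Equiv.Perm.sign (σ.subtypePerm (p := fun x => ¬ p x) fun x => not_congr (h x)) := by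
  rw [← Equiv.Perm.sign_sumCongr]
  refine Equiv.Perm.sign_eq_sign_of_equiv _ _ (Equiv.sumCompl p).symm fun x => ?_
  by_cases hx : p x
  · rw [Equiv.sumCompl_symm_apply_of_pos hx, Equiv.sumCompl_symm_apply_of_pos ((h x).2 hx)]
    rfl
  · rw [Equiv.sumCompl_symm_apply_of_neg hx, Equiv.sumCompl_symm_apply_of_neg (mt (h x).1 hx)]
    rfl

/-- A permutation commuting with an involution without fixed points which exchanges two invariant halves
is even. -/
theorem sign_eq_one_of_swap {α : Type*} [Fintype α] [DecidableEq α] (σ : Equiv.Perm α) (p : α → Prop)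
    [DecidablePred p] (h : ∀ x, p (σ x) ↔ p x) (ρ : α → α) (hρ : ∀ x, ρ (ρ x) = x)
    (hσρ : ∀ x, σ (ρ x) = ρ (σ x)) (hp : ∀ x, p (ρ x) ↔ ¬ p x) : Equiv.Perm.sign σ = 1 := by
  let e : {x // p x} ≃ {x // ¬ p x} :=
    { toFun := fun x => ⟨ρ x.1, fun hx => (hp x.1).1 hx x.2⟩
      invFun := fun x => ⟨ρ x.1, (hp x.1).2 x.2⟩
      left_inv := fun x => Subtype.ext (hρ _)
      right_inv := fun x => Subtype.ext (hρ _) }
  rw [sign_split σ p h,
    Equiv.Perm.sign_eq_sign_of_equiv (σ.subtypePerm h)
      (σ.subtypePerm (p := fun x => ¬ p x) fun x => not_congr (h x)) e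
      (fun x => Subtype.ext (hσρ x.1).symm)]
  exact Int.units_mul_self _

/-! ### The construction -/

variable {F : Type*} [Field F] [Finite F] {V : Type*} [AddCommGroup V] [Module F V]
  [FiniteDimensional F V] [Finite V]

set_option maxHeartbeats 2000000 in
/-- An isometry of odd order prime to the characteristic, other than the identity, commutes with an
isometry of Dickson invariant zero inducing an odd permutation of the vectors of norm one. -/
theorem exists_comm_odd {Q : QuadraticForm F V} (hQ : Nondeg Q) (h2 : (2 : F) ≠ 0) (T : orth Q) {r : ℕ}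
    (hodd : Odd r) (hr : (r : F) ≠ 0) (hT : T ^ r = 1) (hT1 : T ≠ 1) :
    ∃ h : orth Q, dickson Q h = 0 ∧ levelSign Q 1 h = -1 ∧ ∀ x, h.1 (T.1 x) = T.1 (h.1 x) := by
  classical
  haveI := Fintype.ofFinite F
  haveI : Finite (Module.End F V) :=
    Finite.of_injective (fun f : Module.End F V => (f : V → V)) DFunLike.coe_injective
  set B := polarBilin Q with hB
  have hBa : ∀ x y, B x y = polar Q x y := fun x y => rfl
  have hsym : ∀ x y, B x y = B y x := fun x y => polar_comm Q x y
  have hBself : ∀ x, B x x = 2 * Q x := fun x => polar_self' Q x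
  set t : Module.End F V := T.1.toLinearMap with ht
  have hta : ∀ x, t x = T.1 x := fun x => rfl
  have htB : ∀ x y, B (t x) (t y) = B x y := fun x y => orth_polar T.2 x y
  have htr : t ^ r = 1 := by
    refine LinearMap.ext fun x => ?_
    have key : ∀ k : ℕ, ∀ x, (t ^ k) x = (T ^ k).1 x := by
      intro k
      induction k with
      | zero => intro x; rfl
      | succ k ih => intro x; rw [pow_succ', pow_succ', Module.End.mul_apply, ih]; rfl
    rw [key, hT]; rfl
  have hrpos : 0 < r := hodd.pos
  set t' := t ^ (r - 1) with ht'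
  have htt' : t * t' = 1 := by rw [ht', ← pow_succ', Nat.sub_add_cancel hrpos, htr]
  have ht't : t' * t = 1 := by rw [ht', ← pow_succ, Nat.sub_add_cancel hrpos, htr]
  have ht'x : ∀ x, t (t' x) = x := fun x => LinearMap.congr_fun htt' x
  have ht'x' : ∀ x, t' (t x) = x := fun x => LinearMap.congr_fun ht't x
  have hadj : ∀ x y, B (t x) y = B x (t' y) := fun x y => by
    conv_lhs => rw [← ht'x y]
    exact htB _ _
  have hadj' : ∀ x y, B (t' x) y = B x (t y) := fun x y => by
    rw [hsym, ← hadj, hsym]
  set S := t + t' with hS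
  have hcommtS : Commute t S := (Commute.refl t).add_right ((Commute.refl t).pow_right _)
  have hcS : ∀ f : F[X], Commute t (aeval S f) := by
    intro f
    induction f using Polynomial.induction_on with
    | C a => rw [aeval_C]; exact Algebra.commute_algebraMap_right a t
    | add a b ha hb => rw [map_add]; exact ha.add_right hb
    | monomial k a ih =>
      rw [pow_succ, ← mul_assoc, map_mul, aeval_X]; exact ih.mul_right hcommtS
  have hSadj : ∀ (f : F[X]) x y, B (aeval S f x) y = B x (aeval S f y) := by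
    intro f
    induction f using Polynomial.induction_on with
    | C a => intro x y; simp [Module.algebraMap_end_apply]
    | add a b ha hb => intro x y; simp [ha, hb]
    | monomial k a ih =>
      intro x y
      have hS1 : ∀ x y, B (S x) y = B x (S y) := fun x y => by
        simp only [hS, LinearMap.add_apply, map_add, hadj, hadj']
        rw [add_comm]
      have hcomm : aeval S (C a * X ^ k) * S = S * aeval S (C a * X ^ k) := by
        have h0 := ((Commute.all (C a * X ^ k) (X : F[X])).map (aeval S)).eq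
        rwa [aeval_X] at h0
      rw [pow_succ, ← mul_assoc, map_mul, aeval_X, Module.End.mul_apply, Module.End.mul_apply, ih, hS1,
        ← Module.End.mul_apply S, ← hcomm, Module.End.mul_apply]
  -- semisimplicity of `S`
  set p := ringChar F with hp_def
  haveI : Fact p.Prime := ⟨CharP.char_is_prime F p⟩
  obtain ⟨e, -, hqe⟩ := FiniteField.card F p
  set q := Fintype.card F with hq
  have hq1 : 1 < q := Fintype.one_lt_card
  haveI : CharP (Module.End F V) p :=
    haveI : Nontrivial V := by
      by_contra hnt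
      rw [not_nontrivial_iff_subsingleton] at hnt
      exact hT1 (Subtype.ext (LinearEquiv.ext fun x => Subsingleton.elim _ _))
    charP_of_injective_algebraMap (algebraMap F (Module.End F V)).injective p
  have hqr : q.Coprime r := by
    rw [hqe]
    refine Nat.Coprime.pow_left _ ((Fact.out : p.Prime).coprime_iff_not_dvd.2 fun h => hr ?_)
    exact (CharP.cast_eq_zero_iff F p r).2 h
  obtain ⟨k, hk0, hk⟩ : ∃ k, 0 < k ∧ q ^ k % r = 1 % r :=
    ⟨r.totient, Nat.totient_pos.2 hrpos, Nat.ModEq.pow_totient hqr⟩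
  have hSfix : aeval S (X ^ (q ^ k) - X : F[X]) = 0 := by
    have hpow : ∀ a : Module.End F V, a ^ r = 1 → a ^ (q ^ k) = a := by
      intro a ha
      conv_lhs => rw [← Nat.div_add_mod (q ^ k) r, pow_add, pow_mul, ha, one_pow, one_mul, hk]
      rcases Nat.lt_or_ge 1 r with h | h
      · rw [Nat.mod_eq_of_lt h, pow_one]
      · obtain rfl : r = 1 := by omega
        rw [pow_one] at ha; rw [ha, one_pow]
    rw [map_sub, aeval_X_pow, aeval_X, sub_eq_zero, hS,
      show q ^ k = p ^ ((e : ℕ) * k) by rw [hqe, ← pow_mul],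
      add_pow_char_pow_of_commute p _ ((Commute.refl t).pow_right _)]
    rw [show p ^ ((e : ℕ) * k) = q ^ k by rw [hqe, ← pow_mul], hpow t htr, hpow t' (by
      rw [ht', ← pow_mul, mul_comm, pow_mul, htr, one_pow])]
  have hint : IsIntegral F S := Algebra.IsIntegral.isIntegral S
  have hsqf : Squarefree (minpoly F S) := by
    refine Squarefree.squarefree_of_dvd (minpoly.dvd F S hSfix) ?_
    refine (galois_poly_separable p (q ^ k) ?_).squarefree
    rw [hqe, ← pow_mul]
    exact dvd_pow_self p (Nat.mul_ne_zero e.ne_zero hk0.ne')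
  have hnofix : ∀ x, t (t x) = x → t x = x := by
    intro x hx
    have hk : ∀ i : ℕ, (t ^ (2 * i)) x = x := by
      intro i
      induction i with
      | zero => rfl
      | succ i ih => rw [Nat.mul_succ, add_comm, pow_add, Module.End.mul_apply, ih, pow_two]; exact hx
    obtain ⟨i, hi⟩ := hodd
    have := LinearMap.congr_fun htr x
    rw [hi, pow_succ', Module.End.mul_apply, hk] at this
    exact this
  have hS2 : S ≠ algebraMap F (Module.End F V) 2 := by
    intro h
    apply hT1
    have h1 : t * S = t * algebraMap F (Module.End F V) 2 := by rw [h]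
    rw [hS, mul_add, htt', map_ofNat] at h1
    have hn : (t - 1) * (t - 1) = 0 := by
      have h1' : t * t + 1 = t + t := by rw [h1, mul_two]
      rw [sub_mul, mul_sub, mul_one, one_mul, sub_sub_eq_add_sub]
      linear_combination (norm := abel) h1'
    refine Subtype.ext (LinearEquiv.ext fun x => ?_)
    set y := t x - x with hy
    have hy1 : t y = y := by
      have := LinearMap.congr_fun hn x
      simp only [Module.End.mul_apply, LinearMap.sub_apply, Module.End.one_apply, LinearMap.zero_apply,
        ← hy] at this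
      exact sub_eq_zero.1 this
    have hit : ∀ i : ℕ, (t ^ i) x = x + (i : F) • y := by
      intro i
      induction i with
      | zero => simp
      | succ i ih =>
        rw [pow_succ', Module.End.mul_apply, ih, map_add, map_smul, hy1, Nat.cast_succ, add_smul, one_smul,
          hy]
        abel
    have := hit r
    rw [htr, Module.End.one_apply, left_eq_add, smul_eq_zero] at this
    exact sub_eq_zero.1 (this.resolve_left hr)
  -- the factor `g`
  obtain ⟨g, hg, ⟨g', hgg'⟩, hg2⟩ : ∃ g : F[X], Irreducible g ∧ g ∣ minpoly F S ∧ ¬ g ∣ X - C 2 := by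
    by_contra hno
    push Not at hno
    have hdvd : minpoly F S ∣ X - C (2 : F) := by
      refine (UniqueFactorizationMonoid.squarefree_iff_nodup_normalizedFactors (minpoly.ne_zero hint)).1 hsqf
        |> fun hnd => ?_
      rw [UniqueFactorizationMonoid.dvd_iff_normalizedFactors_le_normalizedFactors (minpoly.ne_zero hint)
        (X_sub_C_ne_zero _), Multiset.le_iff_subset hnd]
      intro a ha
      have hirr := UniqueFactorizationMonoid.irreducible_of_normalized_factor a ha
      have had := hno a hirr (UniqueFactorizationMonoid.dvd_of_mem_normalizedFactors ha)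
      exact (UniqueFactorizationMonoid.mem_normalizedFactors_iff' (X_sub_C_ne_zero _)).2
        ⟨hirr, UniqueFactorizationMonoid.normalize_normalized_factor a ha, had⟩
    obtain ⟨c, hc⟩ := hdvd
    apply hS2
    have h0 : aeval S (X - C (2 : F)) = 0 := by rw [hc, map_mul, minpoly.aeval, zero_mul]
    rwa [map_sub, aeval_X, aeval_C, sub_eq_zero] at h0
  have hgn2 : ¬ g ∣ X + C 2 := by
    intro hd
    -- an eigenvector for `-2` would be negated by `t`
    obtain ⟨c, hc⟩ := hd
    have hg'0 : aeval S g' ≠ 0 := fun h0 => by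
      have h1 := minpoly.dvd F S h0
      rw [hgg'] at h1
      have hg'ne : g' ≠ 0 := fun h => minpoly.ne_zero hint (by rw [hgg', h, mul_zero])
      exact hg.not_isUnit (isUnit_of_dvd_one ((mul_dvd_mul_iff_right hg'ne).1 (by rw [one_mul]; exact h1)))
    obtain ⟨v, hv⟩ : ∃ v, aeval S g' v ≠ 0 := by
      by_contra h
      push Not at h
      exact hg'0 (LinearMap.ext h)
    set w := aeval S g' v with hw
    have hgw : aeval S g w = 0 := by
      rw [hw, ← Module.End.mul_apply, ← map_mul, ← hgg', minpoly.aeval, LinearMap.zero_apply]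
    have h1 : aeval S (X + C (2 : F)) w = 0 := by
      rw [hc, mul_comm, map_mul, Module.End.mul_apply, hgw, map_zero]
    rw [map_add, aeval_X, aeval_C, LinearMap.add_apply, Module.algebraMap_end_apply] at h1
    have h3 := congrArg t h1
    rw [hS, LinearMap.add_apply, map_add, map_add, ht'x, map_smul, map_zero] at h3
    -- `(t + 1) ^ 2` kills `w`
    set y := t w + w with hy
    have hy1 : t y = -y := by
      rw [hy, map_add, eq_neg_iff_add_eq_zero, ← h3, two_smul]; abel
    have hy0 : y = 0 := by
      have h4 := hnofix y (by rw [hy1, map_neg, hy1, neg_neg])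
      rw [hy1] at h4
      have h5 : (2 : F) • y = 0 := by rw [two_smul]; nth_rewrite 1 [← h4]; exact neg_add_cancel y
      exact (smul_eq_zero.1 h5).resolve_left h2
    have hw1 : t w = -w := eq_neg_of_add_eq_zero_left hy0
    have h4 := hnofix w (by rw [hw1, map_neg, hw1, neg_neg])
    rw [hw1] at h4
    have h5 : (2 : F) • w = 0 := by rw [two_smul]; nth_rewrite 1 [← h4]; exact neg_add_cancel w
    exact hv ((smul_eq_zero.1 h5).resolve_left h2)
  -- the kernel of `g (S)`
  set Z := LinearMap.ker (aeval S g) with hZ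
  have hZm : ∀ x, x ∈ Z ↔ aeval S g x = 0 := fun x => LinearMap.mem_ker
  have hg'ne : g' ≠ 0 := fun h => minpoly.ne_zero hint (by rw [hgg', h, mul_zero])
  have hcop : IsCoprime g g' := (hg.coprime_iff_not_dvd).2 fun h => hg.not_isUnit
    (hsqf g (by rw [hgg']; exact mul_dvd_mul_left g h))
  obtain ⟨c₁, c₂, hcc⟩ := hcop
  obtain ⟨u, hu, hQu⟩ : ∃ u ∈ Z, Q u ≠ 0 := by
    by_contra hno
    push Not at hno
    have hzero : ∀ x ∈ Z, ∀ y ∈ Z, B x y = 0 := fun x hx y hy => by
      show polar Q x y = 0
      rw [polar, hno _ (Z.add_mem hx hy), hno x hx, hno y hy]; simp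
    have hbot : ∀ x ∈ Z, x = 0 := fun x hx => hQ x fun y => by
      show B x y = 0
      have e : y = aeval S g (aeval S c₁ y) + aeval S (c₂ * g') y := by
        rw [← Module.End.mul_apply, ← map_mul, ← LinearMap.add_apply, ← map_add, mul_comm g, hcc, map_one]; rfl
      rw [e, map_add, ← hSadj, (hZm x).1 hx, map_zero, LinearMap.zero_apply, zero_add]
      refine hzero x hx _ ((hZm _).2 ?_)
      rw [← Module.End.mul_apply, ← map_mul, mul_left_comm, ← hgg', map_mul, minpoly.aeval, mul_zero]
      rfl
    have hg'0 : aeval S g' ≠ 0 := fun h0 => by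
      have h1 := minpoly.dvd F S h0
      rw [hgg'] at h1
      exact hg.not_isUnit (isUnit_of_dvd_one ((mul_dvd_mul_iff_right hg'ne).1 (by rw [one_mul]; exact h1)))
    refine hg'0 (LinearMap.ext fun v => hbot _ ((hZm _).2 ?_))
    rw [← Module.End.mul_apply, ← map_mul, ← hgg', minpoly.aeval, LinearMap.zero_apply]
  -- the field `K` and its action
  haveI : Fact (Irreducible g) := ⟨hg⟩
  have hdiv : ∀ (f : F[X]) z, z ∈ Z → z ≠ 0 → aeval S f z = 0 → g ∣ f := by
    intro f z hz hz0 hf
    by_contra hnd
    obtain ⟨a, b, hab⟩ := (hg.coprime_iff_not_dvd).2 hnd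
    apply hz0
    have := congrArg (fun P => aeval S P z) hab
    simp only [map_add, map_mul, map_one, LinearMap.add_apply, Module.End.mul_apply, (hZm z).1 hz, hf,
      map_zero, add_zero, Module.End.one_apply] at this
    exact this.symm
  let ψ₀ : F[X] →ₗ[F] V := (LinearMap.applyₗ u).comp (aeval S).toLinearMap
  have hψ₀ : ∀ f, ψ₀ f = aeval S f u := fun f => rfl
  let K := AdjoinRoot g
  haveI : Module.Finite F K := (AdjoinRoot.powerBasis hg.ne_zero).finite
  haveI : Finite K := Module.finite_of_finite F
  have hu0 : u ≠ 0 := fun h => hQu (by rw [h, QuadraticMap.map_zero])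
  have hwd : ∀ f f' : F[X], AdjoinRoot.mk g f = AdjoinRoot.mk g f' → ψ₀ f = ψ₀ f' := by
    intro f f' h
    obtain ⟨c, hc⟩ := AdjoinRoot.mk_eq_mk.1 h
    rw [hψ₀, hψ₀, ← sub_eq_zero, ← LinearMap.sub_apply, ← map_sub, hc, mul_comm, map_mul,
      Module.End.mul_apply, (hZm u).1 hu, map_zero]
  let rep : K → F[X] := Function.surjInv AdjoinRoot.mk_surjective
  have hrep : ∀ x : K, AdjoinRoot.mk g (rep x) = x := Function.surjInv_eq AdjoinRoot.mk_surjective
  let ψ : K →ₗ[F] V :=
    { toFun := fun x => ψ₀ (rep x)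
      map_add' := fun x y => by rw [← map_add]; exact hwd _ _ (by simp [hrep])
      map_smul' := fun c x => by
        rw [RingHom.id_apply, ← map_smul]; exact hwd _ _ (by
          rw [hrep, Algebra.smul_def (A := F[X]), map_mul, hrep, Algebra.smul_def]; rfl) }
  have hψ : ∀ f, ψ (AdjoinRoot.mk g f) = aeval S f u := fun f => hwd _ _ (by rw [hrep])
  -- the functional
  let lam : K →ₗ[F] F := (B u).comp ψ
  have hlam1 : lam 1 ≠ 0 := by
    show B u (ψ 1) ≠ 0
    rw [← map_one (AdjoinRoot.mk g), hψ, map_one, Module.End.one_apply, hBself]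
    exact mul_ne_zero h2 hQu
  have hlam0 : ∀ y : K, (∀ x, lam (x * y) = 0) → y = 0 := fun y h => by
    by_contra hy
    exact hlam1 (by simpa [inv_mul_cancel₀ hy] using h y⁻¹)
  let s : K := AdjoinRoot.mk g X
  have hs2 : s ≠ 2 := fun h => hg2 (AdjoinRoot.mk_eq_zero.1 (by rw [map_sub, map_ofNat, map_ofNat, sub_eq_zero]; exact h))
  have hs2' : s ≠ -2 := fun h => hgn2 (AdjoinRoot.mk_eq_zero.1 (by
    rw [map_add, map_ofNat, map_ofNat]; exact eq_neg_iff_add_eq_zero.1 h))
  have h2K : (2 : K) ≠ 0 := fun h => h2 ((algebraMap F K).injective (by rw [map_ofNat, map_zero]; exact h))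
  let A := QuadraticAlgebra K (-1 : K) s
  let χ : A → V := fun w => ψ w.re + t (ψ w.im)
  have hψt : ∀ x y : K, B (ψ x) (ψ y) = lam (x * y) := by
    intro x y
    obtain ⟨f, rfl⟩ := AdjoinRoot.mk_surjective x
    obtain ⟨f', rfl⟩ := AdjoinRoot.mk_surjective y
    show _ = B u (ψ _)
    rw [← map_mul, hψ, hψ, hψ, hSadj, ← Module.End.mul_apply, ← map_mul]
  have hψtt : ∀ x y : K, 2 * B (ψ x) (t (ψ y)) = lam (s * x * y) := by
    intro x y
    obtain ⟨f, rfl⟩ := AdjoinRoot.mk_surjective x
    obtain ⟨f', rfl⟩ := AdjoinRoot.mk_surjective y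
    show _ = B u (ψ _)
    rw [show s * AdjoinRoot.mk g f * AdjoinRoot.mk g f' = AdjoinRoot.mk g (X * (f * f')) by
        rw [map_mul, map_mul, mul_assoc], hψ, hψ, hψ, map_mul, Module.End.mul_apply, aeval_X,
      map_mul, Module.End.mul_apply, hS, LinearMap.add_apply, map_add,
      ← Module.End.mul_apply t, (hcS f').eq, Module.End.mul_apply, hSadj]
    have e1 : B u (aeval S f (aeval S f' (t u))) = B u (t (aeval S f (aeval S f' u))) := by
      rw [← Module.End.mul_apply t, (hcS f).eq, Module.End.mul_apply, ← Module.End.mul_apply t, (hcS f').eq,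
        Module.End.mul_apply]
    have e2 : B u (t' (aeval S f (aeval S f' u))) = B u (t (aeval S f (aeval S f' u))) := by
      rw [← hadj, hsym, ← e1]
      have : ∀ z, B (aeval S f (aeval S f' u)) z = B u (aeval S f (aeval S f' z)) := fun z => by
        rw [hSadj, hSadj, ← Module.End.mul_apply, ← map_mul, mul_comm, map_mul, Module.End.mul_apply]
      rw [this]
    rw [e1, e2, two_mul]
  have hQχ : ∀ w : A, (2 : F) * Q (χ w) = lam (QuadraticAlgebra.norm w) := by
    intro w
    rw [← hBself]
    simp only [χ, map_add, LinearMap.add_apply, htB, hψt, hsym (t (ψ w.im)) (ψ w.re)]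
    rw [add_assoc, ← add_assoc (B (ψ w.re) _), ← two_mul, hψtt, QuadraticAlgebra.norm_def]
    rw [show ((-1 : K) * w.im * w.im) = -(w.im * w.im) by ring]
    simp only [map_add, map_neg, sub_neg_eq_add, mul_assoc]
    ring
  let χl : A →ₗ[F] V :=
    { toFun := χ
      map_add' := fun x y => by
        show ψ (x.re + y.re) + t (ψ (x.im + y.im)) = ψ x.re + t (ψ x.im) + (ψ y.re + t (ψ y.im))
        simp only [map_add]; abel
      map_smul' := fun c x => by
        show ψ (c • x.re) + t (ψ (c • x.im)) = c • (ψ x.re + t (ψ x.im))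
        simp only [map_smul, smul_add] }
  -- the pairing
  let trn : A → A → K := fun x y => 2 * (x.re * y.re) + s * x.re * y.im + s * x.im * y.re + 2 * (x.im * y.im)
  have hBχ : ∀ x y : A, (2 : F) * B (χ x) (χ y) = lam (trn x y) := by
    intro x y
    simp only [χ, trn, map_add, LinearMap.add_apply, htB, hψt, hsym (t (ψ x.im)) (ψ y.re), mul_add, hψtt]
    rw [show (2 : K) * (x.re * y.re) = (2 : F) • (x.re * y.re) by rw [Algebra.smul_def, map_ofNat],
      show (2 : K) * (x.im * y.im) = (2 : F) • (x.im * y.im) by rw [Algebra.smul_def, map_ofNat],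
      map_smul, map_smul, smul_eq_mul, smul_eq_mul, show s * y.re * x.im = s * x.im * y.re by ring]
    ring
  have hkill : ∀ y : A, (∀ x, B (χ x) (χ y) = 0) → y = 0 := by
    intro y hy
    have h1 : ∀ x, lam (trn x y) = 0 := fun x => by rw [← hBχ, hy, mul_zero]
    have ha : 2 * y.re + s * y.im = 0 := hlam0 _ fun k => by
      have := h1 ⟨k, 0⟩
      simp only [trn] at this
      convert this using 2; ring
    have hb : s * y.re + 2 * y.im = 0 := hlam0 _ fun k => by
      have := h1 ⟨0, k⟩
      simp only [trn] at this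
      convert this using 2; ring
    have him : (4 - s * s) * y.im = 0 := by linear_combination 2 * hb - s * ha
    have h4 : (4 : K) - s * s ≠ 0 := by
      rw [show (4 : K) - s * s = (2 - s) * (2 + s) by ring]
      exact mul_ne_zero (sub_ne_zero.2 hs2.symm) fun h => hs2' (eq_neg_of_add_eq_zero_right h)
    have him0 : y.im = 0 := (mul_eq_zero.1 him).resolve_left h4
    rw [him0, mul_zero, add_zero] at ha
    exact QuadraticAlgebra.ext ((mul_eq_zero.1 ha).resolve_left h2K) him0
  haveI : Module.Finite F A := Module.Finite.equiv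
    ({ (QuadraticAlgebra.equivProd (-1 : K) s).symm with
        map_add' := fun x y => rfl
        map_smul' := fun c x => rfl } : (K × K) ≃ₗ[F] A)
  haveI : Finite A := Module.finite_of_finite F
  -- the projection
  let Φ : A →ₗ[F] Module.Dual F A := (B.compl₁₂ χl χl)
  have hΦi : Function.Injective Φ := (injective_iff_map_eq_zero Φ).2 fun y hy =>
    hkill y fun x => by rw [hsym]; exact LinearMap.congr_fun hy x
  let Φe : A ≃ₗ[F] Module.Dual F A :=
    LinearMap.linearEquivOfInjective Φ hΦi Subspace.dual_finrank_eq.symm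
  let P : V →ₗ[F] A := Φe.symm.toLinearMap.comp (LinearMap.lcomp F F χl ∘ₗ B)
  have hP : ∀ v x, B (χ (P v)) (χ x) = B v (χ x) := fun v x =>
    LinearMap.congr_fun (Φe.apply_symm_apply ((LinearMap.lcomp F F χl ∘ₗ B) v)) x
  have hPuniq : ∀ v w, (∀ x, B (χ w) (χ x) = B v (χ x)) → P v = w := fun v w h => by
    apply Φe.injective
    refine LinearMap.ext fun x => ?_
    exact (hP v x).trans (h x).symm
  have hPχ : ∀ w, P (χ w) = w := fun w => hPuniq _ _ fun x => rfl
  have hχi : Function.Injective χl := fun x y h => by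
    rw [← hPχ x, ← hPχ y]; exact congrArg P h
  -- decomposition
  have hdec : ∀ v, Q v = Q (χ (P v)) + Q (v - χ (P v)) := fun v => by
    have h0 : polar Q (χ (P v)) (v - χ (P v)) = 0 := by
      rw [← hBa, map_sub, hsym _ v, hP, sub_self]
    have := Q_add Q (χ (P v)) (v - χ (P v))
    rw [add_sub_cancel, h0, add_zero] at this
    exact this
  -- norm one elements
  let U : Subgroup Aˣ := (Units.map (QuadraticAlgebra.norm : A →* K)).ker
  have hU : ∀ a : U, QuadraticAlgebra.norm (a.1 : A) = 1 := fun a => congrArg Units.val a.2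
  obtain ⟨ζ, hζ⟩ : ∃ ζ : AlgebraicClosure K, ζ * ζ = -1 + algebraMap K (AlgebraicClosure K) s * ζ := by
    obtain ⟨ζ, hζ⟩ := IsAlgClosed.exists_root (k := AlgebraicClosure K)
      (Polynomial.C 1 * X ^ 2 + Polynomial.C (-algebraMap K (AlgebraicClosure K) s) * X + Polynomial.C 1)
      (by rw [Polynomial.degree_quadratic one_ne_zero]; decide)
    refine ⟨ζ, ?_⟩
    simp only [IsRoot.def, eval_add, eval_mul, eval_C, eval_pow, eval_X, one_mul] at hζ
    linear_combination hζ
  let em : A →ₐ[K] AlgebraicClosure K := QuadraticAlgebra.lift ⟨ζ, by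
    rw [hζ, Algebra.smul_def, Algebra.smul_def, mul_one, map_neg, map_one]⟩
  have hem : ∀ w : A, em w = algebraMap K _ w.re + algebraMap K _ w.im * ζ := fun w => by
    simp [em, QuadraticAlgebra.lift, Algebra.smul_def]
  have hUcyc : IsCyclic U := by
    refine isCyclic_of_injective_ringHom ((em : A →* AlgebraicClosure K).comp ((Units.coeHom A).comp U.subtype)) ?_
    rw [injective_iff_map_eq_one]
    intro a ha
    have h1 : em (a.1 : A) = 1 := ha
    have h2' : em (star (a.1 : A)) = 1 := by
      have := congrArg em (QuadraticAlgebra.algebraMap_norm_eq_mul_star (a.1 : A))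
      rw [hU, map_one, map_one, map_mul, h1, one_mul] at this
      exact this.symm
    rw [hem] at h1 h2'
    rw [QuadraticAlgebra.re_star, QuadraticAlgebra.im_star, map_add, map_neg, map_mul] at h2'
    set ι := algebraMap K (AlgebraicClosure K)
    have h3 : ι (a.1 : A).im * (2 * ζ - ι s) = 0 := by linear_combination h1 - h2'
    have h4 : 2 * ζ - ι s ≠ 0 := by
      intro h
      have h5 : ι ((s - 2) * (s + 2)) = 0 := by
        rw [map_mul, map_sub, map_add, map_ofNat]
        linear_combination (2 * ζ - ι s) * h - 4 * hζ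
      rcases mul_eq_zero.1 ((map_eq_zero ι).1 h5) with h6 | h6
      · exact hs2 (sub_eq_zero.1 h6)
      · exact hs2' (eq_neg_of_add_eq_zero_left h6)
    have him : (a.1 : A).im = 0 := (map_eq_zero ι).1 ((mul_eq_zero.1 h3).resolve_right h4)
    rw [him, map_zero, zero_mul, add_zero] at h1
    have hre : (a.1 : A).re = 1 := ι.injective (by rw [h1, map_one])
    exact Subtype.ext (Units.ext (QuadraticAlgebra.ext hre him))
  haveI := Fintype.ofFinite U
  have hUeven : Even (Fintype.card U) := by
    let m1 : U := ⟨-1, Units.ext (by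
      show QuadraticAlgebra.norm ((-1 : Aˣ) : A) = 1
      rw [Units.val_neg, Units.val_one, QuadraticAlgebra.norm_neg, map_one])⟩
    have hne : m1 ≠ 1 := fun h => h2K (by
      have h' : -(1 : K) = 1 := congrArg (fun a : U => (a.1 : A).re) h
      linear_combination -h')
    have h : orderOf m1 = 2 := orderOf_eq_prime (Subtype.ext (neg_one_sq (R := Aˣ))) hne
    exact even_iff_two_dvd.2 (h ▸ orderOf_dvd_card)
  obtain ⟨a, hagen⟩ := hUcyc.exists_generator
  -- `a - 1` is injective
  have ha1 : ∀ w : A, (a.1 : A) * w = w → w = 0 := by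
    intro w hw
    have hN : QuadraticAlgebra.norm ((a.1 : A) - 1) ≠ 0 := by
      intro h0
      have hN1 := hU a
      rw [QuadraticAlgebra.norm_def] at h0 hN1
      rw [show ((a.1 : A) - 1).re = (a.1 : A).re - 1 from rfl,
        show ((a.1 : A) - 1).im = (a.1 : A).im - 0 from rfl, sub_zero] at h0
      set x := (a.1 : A).re
      set y := (a.1 : A).im
      have e1 : 2 * x + s * y = 2 := by linear_combination hN1 - h0
      have e2 : (4 - s * s) * (y * y) = 0 := by linear_combination 4 * hN1 - (2 * x + s * y + 2) * e1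
      have h4 : (4 : K) - s * s ≠ 0 := by
        rw [show (4 : K) - s * s = (2 - s) * (2 + s) by ring]
        exact mul_ne_zero (sub_ne_zero.2 hs2.symm) fun h => hs2' (eq_neg_of_add_eq_zero_right h)
      have hy : y = 0 := mul_self_eq_zero.1 ((mul_eq_zero.1 e2).resolve_left h4)
      have hx : x = 1 := mul_left_cancel₀ h2K (by rw [mul_one]; linear_combination e1 - s * hy)
      have ha1' : a = 1 := Subtype.ext (Units.ext (QuadraticAlgebra.ext hx hy))
      have h1 : Fintype.card U = 1 := Fintype.card_eq_one_iff.2 ⟨1, fun z => by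
        obtain ⟨i, rfl⟩ := hagen z; simp [ha1']⟩
      rw [h1] at hUeven
      exact absurd hUeven (by decide)
    have hu' : IsUnit ((a.1 : A) - 1) := QuadraticAlgebra.isUnit_iff_norm_isUnit.2 (isUnit_iff_ne_zero.2 hN)
    exact hu'.mul_right_eq_zero.1 (by rw [sub_mul, hw, one_mul, sub_self])
  have hnm : ∀ (c : U) (w : A), QuadraticAlgebra.norm ((c.1 : A) * w) = QuadraticAlgebra.norm w :=
    fun c w => by rw [map_mul, hU, one_mul]
  -- the isometries
  let ext : U → V →ₗ[F] V := fun c =>
    LinearMap.id + χl.comp ((LinearMap.mulLeft F (c.1 : A) - LinearMap.id).comp P)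
  have hext : ∀ c v, ext c v = v + (χ ((c.1 : A) * P v) - χ (P v)) := fun c v => by
    show v + χl (_ - _) = _
    rw [map_sub]; rfl
  have hPext : ∀ c v, P (ext c v) = (c.1 : A) * P v := fun c v => by
    rw [hext, map_add, map_sub, hPχ, hPχ]; abel
  have hzext : ∀ c v, ext c v - χ (P (ext c v)) = v - χ (P v) := fun c v => by
    rw [hPext, hext]; abel
  have hQext : ∀ c v, Q (ext c v) = Q v := fun c v => by
    rw [hdec (ext c v), hdec v, hzext, hPext]
    congr 1
    apply mul_left_cancel₀ h2
    rw [hQχ, hQχ, hnm]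
  have hmulext : ∀ c d v, ext c (ext d v) = ext (c * d) v := fun c d v => by
    rw [hext c, hPext, hext d, hext (c * d), Subgroup.coe_mul, Units.val_mul, ← mul_assoc]
    abel
  have hone : ∀ v, ext 1 v = v := fun v => by
    rw [hext, OneMemClass.coe_one, Units.val_one, one_mul, sub_self, add_zero]
  let hL : V ≃ₗ[F] V := LinearEquiv.ofLinearMap (ext a) (ext a⁻¹)
    (LinearMap.ext fun v => by rw [LinearMap.comp_apply, hmulext, mul_inv_cancel, hone]; rfl)
    (LinearMap.ext fun v => by rw [LinearMap.comp_apply, hmulext, inv_mul_cancel, hone]; rfl)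
  let h : orth Q := ⟨hL, hQext a⟩
  have hha : ∀ v, h.1 v = ext a v := fun v => rfl
  refine ⟨h, ?_, ?_, ?_⟩
  · -- Dickson invariant
    have hrange : LinearMap.range (dev h.1) = LinearMap.range χl := by
      refine le_antisymm ?_ ?_
      · rintro _ ⟨v, rfl⟩
        refine ⟨(a.1 : A) * P v - P v, ?_⟩
        show χl _ = h.1 v - v
        rw [hha, hext, map_sub, add_sub_cancel_left]
        rfl
      · rintro _ ⟨w, rfl⟩
        obtain ⟨w', hw'⟩ := (LinearMap.injective_iff_surjective
          (f := LinearMap.mulLeft F (a.1 : A) - LinearMap.id)).1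
          ((injective_iff_map_eq_zero (LinearMap.mulLeft F (a.1 : A) - LinearMap.id)).2
            fun z hz => ha1 z (sub_eq_zero.1 hz)) w
        refine ⟨χ w', ?_⟩
        show h.1 (χ w') - χ w' = χl w
        rw [hha, hext, hPχ, add_sub_cancel_left, ← hw']
        exact (map_sub χl _ _).symm
    rw [Forms.dickson, hrange, LinearMap.finrank_range_of_inj hχi,
      ← LinearEquiv.finrank_eq ({ (QuadraticAlgebra.equivProd (-1 : K) s).symm with
        map_add' := fun x y => rfl
        map_smul' := fun c x => rfl } : (K × K) ≃ₗ[F] A),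
      Module.finrank_prod, Nat.cast_add, CharTwo.add_self_eq_zero]
  · -- the sign
    haveI := Fintype.ofFinite V
    set X := {x : V // Q x = 1}
    set π : Equiv.Perm X := levelPerm Q 1 h
    have hπ : ∀ x : X, (π x).1 = ext a x.1 := fun x => rfl
    let p₀ : X → Prop := fun x => x.1 - χ (P x.1) = 0
    have hp₀ : ∀ x, p₀ (π x) ↔ p₀ x := fun x => by
      show _ - _ = 0 ↔ _
      rw [hπ, hzext]
    have key : levelSign Q 1 h = Equiv.Perm.sign π := by
      unfold levelSign
      simp only [MonoidHom.comp_apply]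
      congr <;> exact Subsingleton.elim _ _
    rw [key, sign_split π p₀ hp₀]
    have h1 : Equiv.Perm.sign (π.subtypePerm (p := fun x => ¬ p₀ x) fun x => not_congr (hp₀ x)) = 1 := by
      let ρ : {x : X // ¬ p₀ x} → {x : X // ¬ p₀ x} := fun x =>
        ⟨⟨χ (P x.1.1) - (x.1.1 - χ (P x.1.1)), by
          have e : P (χ (P x.1.1) - (x.1.1 - χ (P x.1.1))) = P x.1.1 := by
            simp only [map_sub, hPχ]; abel
          rw [hdec, e, sub_sub_cancel_left, QuadraticMap.map_neg, ← hdec]
          exact x.1.2⟩, by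
          intro hx
          apply x.2
          simp only [p₀, map_sub, hPχ, sub_self, sub_zero, sub_sub_cancel_left, neg_eq_zero] at hx ⊢
          exact hx⟩
      let o := Fintype.equivFin V
      let z : {x : X // ¬ p₀ x} → V := fun x => x.1.1 - χ (P x.1.1)
      have hzρ : ∀ x, z (ρ x) = -z x := fun x => by
        simp only [z, ρ, map_sub, hPχ, sub_self, sub_zero]; abel
      refine sign_eq_one_of_swap _ (fun x => o (z x) < o (-z x)) (fun x => ?_) ρ (fun x => ?_) (fun x => ?_)
        (fun x => ?_)
      · rw [show z (Equiv.Perm.subtypePerm π (fun x => not_congr (hp₀ x)) x) = z x from hzext a x.1.1]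
      · refine Subtype.ext (Subtype.ext ?_)
        simp only [ρ, map_sub, hPχ, sub_self, sub_zero]
        abel
      · refine Subtype.ext (Subtype.ext ?_)
        show ext a _ = χ (P (ext a x.1.1)) - (ext a x.1.1 - χ (P (ext a x.1.1)))
        rw [hzext, hPext, hext]
        simp only [ρ, map_sub, hPχ, sub_self, sub_zero]
        abel
      · rw [hzρ, neg_neg, not_lt]
        refine ⟨le_of_lt, fun hle => lt_of_le_of_ne hle fun he => ?_⟩
        have h5 : (2 : F) • z x = 0 := by
          have := o.injective he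
          rw [two_smul]; nth_rewrite 1 [← this]; exact neg_add_cancel _
        exact x.2 ((smul_eq_zero.1 h5).resolve_left h2)
    rw [h1, mul_one]
    -- the part inside the block
    let Y := {y : K // lam y = 2}
    haveI : Fintype Y := Fintype.ofFinite Y
    haveI : Fintype K := Fintype.ofFinite K
    have hex : ∀ y : Y, ∃ w : A, QuadraticAlgebra.norm w = y.1 := by
      intro y
      have h4 : (4 : K) - s * s ≠ 0 := by
        rw [show (4 : K) - s * s = (2 - s) * (2 + s) by ring]
        exact mul_ne_zero (sub_ne_zero.2 hs2.symm) fun h => hs2' (eq_neg_of_add_eq_zero_right h)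
      obtain ⟨x, z, hxz⟩ := Forms.exists_sq_add_sq h2K (one_ne_zero (α := K)) h4 y.1
      refine ⟨⟨x - s * z, 2 * z⟩, ?_⟩
      rw [QuadraticAlgebra.norm_def, ← hxz]
      ring
    choose w hw using hex
    have hy0 : ∀ y : Y, y.1 ≠ 0 := fun y h => h2 (by rw [← y.2, h, map_zero])
    let Θ : Y × U → {x : X // p₀ x} := fun yc => ⟨⟨χ ((yc.2.1 : A) * w yc.1), by
      apply mul_left_cancel₀ h2
      rw [hQχ, hnm, hw, yc.1.2, mul_one]⟩, by
      show _ - χ (P _) = 0
      rw [hPχ, sub_self]⟩
    have hΘ : Function.Bijective Θ := by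
      refine ⟨?_, fun x => ?_⟩
      · rintro ⟨y, c⟩ ⟨y', c'⟩ hh
        have h1 := hχi (congrArg (fun z : {x : X // p₀ x} => z.1.1) hh)
        have h2' := congrArg QuadraticAlgebra.norm h1
        rw [hnm, hnm, hw, hw] at h2'
        obtain rfl : y = y' := Subtype.ext h2'
        have hu' : IsUnit (w y) :=
          QuadraticAlgebra.isUnit_iff_norm_isUnit.2 (isUnit_iff_ne_zero.2 (hw y ▸ hy0 y))
        exact Prod.ext rfl (Subtype.ext (Units.ext (hu'.mul_left_injective h1)))
      · have hx : χ (P x.1.1) = x.1.1 := (sub_eq_zero.1 x.2).symm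
        set y : Y := ⟨QuadraticAlgebra.norm (P x.1.1), by rw [← hQχ, hx, x.1.2, mul_one]⟩
        obtain ⟨wu, hwu⟩ : IsUnit (w y) :=
          QuadraticAlgebra.isUnit_iff_norm_isUnit.2 (isUnit_iff_ne_zero.2 (hw y ▸ hy0 y))
        obtain ⟨xu, hxu⟩ : IsUnit (P x.1.1) :=
          QuadraticAlgebra.isUnit_iff_norm_isUnit.2 (isUnit_iff_ne_zero.2 (hy0 y))
        refine ⟨(y, ⟨xu * wu⁻¹, ?_⟩), Subtype.ext (Subtype.ext ?_)⟩
        · rw [MonoidHom.mem_ker, map_mul, map_inv, mul_inv_eq_one]
          exact Units.ext (by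
            show QuadraticAlgebra.norm (xu : A) = QuadraticAlgebra.norm (wu : A)
            rw [hxu, hwu, hw])
        · show χ (((xu * wu⁻¹ : Aˣ) : A) * w y) = x.1.1
          rw [← hwu, ← Units.val_mul, inv_mul_cancel_right, hxu, hx]
    rw [← Equiv.Perm.sign_eq_sign_of_equiv (Equiv.prodCongrRight fun _ : Y => Equiv.mulLeft a) _
      (Equiv.ofBijective Θ hΘ) (fun yc => Subtype.ext (Subtype.ext (by
        show χ (((a * yc.2).1 : A) * w yc.1) = ext a (χ ((yc.2.1 : A) * w yc.1))
        rw [hext, hPχ, Subgroup.coe_mul, Units.val_mul, mul_assoc]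
        abel)))]
    rw [Equiv.Perm.sign_prodCongrRight, Finset.prod_const, sign_mulLeft_generator a hagen hUeven,
      Finset.card_univ]
    -- oddness
    obtain ⟨y₀, hy₀⟩ : ∃ y₀ : K, lam y₀ = 2 :=
      ⟨(2 / lam 1) • 1, by rw [map_smul, smul_eq_mul, div_mul_cancel₀ _ hlam1]⟩
    let eY : Y ≃ LinearMap.ker lam :=
      { toFun := fun y => ⟨y.1 - y₀, by rw [LinearMap.mem_ker, map_sub, y.2, hy₀, sub_self]⟩
        invFun := fun z => ⟨z.1 + y₀, by rw [map_add, LinearMap.mem_ker.1 z.2, zero_add, hy₀]⟩
        left_inv := fun y => Subtype.ext (sub_add_cancel _ _)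
        right_inv := fun z => Subtype.ext (add_sub_cancel_right _ _) }
    have hoddY : Odd (Fintype.card Y) := by
      rw [Fintype.card_eq_nat_card, Nat.card_congr eY, Module.natCard_eq_pow_finrank (K := F),
        Nat.card_eq_fintype_card]
      exact (Nat.odd_iff.2 (FiniteField.odd_card_of_char_ne_two fun h => h2 (by
        have := ringChar.Nat.cast_ringChar (R := F)
        rw [h] at this; exact_mod_cast this))).pow
    exact hoddY.neg_one_pow
  · intro x
    have hPt : ∀ v, χ ((a.1 : A) * P (t v)) = t (χ ((a.1 : A) * P v)) ∧ χ (P (t v)) = t (χ (P v)) := by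
      have hχω : ∀ w : A, χ (QuadraticAlgebra.omega * w) = t (χ w) := fun w => by
        obtain ⟨x', y'⟩ := w
        obtain ⟨f, rfl⟩ := AdjoinRoot.mk_surjective y'
        rw [QuadraticAlgebra.omega_mul_mk]
        simp only [χ]
        rw [show ((-1 : K) * AdjoinRoot.mk g f) = AdjoinRoot.mk g (-f) by rw [map_neg]; ring,
          show s * AdjoinRoot.mk g f = AdjoinRoot.mk g (X * f) from (map_mul _ _ _).symm,
          map_add ψ, hψ, hψ, hψ]
        simp only [map_neg, map_add, map_mul, aeval_X, Module.End.mul_apply, LinearMap.neg_apply]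
        have : t (S (aeval S f u)) = t (t (aeval S f u)) + aeval S f u := by
          rw [hS, LinearMap.add_apply, map_add, ht'x]
        rw [this]
        abel
      intro v
      have hPtv : P (t v) = QuadraticAlgebra.omega * P v := by
        refine hPuniq _ _ fun x' => ?_
        have hsurj : ∃ x'', QuadraticAlgebra.omega * x'' = x' := by
          refine ⟨(algebraMap K A s - QuadraticAlgebra.omega) * x', ?_⟩
          rw [← mul_assoc, mul_sub, QuadraticAlgebra.omega_mul_omega_eq_algebraMap]
          rw [map_neg, map_one, mul_comm (QuadraticAlgebra.omega : A) (algebraMap K A s)]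
          ring
        obtain ⟨x'', rfl⟩ := hsurj
        rw [hχω, hχω, htB, hP, htB]
      refine ⟨?_, by rw [hPtv, hχω]⟩
      rw [hPtv, mul_left_comm, hχω]
    show ext a (t x) = t (ext a x)
    rw [hext, hext, (hPt x).1, (hPt x).2]
    generalize χ ((a.1 : A) * P x) = c₁
    generalize χ (P x) = c₂
    rw [map_add, map_sub]

end Cfsg.Agent.Lib.GraphClasses.SemisimpleSpin
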