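import Cfsg.Agent.Lib.GraphClasses.Orth
import Cfsg.Agent.Lib.GraphClasses.Alt
import Cfsg.Agent.Lib.GraphClasses.SemisimpleSpin
import Cfsg.Agent.Lib.SemisimpleConj

/-!
Semisimple elements of odd prime order of an even-dimensional orthogonal group: the classes under the
inner-diagonal group are classes under the simple group.
-/

set_option autoImplicit false
set_option linter.unusedSectionVars false

namespace Cfsg.Agent.Lib.GraphClasses.SemisimpleOrth

open Module QuadraticMap Cfsg.Agent.Lib.Forms Cfsg.Agent.Lib.OrthStd Cfsg.Agent.Lib.OrthOmega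
open Cfsg.Agent.Lib.OrthField
open scoped Matrix

variable {F : Type*} [Field F] [Finite F]

/-- The determinant of a similitude of an alternating form. -/
theorem det_symp_sim {ι : Type} [Fintype ι] [DecidableEq ι] {M : ℕ} (hι : Fintype.card ι = 2 * M)
    {B : (ι → F) →ₗ[F] (ι → F) →ₗ[F] F} (hB : Symplectic.IsSympForm B) {b : (ι → F) →ₗ[F] (ι → F)}
    (c : Fˣ) (hb : ∀ x y, B (b x) (b y) = (c : F) * B x y) : LinearMap.det b = (c : F) ^ M := by
  obtain ⟨e, he⟩ := Symplectic.exists_isometry (Symplectic.isSympForm_stdForm M F) hB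
    (by rw [Symplectic.finrank_std, Module.finrank_pi, hι])
  set b' : (Fin M ⊕ Fin M → F) →ₗ[F] (Fin M ⊕ Fin M → F) :=
    e.symm.toLinearMap.comp (b.comp e.toLinearMap) with hb'
  have h : ∀ x y, Symplectic.stdForm M F (b' x) (b' y) = (c : F) * Symplectic.stdForm M F x y := by
    intro x y
    rw [← he, ← he x y, ← hb]
    simp [b']
  set A := LinearMap.toMatrix' b' with hA
  have hinj : Function.Injective b' := (injective_iff_map_eq_zero b').2 fun x hx =>
    (Symplectic.isSympForm_stdForm M F).nondeg x fun y => by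
      have := h x y
      rw [hx, map_zero, LinearMap.zero_apply] at this
      exact (mul_eq_zero.1 this.symm).resolve_left c.ne_zero
  have hdet : IsUnit A.det := by
    rw [hA, LinearMap.det_toMatrix']
    exact (LinearMap.isUnit_iff_isUnit_det b').1
      ((Module.End.isUnit_iff b').2 ⟨hinj, LinearMap.injective_iff_surjective.1 hinj⟩)
  have heq : Aᵀ * Matrix.J (Fin M) F * A = (c : F) • Matrix.J (Fin M) F := by
    refine Matrix.ext fun i j => ?_
    have h' := h (Pi.single i 1) (Pi.single j 1)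
    rw [← LinearMap.toMatrix'_mulVec, ← LinearMap.toMatrix'_mulVec, ← hA, Symplectic.mulVec_form,
      Symplectic.stdForm_eq_dot] at h'
    simpa [Matrix.mulVec_single_one, single_one_dotProduct] using h'
  have h2 := det_simB_J (g := Matrix.GeneralLinearGroup.mk'' A hdet) heq
  rw [← LinearMap.det_conj b e.symm]
  show LinearMap.det b' = _
  rw [← LinearMap.det_toMatrix', ← hA]
  exact h2

/-- A non-degenerate symmetric form in even dimension has similitudes of every multiplier. -/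
theorem exists_sim_even {W : Type*} [AddCommGroup W] [Module F W] [FiniteDimensional F W]
    (h2 : (2 : F) ≠ 0) (B : W →ₗ[F] W →ₗ[F] F) (hs : ∀ x y, B x y = B y x)
    (hnd : ∀ x, (∀ y, B x y = 0) → x = 0) (heven : Even (finrank F W)) (ν : F) :
    ∃ b : Module.End F W, ∀ x y, B (b x) (b y) = ν * B x y := by
  haveI : Invertible (2 : F) := invertibleOfNonzero h2
  obtain ⟨v, hv⟩ := LinearMap.BilinForm.exists_orthogonal_basis (B := B) ⟨fun x y => by simpa using hs x y⟩
  obtain ⟨l, hl⟩ := heven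
  let v' : Basis (Fin l × Fin 2) F W :=
    v.reindex ((finCongr (show finrank F W = l * 2 by omega)).trans finProdFinEquiv.symm)
  have hv' : ∀ i j, i ≠ j → B (v' i) (v' j) = 0 := fun i j h => by
    simp only [v', Basis.reindex_apply]
    exact hv (fun e => h (Equiv.injective _ e))
  have hdiag : ∀ i, B (v' i) (v' i) ≠ 0 := fun i h => by
    refine v'.ne_zero i (hnd _ fun y => ?_)
    have : B (v' i) = 0 := v'.ext fun j => by
      rcases eq_or_ne i j with rfl | hij
      · exact h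
      · exact hv' i j hij
    rw [this, LinearMap.zero_apply]
  have hex : ∀ i : Fin l, ∃ a c : F,
      B (v' (i, 0)) (v' (i, 0)) * a ^ 2 + B (v' (i, 1)) (v' (i, 1)) * c ^ 2 = ν * B (v' (i, 0)) (v' (i, 0)) :=
    fun i => by
      obtain ⟨a, c, h⟩ := Forms.exists_sq_add_sq h2 (hdiag (i, 0)) (hdiag (i, 1)) (ν * B (v' (i, 0)) (v' (i, 0)))
      exact ⟨a, c, by linear_combination h⟩
  choose a c hac using hex
  set w : Fin l × Fin 2 → W := fun p => if p.2 = 0 then a p.1 • v' (p.1, 0) + c p.1 • v' (p.1, 1) else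
    (-(c p.1 * B (v' (p.1, 1)) (v' (p.1, 1)) / B (v' (p.1, 0)) (v' (p.1, 0)))) • v' (p.1, 0) + a p.1 • v' (p.1, 1)
    with hw
  refine ⟨v'.constr F w, fun x y => ?_⟩
  suffices h : B.compl₁₂ (v'.constr F w) (v'.constr F w) = ν • B from LinearMap.congr_fun₂ h x y
  refine v'.ext fun i => v'.ext fun j => ?_
  rw [LinearMap.compl₁₂_apply, Basis.constr_basis, Basis.constr_basis, LinearMap.smul_apply,
    LinearMap.smul_apply, smul_eq_mul]
  obtain ⟨i, e⟩ := i
  obtain ⟨j, e'⟩ := j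
  have h00 := hdiag (i, 0)
  by_cases hij : i = j
  · subst hij
    have h01 := hv' (i, 0) (i, 1) (by simp)
    have h10 := hv' (i, 1) (i, 0) (by simp)
    fin_cases e <;> fin_cases e' <;>
      simp [hw, h01, h10, -neg_smul] <;> field_simp <;>
      (first
        | ring1
        | linear_combination hac i
        | linear_combination (B (v' (i, 1)) (v' (i, 1))) * hac i)
  · have hne : ∀ e e' : Fin 2, B (v' (i, e)) (v' (j, e')) = 0 := fun e e' => hv' _ _ (by simp [hij])
    fin_cases e <;> fin_cases e' <;> simp [hw, hne]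

variable {ι : Type} [Fintype ι] [DecidableEq ι] {f : (ι → F) → F} (D : OF f) {M : ℕ}
  (hk : Fintype.card ι = 2 * M)

/-- A rotation similitude of any multiplier commuting with an isometry of odd order. -/
theorem exists_sim_comm (h2 : (2 : F) ≠ 0) (o : orth D.Q) {r : ℕ} (hodd : Odd r) (hr : (r : F) ≠ 0)
    (ho : o ^ r = 1) (ν : Fˣ) : ∃ k : GS f, k ∈ D.rot hk ∧ D.mult k = ν ∧ Commute k (D.iso o) := by
  classical
  set B := polarBilin D.Q with hB
  have hnd : ∀ y, (∀ x, B x y = 0) → y = 0 := fun y h => D.nd y fun x => by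
    rw [polar_comm]; exact h x
  set T : Module.End F (ι → F) := o.1.toLinearMap with hT
  have hTB : ∀ x y, B (T x) (T y) = B x y := fun x y => orth_polar o.2 x y
  have hTr : T ^ r = 1 := by
    refine LinearMap.ext fun x => ?_
    have key : ∀ k : ℕ, ∀ x, (T ^ k) x = (o ^ k).1 x := by
      intro k
      induction k with
      | zero => intro x; rfl
      | succ k ih => intro x; rw [pow_succ', pow_succ', Module.End.mul_apply, ih]; rfl
    rw [key, ho]; rfl
  have hν : (ν : F) ≠ 0 := ν.ne_zero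
  have hS : SemisimpleConj.Setup B T ((ν : F) • (1 : Module.End F (ι → F))) r :=
    ⟨hnd, fun x y h => ((polar_comm (⇑D.Q) y x).trans h : B y x = 0), hTB, hTr, hr,
      ((Commute.one_left T).smul_left _), fun x y => by simp,
      fun x y h => smul_right_injective _ hν h⟩
  have hc := SemisimpleConj.isCompl_fixed hTr hr
  set V₀ := LinearMap.ker (T - 1) with hV₀
  set V₁ := LinearMap.range (T - 1) with hV₁
  have hperp : ∀ w ∈ V₀, ∀ u ∈ V₁, B w u = 0 := fun w hw u hu =>
    SemisimpleConj.perp_fixed_image hTB hw hu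
  have hnd₀ : ∀ x : V₀, (∀ y : V₀, B x.1 y.1 = 0) → x = 0 := fun x hx => Subtype.ext (D.nd x.1 fun v => by
    obtain ⟨w, hw, u, hu, rfl⟩ := Submodule.mem_sup.1 (hc.sup_eq_top ▸ Submodule.mem_top : v ∈ V₀ ⊔ V₁)
    show B x.1 (w + u) = 0
    rw [map_add, hperp _ x.2 _ hu, add_zero]
    exact hx ⟨w, hw⟩)
  have hnd₁ : ∀ y ∈ V₁, (∀ u ∈ V₁, B y u = 0) → y = 0 := fun y hy h => D.nd y fun v => by
    obtain ⟨w, hw, u, hu, rfl⟩ := Submodule.mem_sup.1 (hc.sup_eq_top ▸ Submodule.mem_top : v ∈ V₀ ⊔ V₁)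
    show B y (w + u) = 0
    rw [map_add, h u hu, add_zero]
    exact (polar_comm (⇑D.Q) y w).trans (hperp w hw y hy)
  -- the alternating form
  set T' := T ^ (r - 1) with hT'
  have hTT' : ∀ x, T (T' x) = x := fun x => by
    rw [← Module.End.mul_apply, hT', ← pow_succ', Nat.sub_add_cancel hodd.pos, hTr]; rfl
  set Bs : (ι → F) →ₗ[F] (ι → F) →ₗ[F] F := B.compl₂ (T - T') with hSg
  have hSga : ∀ x y, Bs x y = B x (T y) - B x (T' y) := fun x y => by simp [hSg, map_sub]
  have hSgself : ∀ x, Bs x x = 0 := fun x => by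
    have e : B x (T' x) = B (T x) x := by
      conv_rhs => rw [← hTT' x]
      rw [← hTB x (T' x), hTT']
    rw [hSga, e, sub_eq_zero]
    exact polar_comm _ _ _
  have hSgnd : ∀ y, (∀ x, Bs x y = 0) → T y = y := fun y h => by
    have h1 : T y = T' y := sub_eq_zero.1 (hnd _ fun x => by rw [map_sub, ← hSga]; exact h x)
    have h2' : T (T y) = y := by rw [h1, hTT']
    have hk : ∀ i : ℕ, (T ^ (2 * i)) y = y := by
      intro i
      induction i with
      | zero => rfl
      | succ i ih => rw [Nat.mul_succ, add_comm, pow_add, Module.End.mul_apply, ih, pow_two]; exact h2'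
    obtain ⟨i, hi⟩ := hodd
    have := LinearMap.congr_fun hTr y
    rw [hi, pow_succ', Module.End.mul_apply, hk] at this
    exact this
  have hSg₁ : Symplectic.IsSympForm (Bs.compl₁₂ V₁.subtype V₁.subtype) := by
    refine ⟨fun x => hSgself x.1, fun x hx => ?_⟩
    have hfix : T x.1 = x.1 := hSgnd _ fun v => by
      obtain ⟨w, hw, u, hu, rfl⟩ := Submodule.mem_sup.1 (hc.sup_eq_top ▸ Submodule.mem_top : v ∈ V₀ ⊔ V₁)
      have h1 : Bs u x.1 = 0 := by
        have hneg : Bs u x.1 + Bs x.1 u = 0 := by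
          have := hSgself (u + x.1)
          simpa [hSgself] using this
        have hx' : Bs x.1 u = 0 := hx ⟨u, hu⟩
        rwa [hx', add_zero] at hneg
      have h2' : Bs w x.1 = 0 := by
        rw [hSga, hperp w hw _ (SemisimpleConj.invariant_range (Commute.refl T) _ x.2),
          hperp w hw _ (SemisimpleConj.invariant_range ((Commute.refl T).pow_left _) _ x.2), sub_zero]
      rw [map_add, LinearMap.add_apply, h1, h2', add_zero]
    exact Subtype.ext (Submodule.disjoint_def.1 hc.disjoint _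
      (LinearMap.mem_ker.2 (by rw [LinearMap.sub_apply, Module.End.one_apply, hfix, sub_self])) x.2)
  have heven : Even (finrank F V₀) := by
    have h1 := Submodule.finrank_add_eq_of_isCompl hc
    rw [Module.finrank_pi, hk] at h1
    obtain ⟨i, hi⟩ := Symplectic.even_finrank hSg₁
    exact ⟨M - i, by omega⟩
  obtain ⟨b, hbT, hb⟩ := SemisimpleConj.glue hS hTB hTr (Commute.refl T) ((Commute.one_left T).smul_left _)
    (by
      obtain ⟨b₀, hb₀⟩ := exists_sim_even h2 (B.compl₁₂ V₀.subtype V₀.subtype)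
        (fun x y => polar_comm _ _ _) hnd₀ heven (ν : F)
      refine ⟨b₀, LinearMap.ext fun x => ?_, fun x y => (hb₀ x y).trans (by simp)⟩
      have hfix : ∀ z : V₀, T.restrict (SemisimpleConj.invariant_ker (Commute.refl T)) z = z := fun z =>
        Subtype.ext (sub_eq_zero.1 (LinearMap.mem_ker.1 z.2))
      rw [Module.End.mul_apply, Module.End.mul_apply, hfix, hfix])
    (by
      have hS₁ := hS.restrict hc.symm
        (fun w hw u hu => (polar_comm (⇑D.Q) w u).trans (hperp u hu w hw))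
        (SemisimpleConj.invariant_range (Commute.refl T))
        (SemisimpleConj.invariant_range ((Commute.one_left T).smul_left (ν : F)))
      obtain ⟨b₁, h1, h1'⟩ := SemisimpleConj.exists_of_no_fixed hS₁ fun x hx => Subtype.ext
        (SemisimpleConj.no_fixed_sq_range hTr hr hodd x.1 x.2 (congrArg Subtype.val hx))
      exact ⟨b₁, h1, h1'⟩)
  have hbν : ∀ x y, B (b x) (b y) = (ν : F) * B x y := fun x y => by rw [hb]; simp
  have hQb : ∀ x, D.Q (b x) = (ν : F) * D.Q x := fun x => by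
    apply mul_left_cancel₀ h2
    have := hbν x x
    rw [show B (b x) (b x) = 2 * D.Q (b x) from polar_self' _ _,
      show B x x = 2 * D.Q x from polar_self' _ _] at this
    rw [this]; ring
  have hbinj : Function.Injective b := (injective_iff_map_eq_zero b).2 fun x hx => D.nd x fun y => by
    have := hbν x y
    rw [hx, map_zero, LinearMap.zero_apply] at this
    exact (mul_eq_zero.1 this.symm).resolve_left hν
  have hbdet : IsUnit (LinearMap.toMatrix' b).det := by
    rw [LinearMap.det_toMatrix']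
    exact (LinearMap.isUnit_iff_isUnit_det b).1
      ((Module.End.isUnit_iff b).2 ⟨hbinj, LinearMap.injective_iff_surjective.1 hbinj⟩)
  set G : GL ι F := Matrix.GeneralLinearGroup.mk'' (LinearMap.toMatrix' b) hbdet
  have hG : ∀ v, f ((G : Matrix ι ι F) *ᵥ v) = (ν : F) * f v := fun v => by
    rw [show (G : Matrix ι ι F) *ᵥ v = b v from LinearMap.toMatrix'_mulVec b v, D.hf, D.hf, hQb]
  set k : GS f := ⟨G, ⟨ν, hG⟩⟩
  have hkν : D.mult k = ν := D.mult_eq hG
  have hkT : Commute k (D.iso o) := D.ext_mulVec fun v => by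
    show ((G : Matrix ι ι F) * ((D.iso o).1 : Matrix ι ι F)) *ᵥ v =
      (((D.iso o).1 : Matrix ι ι F) * (G : Matrix ι ι F)) *ᵥ v
    rw [← Matrix.mulVec_mulVec, ← Matrix.mulVec_mulVec, D.iso_apply, D.iso_apply,
      show (G : Matrix ι ι F) *ᵥ o.1 v = b (o.1 v) from LinearMap.toMatrix'_mulVec b _,
      show (G : Matrix ι ι F) *ᵥ v = b v from LinearMap.toMatrix'_mulVec b v]
    exact LinearMap.congr_fun hbT.eq v
  by_cases hchi : D.chi hk k = 1
  · exact ⟨k, hchi, hkν, hkT⟩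
  by_cases hbot : V₀ = ⊥
  · exfalso
    apply hchi
    rw [D.chi_odd hk h2, hkν]
    show (LinearMap.toMatrix' b).det = _
    rw [LinearMap.det_toMatrix']
    refine det_symp_sim hk (B := Bs) ⟨hSgself, fun x hx => ?_⟩ ν fun x y => ?_
    · have hfix : T x = x := hSgnd x fun y => by
        have := hSgself (y + x)
        simpa [hSgself, hx y] using this
      have : x ∈ V₀ := LinearMap.mem_ker.2 (by rw [LinearMap.sub_apply, Module.End.one_apply, hfix, sub_self])
      rwa [hbot, Submodule.mem_bot] at this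
    · rw [hSga, hSga, ← Module.End.mul_apply T b, ← hbT.eq, Module.End.mul_apply, ← Module.End.mul_apply T' b,
        ← (hbT.pow_right (r - 1)).eq, Module.End.mul_apply, hbν, hbν]
      ring
  · obtain ⟨v, hv, hQv⟩ : ∃ v ∈ V₀, D.Q v ≠ 0 := by
      by_contra hno
      push Not at hno
      refine hbot ((Submodule.eq_bot_iff _).2 fun x hx => congrArg Subtype.val (hnd₀ ⟨x, hx⟩ fun y => ?_))
      show polar D.Q x y.1 = 0
      rw [polar, hno _ (V₀.add_mem hx y.2), hno x hx, hno _ y.2]; simp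
    have hov : o.1 v = v := sub_eq_zero.1 (LinearMap.mem_ker.1 hv)
    refine ⟨k * D.iso (orefl D.Q v), ?_, by rw [map_mul, D.mult_iso, mul_one, hkν], ?_⟩
    · rw [D.mem_rot, map_mul, D.chi_iso, dicksonHom_orefl D.nd D.hne4 hQv,
        (mult_zmod2_cases (D.chi hk k)).resolve_left hchi]
      rfl
    · refine hkT.mul_left (Commute.map ?_ D.iso)
      refine orth_ext fun x => ?_
      show refl D.Q v (o.1 x) = o.1 (refl D.Q v x)
      have hp : polar D.Q v (o.1 x) = polar D.Q v x := by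
        conv_lhs => rw [← hov]
        exact orth_polar o.2 v x
      rw [refl_apply, refl_apply, hp, map_sub, map_smul, hov]

/-- The inner-diagonal classes of a semisimple element of odd prime order. -/
theorem conj_rot (h2 : (2 : F) ≠ 0) [(Cfsg.Inn (Cfsg.POmega F f)).Normal] {r : ℕ} (hr : r.Prime)
    (hodd : Odd r) (hr0 : (r : F) ≠ 0) (g : GS f) (hxr : orderOf (D.conjQ g) = r) {k : GS f}
    (hk' : k ∈ D.rot hk) : ∃ t ∈ Cfsg.Inn (Cfsg.POmega F f),
      D.conjQ k * D.conjQ g * (D.conjQ k)⁻¹ = t * D.conjQ g * t⁻¹ := by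
  classical
  obtain ⟨o, hor, hog⟩ : ∃ o : orth D.Q, o ^ r = 1 ∧ D.conjQ g = D.conjQ (D.iso o) := by
    obtain ⟨z, hz⟩ := D.conjQ_eq_one_iff.1 (show D.conjQ (g ^ r) = 1 by rw [map_pow, ← hxr, pow_orderOf_eq_one])
    obtain ⟨i, hi⟩ := hodd
    have hμ : D.mult g ^ r = z * z := by rw [← map_pow, hz, D.mult_scal]
    set u : Fˣ := z / D.mult g ^ i
    have hu : D.mult g = u * u := by
      rw [div_mul_div_comm, ← pow_add, eq_div_iff_mul_eq', ← pow_succ', ← two_mul, ← hi, hμ]
    obtain ⟨o, ho⟩ := D.exists_scal_iso hu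
    have hor : D.iso o ^ r = D.scal (u⁻¹ ^ r * z) := by
      rw [map_mul, map_pow, map_inv, ← hz, ho, (D.scal_comm u (D.iso o)).mul_pow, inv_pow,
        inv_mul_cancel_left]
    set z' := u⁻¹ ^ r * z
    have hz' : z' * z' = 1 := by
      rw [← D.mult_scal, ← hor, map_pow, D.mult_iso, one_pow]
    obtain ⟨o', ho'⟩ := D.exists_iso (g := D.scal z' * D.iso o) (by rw [map_mul, D.mult_scal, D.mult_iso, hz', one_mul])
    refine ⟨o', D.iso_injective ?_, ?_⟩
    · rw [map_pow, ho', (D.scal_comm z' (D.iso o)).mul_pow, hor, ← map_pow, ← map_mul, map_one,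
        show z' ^ r * z' = 1 by rw [← pow_succ, hi, show 2 * i + 1 + 1 = 2 * (i + 1) by ring, pow_mul, pow_two, hz', one_pow],
        map_one]
    · rw [ho', ho, map_mul, map_mul, D.conjQ_scal, D.conjQ_scal]
  have ho1 : o ≠ 1 := fun h => hr.ne_one (by rw [← hxr, hog, h, map_one, map_one, orderOf_one])
  rw [hog]
  set x := D.conjQ (D.iso o)
  set H := (D.rot hk).map D.conjQ
  set S := Cfsg.Inn (Cfsg.POmega F f) ⊔ H ⊓ Subgroup.centralizer {x}
  set L := S.comap D.conjQ
  obtain ⟨o₁, ho₁, hs₁, hc₁⟩ := SemisimpleSpin.exists_comm_odd D.nd h2 o hodd hr0 hor ho1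
  have hs₁' : D.spin h2 o₁ = -1 := by
    have e : dicksonHom D.nd (Or.inl (exists_ne01 h2)) o₁ = 1 := congrArg Multiplicative.ofAdd ho₁
    rw [OF.spin, Orth52.spinHom, MonoidHom.mul_apply, MonoidHom.comp_apply, e, map_one, mul_one, hs₁]
  have hO : ∀ p, dickson D.Q p = 0 → D.spin h2 p = 1 → D.iso p ∈ L := fun p hp hs =>
    show D.conjQ (D.iso p) ∈ S from Subgroup.mem_sup_left
      (by rw [D.inn_eq_map]; exact ⟨_, ⟨p, (D.mem_commutator h2 p).2 ⟨hp, hs⟩, rfl⟩, rfl⟩)
  have hcen : ∀ c ∈ D.rot hk, Commute c (D.iso o) → c ∈ L := fun c hcr hc =>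
    show D.conjQ c ∈ S from Subgroup.mem_sup_right ⟨⟨_, hcr, rfl⟩,
      Subgroup.mem_centralizer_singleton_iff.2 (hc.map D.conjQ).eq⟩
  have h1L : D.iso o₁ ∈ L :=
    hcen _ ((D.iso_mem_rot hk).2 ho₁) ((show Commute o₁ o from orth_ext hc₁).map D.iso)
  have hsqL : ∀ k ∈ D.rot hk, IsSquare (D.mult k : F) → k ∈ L := by
    intro k hkr ⟨t, ht⟩
    have ht0 : t ≠ 0 := fun h => (D.mult k).ne_zero (by rw [ht, h, mul_zero])
    obtain ⟨p, rfl⟩ := D.exists_scal_iso (g := k) (z := Units.mk0 t ht0) (Units.ext ht)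
    have hp : dickson D.Q p = 0 := (D.iso_mem_rot hk).1 (by
      have := mul_mem (inv_mem (D.scal_mem_rot hk (Units.mk0 t ht0))) hkr
      rwa [inv_mul_cancel_left] at this)
    refine mul_mem (show D.conjQ (D.scal _) ∈ S by rw [D.conjQ_scal]; exact one_mem S) ?_
    by_cases hs : D.spin h2 p = 1
    · exact hO p hp hs
    · rw [← mul_inv_cancel_right p o₁, map_mul, map_inv]
      refine mul_mem (hO _ (by rw [D.dickson_mul', hp, ho₁, add_zero]) ?_) (inv_mem h1L)
      rw [map_mul, (Int.units_eq_one_or _).resolve_left hs, hs₁']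
      rfl
  have hkL : k ∈ L := by
    by_cases hsq : IsSquare (D.mult k : F)
    · exact hsqL k hk' hsq
    · obtain ⟨c, hcr, hcm, hcc⟩ := exists_sim_comm D hk h2 o hodd hr0 hor (D.mult k)
      rw [← mul_inv_cancel_right k c]
      refine mul_mem (hsqL _ (mul_mem hk' hcr) ?_) (inv_mem (hcen c hcr hcc))
      rw [map_mul, hcm, Units.val_mul]
      exact ⟨_, rfl⟩
  have hmem : D.conjQ k ∈ S := hkL
  obtain ⟨t, ht, c, ⟨-, hc⟩, he⟩ := Subgroup.mem_sup_of_normal_left.1 hmem
  refine ⟨t, ht, ?_⟩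
  have hcx := Subgroup.mem_centralizer_singleton_iff.1 hc
  rw [← he, _root_.mul_inv_rev]
  rw [mul_assoc t c x, hcx]
  group

/-- The three class equalities. -/
theorem classes (h2 : (2 : F) ≠ 0) [(Cfsg.Inn (Cfsg.POmega F f)).Normal] {H : Subgroup (MulAut (Cfsg.POmega F f))}
    (hH : H = (D.rot hk).map D.conjQ) {x : MulAut (Cfsg.POmega F f)} (hx : x ∈ Cfsg.pgoAut F f) {r : ℕ}
    (hr : r.Prime) (hodd : Odd r) (hr0 : (r : F) ≠ 0) (hxr : orderOf x = r) :
    (∀ y, (Cfsg.IsConjUnder (Cfsg.Inn (Cfsg.POmega F f)) x y ↔ Cfsg.IsConjUnder H x y) ∧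
      (Cfsg.IsConjUnder (Cfsg.psoAut F f) x y ↔ Cfsg.IsConjUnder H x y)) ∧
    (∀ y, Cfsg.IsConjUnder (Cfsg.poAut F f) x y ↔ Cfsg.IsConjUnder (Cfsg.pgoAut F f) x y) := by
  have hpgo : Cfsg.pgoAut F f ≤ D.conjQ.range := (Subgroup.closure_le _).2 fun β hβ => by
    obtain ⟨g, rfl⟩ := (D.similarityInduced_iff β).1 hβ
    exact ⟨g, rfl⟩
  obtain ⟨g, rfl⟩ := hpgo hx
  have key := fun {k : GS f} (hk' : k ∈ D.rot hk) => conj_rot D hk h2 hr hodd hr0 g hxr hk'
  have hOmega : ∀ p : orth D.Q, ((D.iso p).1 : GL ι F) ∈ Cfsg.isometryGroup F f := fun p u v => by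
    show f (_ *ᵥ u) = f u
    rw [Units.coeHom_apply, D.iso_apply, D.hf, D.hf]
    exact p.2 u
  have hpso_le : Cfsg.psoAut F f ≤ H := (Subgroup.closure_le _).2 fun β hβ => by
    obtain ⟨g', hg', hind⟩ := hβ
    have hiso : g' ∈ Cfsg.isometryGroup F f := hg'.1
    have hdet1 : g' ∈ Cfsg.Geo.specialLinear ι F := hg'.2
    have hsim : g' ∈ GS f := ⟨1, fun v => by rw [Units.val_one, one_mul]; exact hiso v v⟩
    obtain rfl := (D.induced_iff' ⟨g', hsim⟩ β).1 hind
    rw [hH]
    refine ⟨⟨g', hsim⟩, (D.mem_rot hk).2 ((D.chi_odd hk h2 _).2 ?_), rfl⟩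
    have hm1 : D.mult (⟨g', hsim⟩ : GS f) = 1 :=
      D.mult_eq fun v => by rw [Units.val_one, one_mul]; exact hiso v v
    simp only [hm1, Units.val_one, one_pow]
    exact congrArg Units.val (MonoidHom.mem_ker.1 hdet1)
  have hinn_pso : Cfsg.Inn (Cfsg.POmega F f) ≤ Cfsg.psoAut F f := by
    rw [D.inn_eq_map]
    rintro _ ⟨_, ⟨p, hp, rfl⟩, rfl⟩
    refine Subgroup.subset_closure ⟨(D.iso p).1, ⟨hOmega p, MonoidHom.mem_ker.2 (Units.ext ?_)⟩,
      (D.induced_iff' (D.iso p) _).2 rfl⟩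
    exact (D.det_iso_iff h2 p).2 ((D.mem_commutator h2 p).1 hp).1
  have hpso_po : Cfsg.psoAut F f ≤ Cfsg.poAut F f :=
    Subgroup.closure_mono fun β ⟨g', hg', h⟩ => ⟨g', hg'.1, h⟩
  have hpo_pgo : Cfsg.poAut F f ≤ Cfsg.pgoAut F f :=
    Subgroup.closure_mono fun β ⟨g', hg', h⟩ =>
      ⟨g', ⟨1, fun v => by rw [Units.val_one, one_mul]; exact hg' v v⟩, h⟩
  have hHinn : ∀ y, Cfsg.IsConjUnder H (D.conjQ g) y → Cfsg.IsConjUnder (Cfsg.Inn (Cfsg.POmega F f)) (D.conjQ g) y := by
    rintro y ⟨h, hh, rfl⟩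
    rw [hH] at hh
    obtain ⟨k, hk', rfl⟩ := hh
    obtain ⟨t, ht, he⟩ := key hk'
    exact ⟨t, ht, he⟩
  refine ⟨fun y => ⟨⟨fun ⟨h, hh, he⟩ => ⟨h, hpso_le (hinn_pso hh), he⟩, hHinn y⟩,
    ⟨fun ⟨h, hh, he⟩ => ⟨h, hpso_le hh, he⟩, fun hy => ?_⟩⟩, fun y => ⟨fun ⟨h, hh, he⟩ => ⟨h, hpo_pgo hh, he⟩, ?_⟩⟩
  · obtain ⟨t, ht, he⟩ := hHinn y hy
    exact ⟨t, hinn_pso ht, he⟩
  rintro ⟨h, hh, rfl⟩
  obtain ⟨k, rfl⟩ := hpgo hh
  obtain ⟨o, ho⟩ := D.exists_not_rot hk
  have hoPO : D.conjQ (D.iso o) ∈ Cfsg.poAut F f :=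
    Subgroup.subset_closure ⟨(D.iso o).1, hOmega o, (D.induced_iff' (D.iso o) _).2 rfl⟩
  by_cases hkr : D.chi hk k = 1
  · obtain ⟨t, ht, he⟩ := key (k := k) hkr
    exact ⟨t, hpso_po (hinn_pso ht), he⟩
  · obtain ⟨t, ht, he⟩ := key (k := (D.iso o)⁻¹ * k) (by
      rw [D.mem_rot, map_mul, map_inv, ho, (mult_zmod2_cases (D.chi hk k)).resolve_left hkr, inv_mul_cancel])
    refine ⟨D.conjQ (D.iso o) * t, mul_mem hoPO (hpso_po (hinn_pso ht)), ?_⟩
    rw [map_mul, map_inv] at he
    calc D.conjQ k * D.conjQ g * (D.conjQ k)⁻¹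
        = D.conjQ (D.iso o) * ((D.conjQ (D.iso o))⁻¹ * D.conjQ k * D.conjQ g *
          ((D.conjQ (D.iso o))⁻¹ * D.conjQ k)⁻¹) * (D.conjQ (D.iso o))⁻¹ := by group
      _ = _ := by rw [he]; group

end Cfsg.Agent.Lib.GraphClasses.SemisimpleOrth
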