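import Cfsg.Agent.Lib.Forms.Det
import Cfsg.Prelude.Def_LieTypeDatum

/-!
Similitude groups of a matrix read as a bilinear form, and their transport along congruences.
-/

set_option autoImplicit false
set_option linter.unusedSectionVars false

namespace Cfsg.Agent.Lib.GraphClasses

open Matrix

variable {F : Type*} [Field F] {ι κ : Type} [Fintype ι] [DecidableEq ι] [Fintype κ] [DecidableEq κ]

/-- The similitudes of the form `uᵀ M v`. -/
def simB (M : Matrix ι ι F) : Subgroup (GL ι F) :=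
  Cfsg.Geo.similarityGroup fun u v => u ⬝ᵥ M *ᵥ v

theorem gram_mulVec_mul (A M : Matrix ι ι F) (u v : ι → F) :
    (A *ᵥ u) ⬝ᵥ M *ᵥ (A *ᵥ v) = u ⬝ᵥ (Aᵀ * M * A) *ᵥ v := by
  rw [← Matrix.mulVec_mulVec, ← Matrix.mulVec_mulVec, Matrix.dotProduct_mulVec u Aᵀ,
    Matrix.vecMul_transpose]

theorem ext_of_form {A B : Matrix ι ι F} (h : ∀ u v, u ⬝ᵥ A *ᵥ v = u ⬝ᵥ B *ᵥ v) : A = B := by
  ext i j
  simpa [Matrix.mulVec_single_one, single_one_dotProduct] using h (Pi.single i 1) (Pi.single j 1)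

theorem mem_simB {M : Matrix ι ι F} {g : GL ι F} :
    g ∈ simB M ↔ ∃ c : Fˣ, (g : Matrix ι ι F)ᵀ * M * (g : Matrix ι ι F) = (c : F) • M := by
  refine exists_congr fun c => ⟨fun h => ext_of_form fun u v => ?_, fun h u v => ?_⟩
  · rw [← gram_mulVec_mul, Matrix.smul_mulVec, dotProduct_smul, smul_eq_mul]
    exact h u v
  · show (_ *ᵥ u) ⬝ᵥ M *ᵥ (_ *ᵥ v) = (c : F) * (u ⬝ᵥ M *ᵥ v)
    rw [gram_mulVec_mul, h, Matrix.smul_mulVec, dotProduct_smul, smul_eq_mul]

theorem simB_smul (M : Matrix ι ι F) (a : Fˣ) : simB ((a : F) • M) = simB M := by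
  ext g
  rw [mem_simB, mem_simB]
  refine exists_congr fun c => ?_
  rw [Matrix.mul_smul, Matrix.smul_mul, smul_comm]
  exact (smul_right_injective _ a.ne_zero).eq_iff

theorem gsp_eq_simB (m : ℕ) : Cfsg.GSp m F = simB (Matrix.J (Fin m) F) := rfl

open QuadraticMap in
theorem quadSimilarityGroup_eq (h2 : (2 : F) ≠ 0) (Q : QuadraticForm F (ι → F)) {f : (ι → F) → F}
    (hf : ∀ v, f v = Q v) : Cfsg.Geo.quadSimilarityGroup (F := F) f = simB (Forms.gram Q) := by
  ext g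
  refine exists_congr fun c => ⟨fun h u v => ?_, fun h v => ?_⟩
  · show (_ *ᵥ u) ⬝ᵥ Forms.gram Q *ᵥ _ = (c : F) * (u ⬝ᵥ Forms.gram Q *ᵥ v)
    rw [← Forms.polar_eq_gram, ← Forms.polar_eq_gram, polar, polar, ← Matrix.mulVec_add,
      ← hf, ← hf, ← hf, ← hf, ← hf, ← hf, h, h, h]
    ring
  · have h1 : (_ *ᵥ v) ⬝ᵥ Forms.gram Q *ᵥ _ = (c : F) * (v ⬝ᵥ Forms.gram Q *ᵥ v) := h v v
    rw [← Forms.polar_eq_gram, ← Forms.polar_eq_gram, Forms.polar_self', Forms.polar_self', ← hf, ← hf] at h1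
    exact mul_left_cancel₀ h2 (h1.trans (mul_left_comm _ _ _))

/-! ### Scalars -/

theorem mem_scalars {g : GL ι F} :
    g ∈ Cfsg.Geo.scalars ι F ↔ ∃ c : Fˣ, GeneralLinearGroup.scalar ι c = g := by
  rw [Cfsg.Geo.mem_scalars_iff]
  refine exists_congr fun c => ⟨fun h => Units.ext ?_, fun h => ?_⟩
  · rw [GeneralLinearGroup.coe_scalar, h, scalar_apply, smul_one_eq_diagonal]
  · rw [← h, GeneralLinearGroup.coe_scalar, scalar_apply, smul_one_eq_diagonal]

theorem scalars_le_simB (M : Matrix ι ι F) : Cfsg.Geo.scalars ι F ≤ simB M := by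
  intro g hg
  obtain ⟨c, hc⟩ := (Cfsg.Geo.mem_scalars_iff g).1 hg
  refine mem_simB.2 ⟨c * c, ?_⟩
  rw [hc, Units.val_mul, transpose_smul, transpose_one, Matrix.smul_mul, Matrix.one_mul,
    Matrix.mul_smul, Matrix.mul_one, smul_smul]

/-! ### Transport -/

/-- A change of coordinates. -/
def coordChange (e : ι ≃ κ) (P : GL κ F) : GL ι F ≃* GL κ F :=
  (Units.mapEquiv (Matrix.reindexAlgEquiv F F e).toMulEquiv).trans (MulAut.conj P)

theorem coe_coordChange (e : ι ≃ κ) (P : GL κ F) (g : GL ι F) :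
    (coordChange e P g : Matrix κ κ F) =
      (P : Matrix κ κ F) * Matrix.reindex e e (g : Matrix ι ι F) * ((P⁻¹ : GL κ F) : Matrix κ κ F) := rfl

theorem map_scalars (e : ι ≃ κ) (P : GL κ F) :
    (Cfsg.Geo.scalars ι F).map (coordChange e P).toMonoidHom = Cfsg.Geo.scalars κ F := by
  have h : ∀ c : Fˣ, coordChange e P (GeneralLinearGroup.scalar ι c) = GeneralLinearGroup.scalar κ c := by
    intro c
    refine Units.ext ?_
    rw [coe_coordChange, GeneralLinearGroup.coe_scalar, GeneralLinearGroup.coe_scalar, scalar_apply,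
      scalar_apply, ← smul_one_eq_diagonal, ← smul_one_eq_diagonal, Matrix.reindex_apply,
      Matrix.submatrix_smul, Pi.smul_apply, Pi.smul_apply, Matrix.submatrix_one_equiv,
      Matrix.mul_smul, Matrix.mul_one, Matrix.smul_mul, Units.mul_inv]
  ext g
  rw [Subgroup.mem_map, mem_scalars]
  constructor
  · rintro ⟨x, hx, rfl⟩
    obtain ⟨c, rfl⟩ := mem_scalars.1 hx
    exact ⟨c, (h c).symm⟩
  · rintro ⟨c, rfl⟩
    exact ⟨_, mem_scalars.2 ⟨c, rfl⟩, h c⟩

theorem map_simB (e : ι ≃ κ) (P : GL κ F) (a : Fˣ) {M : Matrix ι ι F} {M' : Matrix κ κ F}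
    (h : (P : Matrix κ κ F)ᵀ * M' * (P : Matrix κ κ F) = (a : F) • Matrix.reindex e e M) :
    (simB M).map (coordChange e P).toMonoidHom = simB M' := by
  ext g'
  obtain ⟨g, rfl⟩ := (coordChange e P).surjective g'
  rw [Subgroup.mem_map_equiv, MulEquiv.symm_apply_apply, mem_simB, mem_simB]
  refine exists_congr fun c => ?_
  set R := Matrix.reindexAlgEquiv F F e
  have hT : ∀ A : Matrix ι ι F, R Aᵀ = (R A)ᵀ := fun A => rfl
  have h1 : ((g : Matrix ι ι F)ᵀ * M * (g : Matrix ι ι F) = (c : F) • M) ↔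
      (R (g : Matrix ι ι F))ᵀ * (R M) * R (g : Matrix ι ι F) = (c : F) • R M := by
    rw [← hT, ← map_mul, ← map_mul, ← map_smul]
    exact R.injective.eq_iff.symm
  have hM : R M = Matrix.reindex e e M := rfl
  rw [h1, coe_coordChange]
  set A := R (g : Matrix ι ι F)
  set p : Matrix κ κ F := (P : Matrix κ κ F)
  set p' : Matrix κ κ F := ((P⁻¹ : GL κ F) : Matrix κ κ F)
  have hp : p * p' = 1 := P.mul_inv
  have hpT : p'ᵀ * pᵀ = 1 := by rw [← transpose_mul, hp, transpose_one]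
  have hpT' : pᵀ * p'ᵀ = 1 := by rw [← transpose_mul, P.inv_mul, transpose_one]
  have hRA : Matrix.reindex e e (g : Matrix ι ι F) = A := rfl
  rw [hRA, hM]
  rw [show (p * A * p')ᵀ * M' * (p * A * p') = p'ᵀ * (Aᵀ * (pᵀ * M' * p) * A) * p' by
    simp only [transpose_mul, Matrix.mul_assoc], h]
  have hM' : M' = p'ᵀ * ((a : F) • Matrix.reindex e e M) * p' := by
    rw [← h, show p'ᵀ * (pᵀ * M' * p) * p' = (p'ᵀ * pᵀ) * M' * (p * p') by
      simp only [Matrix.mul_assoc], hpT, hp, Matrix.one_mul, Matrix.mul_one]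
  constructor
  · intro hA
    conv_rhs => rw [hM']
    rw [Matrix.mul_smul, Matrix.smul_mul, hA, Matrix.mul_smul, Matrix.smul_mul, Matrix.mul_smul,
      Matrix.smul_mul, Matrix.mul_smul, Matrix.smul_mul, smul_comm]
  · intro hA
    rw [hM'] at hA
    have h3 := congrArg (fun X => pᵀ * X * p) hA
    simp only [Matrix.mul_smul, Matrix.smul_mul] at h3
    simp only [← Matrix.mul_assoc, hpT', Matrix.one_mul] at h3
    simp only [Matrix.mul_assoc, show p' * p = 1 from P.inv_mul, Matrix.mul_one] at h3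
    rw [smul_comm, (smul_right_injective _ a.ne_zero).eq_iff] at h3
    simpa only [Matrix.mul_assoc] using h3

/-- Isomorphism of projective groups along a change of coordinates. -/
theorem nonempty_projQuot_congr {H : Subgroup (GL ι F)} {H' : Subgroup (GL κ F)}
    (Φ : GL ι F ≃* GL κ F) (hH : H.map Φ.toMonoidHom = H')
    (hZ : (Cfsg.Geo.scalars ι F).map Φ.toMonoidHom = Cfsg.Geo.scalars κ F) :
    Nonempty (Cfsg.projQuot H ≃* Cfsg.projQuot H') := by
  subst hH
  refine ⟨QuotientGroup.congr _ _ (Φ.subgroupMap H) ?_⟩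
  ext ⟨y, hy⟩
  rw [Subgroup.mem_map, Subgroup.mem_subgroupOf, ← hZ]
  constructor
  · rintro ⟨x, hx, hxy⟩
    exact ⟨x.1, hx, congrArg Subtype.val hxy⟩
  · rintro ⟨x, hx, hxy⟩
    obtain ⟨z, hz, hzy⟩ := hy
    have : x = z := Φ.injective (hxy.trans hzy.symm)
    subst this
    exact ⟨⟨x, hz⟩, hx, Subtype.ext hxy⟩

/-- Congruent forms have isomorphic projective similitude groups. -/
theorem nonempty_simB_congr (e : ι ≃ κ) (P : GL κ F) (a : Fˣ) {M : Matrix ι ι F} {M' : Matrix κ κ F}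
    (h : (P : Matrix κ κ F)ᵀ * M' * (P : Matrix κ κ F) = (a : F) • Matrix.reindex e e M) :
    Nonempty (Cfsg.projQuot (simB M) ≃* Cfsg.projQuot (simB M')) :=
  nonempty_projQuot_congr (coordChange e P) (map_simB e P a h) (map_scalars e P)

end Cfsg.Agent.Lib.GraphClasses
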